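import Cfsg.Agent.Fus.Product89.Local

/-!
The model read as a function on `Ω`, and the condition cutting out the elements used for `W`.
-/

set_option autoImplicit false

namespace CfsgLib.Product89

open Cfsg Cfsg.FusionSystem CfsgLib.Fus CfsgLib.NormalCent

variable {Ω : Type*} [Group Ω] {S T : Subgroup Ω} {F : Cfsg.FusionSystem S}
  {E : Cfsg.FusionSystem T} {p : ℕ} {Q : Subgroup Ω} {M : Type*} [Group M]
  {ι : normalizerIn S Q →* M}

open Classical in
/-- `ι` extended to all of `Ω`. -/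
noncomputable def jMap (ι : normalizerIn S Q →* M) (x : Ω) : M :=
  if h : x ∈ normalizerIn S Q then ι ⟨x, h⟩ else 1

theorem jMap_apply {x : Ω} (h : x ∈ normalizerIn S Q) : jMap ι x = ι ⟨x, h⟩ := dif_pos h

theorem jMap_coe (x : normalizerIn S Q) : jMap ι x = ι x := jMap_apply x.2

theorem jMap_mul {x y : Ω} (hx : x ∈ normalizerIn S Q) (hy : y ∈ normalizerIn S Q) :
    jMap ι (x * y) = jMap ι x * jMap ι y := by
  rw [jMap_apply hx, jMap_apply hy, jMap_apply (mul_mem hx hy), ← map_mul]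
  rfl

theorem jMap_inv {x : Ω} (hx : x ∈ normalizerIn S Q) : jMap ι x⁻¹ = (jMap ι x)⁻¹ := by
  rw [jMap_apply hx, jMap_apply (inv_mem hx), ← map_inv]
  rfl

theorem jMap_one : jMap ι (1 : Ω) = 1 := by
  rw [jMap_apply (one_mem _)]
  exact map_one ι

theorem jMap_mem_range {x : Ω} (hx : x ∈ normalizerIn S Q) : jMap ι x ∈ ι.range :=
  ⟨⟨x, hx⟩, (jMap_apply hx).symm⟩

theorem jMap_inj (hL : LocalModel F p Q M ι) {x y : Ω} (hx : x ∈ normalizerIn S Q)
    (hy : y ∈ normalizerIn S Q) (h : jMap ι x = jMap ι y) : x = y := by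
  rw [jMap_apply hx, jMap_apply hy] at h
  exact congrArg Subtype.val (hL.inj h)

theorem qMap_eq_jMap (hQ : Q ≤ S) (x : Q) : qMap ι hQ x = jMap ι x :=
  (jMap_apply (le_normalizerIn hQ x.2)).symm

/-- The centralizer of the image of `Q`. -/
def centM (ι : normalizerIn S Q →* M) (hQ : Q ≤ S) : Subgroup M :=
  Subgroup.centralizer ((qMap ι hQ).range : Set M)

/-- The image of `W ∩ T` with the centralizer of the image of `Q`. -/
def zGrp (T W : Subgroup Ω) (ι : normalizerIn S Q →* M) (hQ : Q ≤ S) : Subgroup M :=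
  ((W ⊓ T).subgroupOf (normalizerIn S Q)).map ι ⊔ centM ι hQ

theorem normal_centM (hL : LocalModel F p Q M ι) (hQ : Q ≤ S) : (centM ι hQ).Normal := by
  have := normal_range_qMap hL hQ
  unfold centM
  infer_instance

theorem jMap_mem_centM (hQ : Q ≤ S) {c : Ω} (hc : c ∈ centralizerIn S Q) :
    jMap ι c ∈ centM ι hQ := by
  rintro _ ⟨q, rfl⟩
  have hcN := centralizerIn_le_normalizerIn Q hc
  rw [qMap_eq_jMap, ← jMap_mul (le_normalizerIn hQ q.2) hcN,
    ← jMap_mul hcN (le_normalizerIn hQ q.2), hc.2 _ q.2]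

theorem jMap_mem_zGrp {W : Subgroup Ω} (hQ : Q ≤ S) {t : Ω} (ht : t ∈ W ⊓ T)
    (htN : t ∈ normalizerIn S Q) : jMap ι t ∈ zGrp T W ι hQ :=
  Subgroup.mem_sup_left ⟨⟨t, htN⟩, ht, (jMap_apply htN).symm⟩

/-- The elements whose commutators with `W` act on `Q` as elements of `W ∩ T`. -/
def condSet (T W : Subgroup Ω) (ι : normalizerIn S Q →* M) (hQ : Q ≤ S) : Set M :=
  {m | ∀ w ∈ W, m * jMap ι w * m⁻¹ * (jMap ι w)⁻¹ ∈ zGrp T W ι hQ}

section

variable {W : Subgroup Ω} (hL : LocalModel F p Q M ι) (hQ : Q ≤ S)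
  (hW : W ≤ normalizerIn S Q) (hTn : ∀ s ∈ S, ∀ t ∈ T, s * t * s⁻¹ ∈ T)

include hL hW

theorem conj_mem_zGrp {m : M} (hm : m ∈ condSet T W ι hQ) {z : M} (hz : z ∈ zGrp T W ι hQ) :
    m * z * m⁻¹ ∈ zGrp T W ι hQ := by
  have hCn := normal_centM hL hQ
  refine (sup_le (fun y hy => ?_) (fun y hy => Subgroup.mem_sup_right (hCn.conj_mem y hy m)) :
    zGrp T W ι hQ ≤ (zGrp T W ι hQ).comap (MulAut.conj m).toMonoidHom) hz
  obtain ⟨t, ht, rfl⟩ := hy
  show m * ι t * m⁻¹ ∈ zGrp T W ι hQ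
  rw [← jMap_coe t]
  have h1 := mul_mem (hm t ht.1) (jMap_mem_zGrp hQ ht t.2 : jMap ι t ∈ zGrp T W ι hQ)
  rwa [inv_mul_cancel_right] at h1

theorem condSet_mul {m n : M} (hm : m ∈ condSet T W ι hQ) (hn : n ∈ condSet T W ι hQ) :
    m * n ∈ condSet T W ι hQ := fun w hw => by
  have h1 := mul_mem (conj_mem_zGrp hL hQ hW hm (hn w hw)) (hm w hw)
  convert h1 using 1
  group

/-- The group of these elements. -/
def condGrp (T W : Subgroup Ω) {F : Cfsg.FusionSystem S} (hL : LocalModel F p Q M ι) (hQ : Q ≤ S)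
    (hW : W ≤ normalizerIn S Q) : Subgroup M where
  carrier := condSet T W ι hQ
  one_mem' := fun w _ => by simp
  mul_mem' := condSet_mul hL hQ hW
  inv_mem' := fun {m} hm => by
    have := hL.fin
    have hpow : ∀ k : ℕ, m ^ k ∈ condSet T W ι hQ := fun k => by
      induction k with
      | zero => intro w _; simp
      | succ k ih => rw [pow_succ]; exact condSet_mul hL hQ hW ih hm
    rw [inv_eq_of_mul_eq_one_right (b := m ^ (orderOf m - 1)) (by
      rw [← pow_succ', Nat.sub_add_cancel (orderOf_pos m), pow_orderOf_eq_one])]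
    exact hpow _

include hTn

/-- `W C_S(Q)` normalizes `zGrp`. -/
theorem conj_jMap_zGrp {y : Ω} (hy : y ∈ W ⊔ centralizerIn S Q) {z : M}
    (hz : z ∈ zGrp T W ι hQ) : jMap ι y * z * (jMap ι y)⁻¹ ∈ zGrp T W ι hQ := by
  have hCn := normal_centM hL hQ
  have hCN := centralizerIn_le_normalizerIn (S := S) Q
  refine (sup_le (fun u hu => ?_) (fun u hu => Subgroup.mem_sup_right (hCn.conj_mem u hu _)) :
    zGrp T W ι hQ ≤ (zGrp T W ι hQ).comap (MulAut.conj (jMap ι y)).toMonoidHom) hz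
  obtain ⟨t, ht, rfl⟩ := hu
  show jMap ι y * ι t * (jMap ι y)⁻¹ ∈ zGrp T W ι hQ
  rw [← jMap_coe t]
  have : y ∈ ((W ⊔ centralizerIn S Q : Subgroup Ω) : Set Ω) := hy
  rw [Subgroup.coe_mul_of_left_le_normalizer_right W _ (fun w hw => by
    refine Subgroup.mem_normalizer_iff.2 fun c => ⟨le_normalizer_centralizerIn (hW hw), fun h => ?_⟩
    have h' := le_normalizer_centralizerIn (hW (Subgroup.inv_mem _ hw)) h
    convert h' using 1
    group)] at this
  obtain ⟨w, hw, c, hc, rfl⟩ := this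
  rw [jMap_mul (hW hw) (hCN hc), mul_inv_rev,
    show jMap ι w * jMap ι c * jMap ι t * ((jMap ι c)⁻¹ * (jMap ι w)⁻¹) =
      jMap ι w * (jMap ι c * jMap ι t * (jMap ι c)⁻¹ * (jMap ι t)⁻¹) * (jMap ι w)⁻¹ *
        (jMap ι w * jMap ι t * (jMap ι w)⁻¹) by group]
  refine mul_mem (Subgroup.mem_sup_right (hCn.conj_mem _ ?_ _)) ?_
  · have h1 := mul_mem (jMap_mem_centM (ι := ι) hQ hc)
      (hCn.conj_mem _ (inv_mem (jMap_mem_centM (ι := ι) hQ hc)) (jMap ι (t : Ω)))
    convert h1 using 1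
    group
  · rw [← jMap_inv (hW hw), ← jMap_mul (hW hw) t.2, ← jMap_mul (mul_mem (hW hw) t.2)
      (inv_mem (hW hw))]
    exact jMap_mem_zGrp hQ ⟨mul_mem (mul_mem hw ht.1) (Subgroup.inv_mem _ hw),
      hTn w (hW hw).1 t ht.2⟩ (mul_mem (mul_mem (hW hw) t.2) (inv_mem (hW hw)))

/-- The condition extends to `W C_S(Q)`. -/
theorem cond_sup {m : M} (hm : m ∈ condGrp T W hL hQ hW) {x : Ω}
    (hx : x ∈ W ⊔ centralizerIn S Q) : m * jMap ι x * m⁻¹ * (jMap ι x)⁻¹ ∈ zGrp T W ι hQ := by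
  have hCn := normal_centM hL hQ
  have hCN := centralizerIn_le_normalizerIn (S := S) Q
  have hnorm := fun y (hy : y ∈ W ⊔ centralizerIn S Q) z (hz : z ∈ zGrp T W ι hQ) =>
    conj_jMap_zGrp hL hQ hW hTn hy hz
  let A : Subgroup Ω :=
    { carrier := {x | x ∈ W ⊔ centralizerIn S Q ∧
        m * jMap ι x * m⁻¹ * (jMap ι x)⁻¹ ∈ zGrp T W ι hQ}
      one_mem' := ⟨one_mem _, by simp [jMap_one]⟩
      mul_mem' := fun {a b} ha hb => ⟨mul_mem ha.1 hb.1, by
        have hle : W ⊔ centralizerIn S Q ≤ normalizerIn S Q := sup_le hW hCN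
        have h1 := mul_mem ha.2 (hnorm a ha.1 _ hb.2)
        rw [jMap_mul (hle ha.1) (hle hb.1)]
        convert h1 using 1
        group⟩
      inv_mem' := fun {a} ha => ⟨inv_mem ha.1, by
        have hle : W ⊔ centralizerIn S Q ≤ normalizerIn S Q := sup_le hW hCN
        have h1 := hnorm a⁻¹ (inv_mem ha.1) _ (inv_mem ha.2)
        rw [jMap_inv (hle ha.1)] at h1 ⊢
        convert h1 using 1
        group⟩ }
  refine ((sup_le (fun w hw => ⟨Subgroup.mem_sup_left hw, hm w hw⟩) (fun c hc => ?_) :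
    W ⊔ centralizerIn S Q ≤ A) hx).2
  refine ⟨Subgroup.mem_sup_right hc, Subgroup.mem_sup_right ?_⟩
  exact mul_mem (hCn.conj_mem _ (jMap_mem_centM (ι := ι) hQ hc) m)
    (inv_mem (jMap_mem_centM (ι := ι) hQ hc))

/-- Conjugation by `W C_S(Q)` preserves the condition. -/
theorem conj_mem_condGrp {m : M} (hm : m ∈ condGrp T W hL hQ hW) {b : Ω}
    (hb : b ∈ W ⊔ centralizerIn S Q) :
    jMap ι b * m * (jMap ι b)⁻¹ ∈ condGrp T W hL hQ hW := by
  have hCn := normal_centM hL hQ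
  have hle : W ⊔ centralizerIn S Q ≤ normalizerIn S Q :=
    sup_le hW (centralizerIn_le_normalizerIn Q)
  intro w hw
  have hwS : w ∈ W ⊔ centralizerIn S Q := Subgroup.mem_sup_left hw
  have h1 := cond_sup hL hQ hW hTn hm (mul_mem (mul_mem (inv_mem hb) hwS) hb)
  -- `b` normalizes the group of commutators
  have h2 : jMap ι b * (m * jMap ι (b⁻¹ * w * b) * m⁻¹ * (jMap ι (b⁻¹ * w * b))⁻¹) *
      (jMap ι b)⁻¹ ∈ zGrp T W ι hQ := conj_jMap_zGrp hL hQ hW hTn hb h1
  rw [jMap_mul (mul_mem (inv_mem (hle hb)) (hle hwS)) (hle hb),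
    jMap_mul (inv_mem (hle hb)) (hle hwS), jMap_inv (hle hb)] at h2
  convert h2 using 1
  group

omit hTn in
/-- An element of `C_S(Q)` satisfies the condition. -/
theorem jMap_centralizer_mem_condGrp {c : Ω} (hc : c ∈ centralizerIn S Q) :
    jMap ι c ∈ condGrp T W hL hQ hW := fun w _ => by
  have h1 := mul_mem (jMap_mem_centM (ι := ι) hQ hc)
    ((normal_centM hL hQ).conj_mem _ (inv_mem (jMap_mem_centM (ι := ι) hQ hc)) (jMap ι w))
  refine Subgroup.mem_sup_right ?_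
  convert h1 using 1
  group

end

end CfsgLib.Product89
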