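import Cfsg.Agent.Fus.Product89.Defs
import Cfsg.Agent.Fus.Comp89.Steps
import Cfsg.Agent.Fus.Focal
import Cfsg.Agent.Fus.NormalChar.Radical
import Cfsg.Agent.Fus.NormalCentralizer.Contains
import Cfsg.Agent.FusAut.PPower
import Cfsg.Agent.CharP.PResidual

/-!
Every map of the product is conjugation by `R` after a map of `E`, modulo `T`.
-/

set_option autoImplicit false

namespace CfsgLib.Product89

open Cfsg Cfsg.FusionSystem CfsgLib.Fus CfsgLib.NormalCent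

variable {Ω : Type*} [Group Ω] {S T : Subgroup Ω} {F : Cfsg.FusionSystem S}
  {E : Cfsg.FusionSystem T} {p : ℕ}

/-- `φ` is conjugation by `r` after a map of `E`, modulo `T`. -/
def CongWith (E : Cfsg.FusionSystem T) (R : Subgroup Ω) (r : Ω) (P : Subgroup Ω) (φ : P →* Ω) :
    Prop :=
  r ∈ R ∧ (∃ e, Mor E (P ⊓ T) e ∧ ∀ x : P, (x : Ω) ∈ T → φ x = r * e x * r⁻¹) ∧
    ∀ x : P, (r * (x : Ω) * r⁻¹)⁻¹ * φ x ∈ T

variable (hE : E.IsNormalIn F p)

include hE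

/-- `E` is invariant under conjugation by `S`. -/
theorem mor_conj_E {P : Subgroup Ω} {e : Ω → Ω} (he : Mor E P e) {s : Ω} (hs : s ∈ S) :
    Mor E (P.map (MulAut.conj s).toMonoidHom) (fun y => s * e (s⁻¹ * y * s) * s⁻¹) := by
  have hTS := le_S hE
  obtain ⟨φ, hφ, hφe⟩ := he
  have hP := hom_le E hφ
  obtain ⟨χ, hχ, hχe⟩ := strong_of_invariant hTS hE.1.2.2 P T hP le_rfl φ hφ (hom_mem E hφ) _
    (F.conj_mem hTS hs)
  have hle : P.map (MulAut.conj s).toMonoidHom ≤ (P.subgroupOf T).map (Cfsg.conjHom T s) := by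
    rintro _ ⟨x, hx, rfl⟩
    exact ⟨⟨x, hP hx⟩, hx, rfl⟩
  refine ⟨_, restrict_mem E hχ hle, fun y => ?_⟩
  obtain ⟨x, hx, hxy⟩ := y.2
  show χ ⟨(y : Ω), _⟩ = s * e (s⁻¹ * (y : Ω) * s) * s⁻¹
  have hxy' : s * x * s⁻¹ = (y : Ω) := hxy
  rw [show s⁻¹ * (y : Ω) * s = x by rw [← hxy']; group, ← hφe ⟨x, hx⟩]
  have h1 := hχe ⟨x, hx⟩ (by exact ⟨⟨x, hP hx⟩, hx, rfl⟩)
  refine Eq.trans ?_ (h1.trans rfl)
  congr 1
  exact Subtype.ext hxy.symm

variable {R : Subgroup Ω}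

theorem CongWith.comp (hR : R ≤ S) {P Q : Subgroup Ω} {φ : P →* Ω} {ψ : Q →* Ω} {r s : Ω}
    (hφ : CongWith E R r P φ) (hψ : CongWith E R s Q ψ) (h : ∀ x : P, φ x ∈ Q) :
    CongWith E R (s * r) P (ψ.comp (φ.codRestrict Q h)) := by
  obtain ⟨hr, ⟨e, he, hee⟩, hd⟩ := hφ
  obtain ⟨hs, ⟨e', he', hee'⟩, hd'⟩ := hψ
  have hrS := hR hr
  have hT := (closedT hE)
  refine ⟨mul_mem hs hr, ⟨(fun y => r⁻¹ * e' (r * y * r⁻¹) * r) ∘ e, ?_, fun x hx => ?_⟩,
    fun x => ?_⟩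
  · have h' := mor_conj_E hE he' (S.inv_mem hrS)
    simp only [inv_inv] at h'
    refine he.comp h' fun x hx => ?_
    refine ⟨φ ⟨x, hx.1⟩, ⟨h _, ?_⟩, ?_⟩
    · rw [hee ⟨x, hx.1⟩ hx.2]
      exact conj_mem_T hE hrS (he.mem hx)
    · show r⁻¹ * φ ⟨x, hx.1⟩ * r⁻¹⁻¹ = e x
      rw [hee ⟨x, hx.1⟩ hx.2]
      group
  · have hxT : φ x ∈ T := by
      rw [hee x hx]; exact conj_mem_T hE hrS (he.mem ⟨x.2, hx⟩)
    show ψ ⟨φ x, h x⟩ = _
    rw [hee' ⟨φ x, h x⟩ hxT]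
    show s * e' (φ x) * s⁻¹ = s * r * (r⁻¹ * e' (r * e x * r⁻¹) * r) * (s * r)⁻¹
    rw [← hee x hx]
    group
  · show _ * ψ ⟨φ x, h x⟩ ∈ T
    have h1 := mul_mem (conj_mem_T hE (hR hs) (hd x)) (hd' ⟨φ x, h x⟩)
    convert h1 using 1
    group

theorem CongWith.inv (hR : R ≤ S) {P Q : Subgroup Ω} {φ : P →* Ω} {ψ : Q →* Ω} {r : Ω}
    (hφ : CongWith E R r P φ) (hr' : φ.range = Q) (hφF : φ ∈ F.Hom P)
    (hinv : ∀ (x : P) (h : φ x ∈ Q), ψ ⟨φ x, h⟩ = (x : Ω)) : CongWith E R r⁻¹ Q ψ := by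
  obtain ⟨hr, ⟨e, he, hee⟩, hd⟩ := hφ
  have hrS := hR hr
  obtain ⟨A, hA, -⟩ := he.exists_img (le_refl (P ⊓ T))
  obtain ⟨i, hi, hil, -, -⟩ := he.exists_inv hA
  have hpre : ∀ y : Q, ∃ x : P, φ x = y ∧ ψ y = x ∧ ((y : Ω) ∈ T → (x : Ω) ∈ T) := by
    intro y
    obtain ⟨x, hx⟩ : (y : Ω) ∈ φ.range := hr'.symm ▸ y.2
    refine ⟨x, hx, ?_, fun hy => ?_⟩
    · rw [show y = ⟨φ x, hx.symm ▸ y.2⟩ from Subtype.ext hx.symm, hinv]
    · obtain ⟨g, hg, hge⟩ := exists_mor hφF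
      have h1 := (NormalChar.mor_mem_iff (closedT hE) hg x.2).1
      exact h1 (by rw [show g x = φ x from hge x, hx]; exact hy)
  refine ⟨inv_mem hr, ⟨fun y => r * i (r⁻¹ * y * r) * r⁻¹, ?_, fun y hy => ?_⟩, fun y => ?_⟩
  · refine (mor_conj_E hE hi hrS).restrict fun y hy => ?_
    obtain ⟨x, hx, -, hxT⟩ := hpre ⟨y, hy.1⟩
    refine ⟨r⁻¹ * y * r, hA.subset ⟨x, ⟨x.2, hxT hy.2⟩, ?_⟩, ?_⟩
    · rw [← show φ x = y from hx, hee x (hxT hy.2)]
      group
    · show r * (r⁻¹ * y * r) * r⁻¹ = y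
      group
  · obtain ⟨x, hx, hψx, hxT⟩ := hpre y
    rw [hψx, ← hx, hee x (hxT hy)]
    show (x : Ω) = r⁻¹ * (r * i (r⁻¹ * (r * e x * r⁻¹) * r) * r⁻¹) * r⁻¹⁻¹
    rw [show r⁻¹ * (r * e x * r⁻¹) * r = e x by group, hil x ⟨x.2, hxT hy⟩]
    group
  · obtain ⟨x, hx, hψx, -⟩ := hpre y
    rw [hψx, ← hx]
    have h1 := conj_mem_T hE (S.inv_mem hrS) (inv_mem (hd x))
    convert h1 using 1
    group

theorem congWith_conj (hR : R ≤ S) {P : Subgroup Ω} {g : Ω} (hP : P ≤ R) (hg : g ∈ R) :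
    CongWith E R g P (Cfsg.conjHom P g) := by
  refine ⟨hg, ⟨id, mor_id inf_le_right, fun x _ => rfl⟩, fun x => ?_⟩
  show (g * (x : Ω) * g⁻¹)⁻¹ * (g * (x : Ω) * g⁻¹) ∈ T
  rw [inv_mul_cancel]
  exact one_mem _

/-- The system of the congruent maps. -/
def congSys (hR : R ≤ S) : Cfsg.FusionSystem R where
  Hom P := {φ | φ ∈ (fullOn F hR).Hom P ∧ ∃ r, CongWith E R r P φ}
  le_of_mem h := (fullOn F hR).le_of_mem h.1
  injective_of_mem h := (fullOn F hR).injective_of_mem h.1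
  conj_mem hP hg := ⟨(fullOn F hR).conj_mem hP hg, _, congWith_conj hE hR hP hg⟩
  comp_mem := fun hφ hψ h => by
    obtain ⟨r, hr⟩ := hφ.2
    obtain ⟨s, hs⟩ := hψ.2
    exact ⟨(fullOn F hR).comp_mem hφ.1 hψ.1 h, _, hr.comp hE hR hs h⟩
  inv_mem := fun {P φ} hφ => by
    obtain ⟨r, hr⟩ := hφ.2
    obtain ⟨ψ, hψ, hψe⟩ := (fullOn F hR).inv_mem hφ.1
    exact ⟨ψ, ⟨hψ, _, hr.inv hE hR rfl hφ.1.1 fun x _ => hψe x⟩, hψe⟩

/-- Every map of the product is congruent. -/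
theorem exists_congWith (hR : R ≤ S) {P : Subgroup Ω} {φ : P →* Ω}
    (hφ : φ ∈ (prodSys F E p hR).Hom P) : ∃ r, CongWith E R r P φ := by
  refine (prodSys_le hR (D := congSys hE hR) (fun A γ hγ => ?_) P hφ).2
  refine (mem_autGroup_iff _ hγ.le).2 ⟨(mem_autGroup_iff (fullOn F hR) hγ.le).1 (hγ.mem_fullOn hR),
    1, one_mem _, ?_, fun x => ?_⟩
  · obtain ⟨b, hb, hbe⟩ := hγ.res
    obtain ⟨f, hf, hfe⟩ := exists_mor ((mem_autGroup_iff E inf_le_right).1 hb)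
    refine ⟨f, hf, fun x hx => ?_⟩
    show ((γ x : A) : Ω) = 1 * f x * 1⁻¹
    rw [one_mul, inv_one, mul_one, show f x = _ from hfe ⟨x, x.2, hx⟩]
    exact (hbe ⟨x, x.2, hx⟩).symm
  · show (1 * (x : Ω) * 1⁻¹)⁻¹ * ((γ x : A) : Ω) ∈ T
    rw [one_mul, inv_one, mul_one]
    exact hγ.disp x

variable [Finite S] [Fact p.Prime] (hS : IsPGroup p S)

include hS

/-- A `p'`-automorphism in the product displaces inside `T` and restricts into `E`. -/
theorem aut_of_prodSys (hR : R ≤ S) {P : Subgroup Ω} (hP : P ≤ R) {α : MulAut P}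
    (hα : α ∈ (prodSys F E p hR).autGroup P) (hco : (orderOf α).Coprime p) :
    (∀ x : P, (x : Ω)⁻¹ * ((α x : P) : Ω) ∈ T) ∧
      ∃ b ∈ E.autGroup (P ⊓ T), ∀ x : (P ⊓ T : Subgroup Ω),
        ((b x : (P ⊓ T : Subgroup Ω)) : Ω) =
          ((α (Subgroup.inclusion inf_le_left x) : P) : Ω) := by
  have : Finite P := finite_of_le (hP.trans hR)
  obtain ⟨k, hk⟩ := IsPGroup.iff_card.1 hS
  obtain ⟨r, hr⟩ := exists_congWith hE hR ((mem_autGroup_iff _ hP).1 hα)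
  have hid : CongWith E R 1 P (P.subtype.comp (1 : MulAut P).toMonoidHom) :=
    ⟨one_mem _, ⟨id, mor_id inf_le_right, fun x _ => by
      show (x : Ω) = 1 * (x : Ω) * 1⁻¹
      simp⟩,
      fun x => by
        show (1 * (x : Ω) * 1⁻¹)⁻¹ * (x : Ω) ∈ T
        simp⟩
  have hpow : ∀ (β : MulAut P) (s : Ω), CongWith E R s P (P.subtype.comp β.toMonoidHom) →
      ∀ i : ℕ, CongWith E R (s ^ i) P (P.subtype.comp (β ^ i).toMonoidHom) := by
    intro β s hs i
    induction i with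
    | zero => simpa using hid
    | succ i ih =>
      have h1 := ih.comp hE hR hs (fun x => ((β ^ i) x).2)
      rw [pow_succ' s, pow_succ' β]
      exact h1
  have h1 := hpow α r hr (p ^ k)
  rw [show r ^ p ^ k = 1 by
    rw [← hk]
    exact congrArg Subtype.val (pow_card_eq_one' (x := (⟨r, hR hr.1⟩ : S)))] at h1
  obtain ⟨m, hm⟩ := exists_pow_eq_self_of_coprime (x := α) (n := p ^ k) (hco.pow_right k).symm
  have h2 := hpow _ _ h1 m
  rw [one_pow, hm] at h2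
  obtain ⟨-, ⟨e, he, hee⟩, hd⟩ := h2
  refine ⟨fun x => ?_, ?_⟩
  · have h3 := hd x
    rwa [one_mul, inv_one, mul_one] at h3
  · have heval : ∀ x : (P ⊓ T : Subgroup Ω),
        ((α (Subgroup.inclusion inf_le_left x) : P) : Ω) = e x := fun x => by
      refine (hee (Subgroup.inclusion inf_le_left x) x.2.2).trans ?_
      rw [one_mul, inv_one, mul_one]
      rfl
    have : Finite (P ⊓ T : Subgroup Ω) := finite_of_le (inf_le_left.trans (hP.trans hR))
    have : Finite T := finite_of_le (le_S hE)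
    obtain ⟨⟨b, hb⟩, hbe⟩ := exists_aut_of_mor he (image_eq he fun x hx => ⟨by
      rw [← heval ⟨x, hx⟩]; exact SetLike.coe_mem _, he.mem hx⟩)
    exact ⟨b, hb, fun x => (hbe x).trans (heval x).symm⟩

omit [Finite S] [Fact p.Prime] hS in
theorem genElt_of_E {P : Subgroup Ω} (hTR : T ≤ R) (hP : TCentric F T P) {a : MulAut P}
    (ha : a ∈ E.autGroup P) (hco : (orderOf a).Coprime p) : GenElt F E p R P a := by
  have hPT := hP.1
  refine ⟨hPT.trans hTR, autGroup_mono hE.1.2.2.1 P ha, hco, by rwa [inf_of_le_left hPT],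
    fun x => mul_mem (inv_mem (hPT x.2)) (hPT (a x).2), ?_⟩
  have hr : (Subgroup.inclusion (le_inf le_rfl hPT : P ≤ P ⊓ T)).range = ⊤ :=
    MonoidHom.range_eq_top.2 fun x => ⟨⟨x, x.2.1⟩, Subtype.ext rfl⟩
  let e : P ≃* (P ⊓ T : Subgroup Ω) := MulEquiv.subgroupCongr (inf_of_le_left hPT).symm
  obtain ⟨φ, hφ, hφe⟩ : ∃ φ ∈ E.Hom (P ⊓ T), ∀ x : (P ⊓ T : Subgroup Ω),
      φ x = ((a ⟨x, x.2.1⟩ : P) : Ω) :=
    ⟨_, restrict_mem E ((mem_autGroup_iff E hPT).1 ha) inf_le_left, fun x => rfl⟩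
  exact ⟨MulAut.congr e a, mem_autGroup_of_apply E hφ fun x => (by rw [hφe]; rfl), fun x => rfl⟩

/-- `E` lies in the product. -/
theorem sub_prodSys (hTR : T ≤ R) (hR : R ≤ S) : E.IsSubsystemOf (prodSys F E p hR) := by
  have hTp : IsPGroup p T := hS.to_le (le_S hE)
  have : Finite T := finite_of_le (le_S hE)
  intro P φ hφ
  refine Fusion.Alperin.hom_induction hTp hE.1.1 (C := fun P φ => φ ∈ (prodSys F E p hR).Hom P)
    ?_ ?_ ?_ ?_ hφ
  · intro A hA a ha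
    have hAR := hA.centric.1.trans hTR
    refine (mem_autGroup_iff _ hAR).1 ?_
    have htc : TCentric F T A := tcentric_of_centric hE hA.centric
    refine (sup_le ?_ ?_ : _ ≤ (prodSys F E p hR).autGroup A)
      (FusAut.autGroup_le_sup (fullyNormalized_props hTp hE.1.1 hA.fullyNormalized).1 ha)
    · refine Subgroup.map_le_iff_le_comap.2 ((Subgroup.closure_le _).2 fun b hb => ?_)
      exact genElt_mem hR (genElt_of_E hE hTR htc b.2 (by
        show (orderOf (b : MulAut A)).Coprime p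
        rwa [Subgroup.orderOf_coe]))
    · intro b hb
      obtain ⟨t, ht, hte⟩ := mem_autInducedBy_iff.1 hb
      exact mem_autGroup_of_apply _ ((prodSys F E p hR).conj_mem hAR (hTR ht)) hte
  · exact fun hPQ _ _ h => restrict_mem _ h hPQ
  · exact fun _ _ h h₁ h₂ => (prodSys F E p hR).comp_mem h₁ h₂ h
  · intro P Q φ ψ _ _ hr hinv h₁
    obtain ⟨χ, hχ, -, hχl, -⟩ := exists_inv (prodSys F E p hR) h₁ hr
    refine hom_congr _ hχ fun y => ?_
    obtain ⟨x, hx⟩ : (y : Ω) ∈ φ.range := hr.symm ▸ y.2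
    rw [show y = ⟨φ x, hx.symm ▸ y.2⟩ from Subtype.ext hx.symm, hinv, hχl]

/-- The hyperfocal subgroup of the product is that of `E`. -/
theorem hyperfocal_prodSys (hTR : T ≤ R) (hR : R ≤ S) :
    (prodSys F E p hR).hyperfocalSubgroup p = E.hyperfocalSubgroup p := by
  have hTS := le_S hE
  refine le_antisymm ?_ (FusAut.hyperfocal_mono (sub_prodSys hE hS hTR hR) hTR)
  refine Comp89.hyperfocal_le_iff_displ _ fun P hP α hα hco x => ?_
  set U := E.hyperfocalSubgroup p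
  obtain ⟨hd, b, hb, hbe⟩ := aut_of_prodSys hE hS hR hP hα hco
  have : Finite P := finite_of_le (hP.trans hR)
  have := finite_mulAut P
  have : Finite (P ⊓ T : Subgroup Ω) := finite_of_le (inf_le_right.trans hTS)
  have := finite_mulAut (P ⊓ T : Subgroup Ω)
  have hbpow : ∀ (i : ℕ) (y : (P ⊓ T : Subgroup Ω)),
      ((α ^ i) (Subgroup.inclusion inf_le_left y) : P) = Subgroup.inclusion inf_le_left ((b ^ i) y) := by
    intro i
    induction i with
    | zero => intro y; rfl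
    | succ i ih =>
      intro y
      rw [pow_succ', MulAut.mul_apply, ih, pow_succ' b, MulAut.mul_apply]
      exact Subtype.ext (hbe _).symm
  have hbco : (orderOf b).Coprime p := hco.coprime_dvd_left (orderOf_dvd_of_pow_eq_one
    (MulEquiv.ext fun y => Subgroup.inclusion_injective inf_le_left (by
      rw [← hbpow, pow_orderOf_eq_one]; rfl)))
  have hbU : ∀ y : (P ⊓ T : Subgroup Ω), (y : Ω)⁻¹ * ((b y : (P ⊓ T : Subgroup Ω)) : Ω) ∈ U :=
    fun y => Subgroup.subset_closure ⟨P ⊓ T, ⟨b, hb⟩, y, inf_le_right,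
      CharP.mem_pResidual_of_coprime (by rwa [← Subgroup.orderOf_coe]), rfl⟩
  set d := x⁻¹ * α x with hdd
  have hdT : (d : Ω) ∈ T := hd x
  let V : Subgroup P := U.subgroupOf P
  have hUT : U ≤ T := FusAut.hyperfocal_le E
  have hαV : ∀ v ∈ V, α v ∈ V := fun v hv => by
    have h1 := hbe ⟨v, v.2, hUT hv⟩
    show ((α v : P) : Ω) ∈ U
    rw [show v = Subgroup.inclusion inf_le_left (⟨v, v.2, hUT hv⟩ : (P ⊓ T : Subgroup Ω)) from
      Subtype.ext rfl, ← h1, ← mul_inv_cancel_left (v : Ω) (b ⟨v, v.2, hUT hv⟩ : Ω)]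
    exact mul_mem hv (hbU ⟨v, v.2, hUT hv⟩)
  have hdfix : d⁻¹ * α d ∈ V := by
    have h1 := hbU ⟨d, d.2, hdT⟩
    rw [hbe] at h1
    exact h1
  have hiter : ∀ i : ℕ, (x * d ^ i)⁻¹ * (α ^ i) x ∈ V := by
    intro i
    induction i with
    | zero => simp
    | succ i ih =>
      have hαd : ∀ j : ℕ, (d ^ j)⁻¹ * α (d ^ j) ∈ V := by
        intro j
        induction j with
        | zero => simp
        | succ j hj =>
          have h1 : (d⁻¹ * ((d ^ j)⁻¹ * α (d ^ j)) * d) ∈ V := by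
            have h2 := conj_mem_hyperfocal E (T.inv_mem hdT)
              (hj : (((d ^ j)⁻¹ * α (d ^ j) : P) : Ω) ∈ U)
            rw [inv_inv] at h2
            exact h2
          have h3 := mul_mem h1 hdfix
          convert h3 using 1
          rw [pow_succ, map_mul]
          group
      have h1 := mul_mem (hαd i) (hαV _ ih)
      rw [pow_succ' α, MulAut.mul_apply]
      convert h1 using 1
      rw [map_mul, map_inv, map_mul, show α x = x * d by rw [hdd, mul_inv_cancel_left], pow_succ' d]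
      group
  have h1 := hiter (orderOf α)
  rw [pow_orderOf_eq_one, MulAut.one_apply, mul_inv_rev, mul_assoc, inv_mul_cancel, mul_one] at h1
  have h2 : d ^ orderOf α ∈ V := inv_inv (d ^ orderOf α) ▸ inv_mem h1
  obtain ⟨k, hk⟩ := (hS.to_le (hP.trans hR)) d
  obtain ⟨m, hm⟩ := exists_pow_eq_self_of_coprime (x := d) (n := orderOf α)
    ((hco.pow_right k).coprime_dvd_right (orderOf_dvd_of_pow_eq_one hk))
  have h3 : d ∈ V := hm ▸ pow_mem h2 m
  exact h3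

omit [Finite S] [Fact p.Prime] hS in
theorem mor_of_prodSys (hR : R ≤ S) {P : Subgroup Ω} {f : Ω → Ω}
    (hf : Mor (prodSys F E p hR) P f) : Mor F P f :=
  Comp89.mor_mono (prodSys_sub F E p hR) hf

/-- The residual of `E` is the residual of the product. -/
theorem residual_prodSys (hTR : T ≤ R) (hR : R ≤ S)
    (G₁ : Cfsg.FusionSystem ((prodSys F E p hR).hyperfocalSubgroup p))
    (E₁ : Cfsg.FusionSystem (E.hyperfocalSubgroup p))
    (hG₁ : (prodSys F E p hR).IsPResidual p G₁) (hE₁ : E.IsPResidual p E₁) (P : Subgroup Ω) :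
    G₁.Hom P = E₁.Hom P := by
  suffices key : ∀ (U : Subgroup Ω), U = E.hyperfocalSubgroup p → ∀ G' : Cfsg.FusionSystem U,
      G'.IsSaturated p → G'.HasPPowerIndexIn (prodSys F E p hR) p → G'.Hom P = E₁.Hom P by
    exact key _ (hyperfocal_prodSys hE hS hTR hR) G₁ hG₁.1 hG₁.2
  rintro U rfl G' hG' hG'i
  have hUT : E.hyperfocalSubgroup p ≤ T := FusAut.hyperfocal_le E
  have : Finite R := finite_of_le hR
  have hi : E₁.HasPPowerIndexIn (prodSys F E p hR) p := by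
    refine ⟨fun A φ h => sub_prodSys hE hS hTR hR A (hE₁.2.1 A h),
      (hyperfocal_prodSys hE hS hTR hR).le, fun A hA => ?_⟩
    refine Subgroup.map_le_iff_le_comap.2 ((Subgroup.closure_le _).2 fun α hα => ?_)
    have hco : (orderOf (α : MulAut A)).Coprime p := by rwa [Subgroup.orderOf_coe]
    obtain ⟨-, b, hb, hbe⟩ := aut_of_prodSys hE hS hR (hA.trans (hUT.trans hTR)) α.2 hco
    have hAT := hA.trans hUT
    have hαE : (α : MulAut A) ∈ E.autGroup A := by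
      refine mem_autGroup_of_apply E (restrict_mem E ((mem_autGroup_iff E inf_le_right).1 hb)
        (le_inf le_rfl hAT)) fun y => ?_
      exact (hbe (Subgroup.inclusion (le_inf le_rfl hAT) y)).symm
    exact hE₁.2.2.2 A hA ⟨⟨_, hαE⟩, CharP.mem_pResidual_of_coprime
      (by rwa [← Subgroup.orderOf_coe]), rfl⟩
  rw [FusAut.hom_eq_of_pPowerIndex (hS.to_le hR) (hUT.trans hTR) hG' hE₁.1 hG'i hi]

end CfsgLib.Product89
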