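import Cfsg.Agent.Fus.NormalCentralizer.Exists
import Cfsg.Agent.Fus.Meet.Lift
import Cfsg.Agent.Fus.Meet.Stab
import Cfsg.Agent.Fus.Meet.Extend
import Cfsg.Agent.Fus.CentricExtension
import Cfsg.Agent.FusFunctor.WeakClosure

/-!
Every automorphism in `E` of a fully normalized `T`-centric `Q` extends to `Q C_S(Q)` displacing the
centralizer inside `Q`.
-/

set_option autoImplicit false

namespace CfsgLib.Product89

open Cfsg Cfsg.FusionSystem CfsgLib.Fus CfsgLib.NormalCent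

variable {Ω : Type*} [Group Ω] {S T : Subgroup Ω} {F : Cfsg.FusionSystem S}
  {E : Cfsg.FusionSystem T} {p : ℕ} [Finite S] [Fact p.Prime]
  (hS : IsPGroup p S) (hE : E.IsNormalIn F p) {Q : Subgroup Ω}

include hS hE

omit hS [Finite S] [Fact p.Prime] in
theorem centric_of_tcentric (hQ : TCentric F T Q) : E.IsCentric Q := by
  refine ⟨hQ.1, fun R hR c hc => ?_⟩
  obtain ⟨φ, hφ, hr⟩ := hR
  obtain ⟨f, hf, hfe⟩ := exists_mor (hE.1.2.2.1 Q hφ)
  obtain ⟨x, hx, hxc⟩ := hQ.2 f hf c hc.1 fun x hx =>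
    hc.2 _ (hr ▸ ⟨⟨x, hx⟩, (hfe ⟨x, hx⟩).symm⟩ : f x ∈ R)
  exact hr ▸ ⟨⟨x, hx⟩, (hfe ⟨x, hx⟩).symm.trans hxc⟩

/-- A fully normalized subgroup of `T` has a largest normalizer in `T` in its class. -/
theorem card_normalizerIn_le (hQT : Q ≤ T) (hfn : F.IsFullyNormalized Q) {R : Subgroup Ω}
    (hR : F.IsConj Q R) : Nat.card (normalizerIn T R) ≤ Nat.card (normalizerIn T Q) := by
  have hF := hE.1.2.1
  obtain ⟨φ, -, hφr, ψ, hψ, hψe⟩ := exists_normalizer_map_fn hS hF hfn (isConj_symm hR)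
  have : Finite T := finite_of_le (le_S hE)
  have : Finite (normalizerIn T Q) := finite_of_le (normalizerIn_le Q)
  obtain ⟨g, hg, hge⟩ := exists_mor hψ
  have hsub : normalizerIn T R ≤ normalizerIn S R := fun x hx => ⟨le_S hE hx.1, hx.2⟩
  have hRN : R ≤ normalizerIn S R := le_normalizerIn (isConj_le_right hR)
  have hgR : g '' (R : Set Ω) = Q := by
    rw [← hφr]
    ext y
    constructor
    · rintro ⟨x, hx, rfl⟩
      exact ⟨⟨x, hx⟩, ((hge ⟨x, hRN hx⟩).trans (hψe ⟨x, hx⟩ (hRN hx))).symm⟩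
    · rintro ⟨x, rfl⟩
      exact ⟨x, x.2, (hge ⟨x, hRN x.2⟩).trans (hψe x (hRN x.2))⟩
  exact hg.card_le hsub fun x hx =>
    ⟨mor_mem_T hE hg (hsub hx) hx.1, (hg.map_normalizer hRN hgR (hsub hx) hx.2).2⟩

theorem fullyNormalized_E (hQT : Q ≤ T) (hfn : F.IsFullyNormalized Q) :
    E.IsFullyNormalized Q :=
  ⟨hQT, fun R ⟨φ, hφ, hr⟩ => card_normalizerIn_le hS hE hQT hfn ⟨φ, hE.1.2.2.1 Q hφ, hr⟩⟩

/-- The lift of a power of an automorphism normalizing `Aut_T(Q)`. -/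
theorem liftsQ_pow_of_normalizing (hQ : TCentric F T Q) (hfn : F.IsFullyNormalized Q)
    (hN : F.IsFullyNormalized (normalizerIn T Q))
    (ih : ∀ b ∈ E.autGroup (normalizerIn T Q), LiftsQ F (normalizerIn T Q) b)
    {a : MulAut Q} (ha : a ∈ E.autGroup Q)
    (hnorm : ∀ l ∈ normalizerIn T Q, ∃ t ∈ T, ∀ x : Q, ∀ hx : l * (x : Ω) * l⁻¹ ∈ Q,
      ((a ⟨l * (x : Ω) * l⁻¹, hx⟩ : Q) : Ω) = t * ((a x : Q) : Ω) * t⁻¹)
    {k : ℕ} (hk : Nat.card S = p ^ k) : LiftsQ F Q (a ^ p ^ k) := by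
  have hF := hE.1.2.1
  have hTS := le_S hE
  have hTp : IsPGroup p T := hS.to_le hTS
  have hQT := hQ.1
  have hQS : Q ≤ S := hQT.trans hTS
  have : Finite T := finite_of_le hTS
  set N := normalizerIn T Q with hNdef
  have hNT : N ≤ T := normalizerIn_le Q
  have hNS : N ≤ S := hNT.trans hTS
  have : Finite N := finite_of_le hNT
  have hQN : Q ≤ N := le_normalizerIn hQT
  obtain ⟨-, hrec⟩ := fullyNormalized_props hTp hE.1.1 (fullyNormalized_E hS hE hQT hfn)
  obtain ⟨g, hg, hga, hgi⟩ := exists_mor_of_aut hQT (⟨a, ha⟩ : E.autGroup Q)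
  obtain ⟨g₁, hg₁, hg₁e⟩ := hg.exists_ext hgi hrec hQN le_rfl fun l hl => by
    obtain ⟨t, ht, hte⟩ := hnorm l hl
    refine ⟨t, ht, fun x hx => ?_⟩
    have hlx : l * x * l⁻¹ ∈ Q := conj_mem_of_normalizer hl.2 hx
    rw [hga ⟨x, hx⟩, hga ⟨_, hlx⟩]
    exact hte ⟨x, hx⟩ hlx
  have hg₁Q : ∀ x ∈ Q, g₁ x ∈ Q := fun x hx => by
    rw [hg₁e x hx, hga ⟨x, hx⟩]; exact SetLike.coe_mem _
  have hg₁Qi : g₁ '' (Q : Set Ω) = Q := by
    conv_rhs => rw [← hgi]
    exact Set.image_congr hg₁e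
  have hg₁N : ∀ x ∈ N, g₁ x ∈ N := fun x hx => hg₁.map_normalizer hQN hg₁Qi hx hx.2
  obtain ⟨⟨a₁, ha₁⟩, ha₁e⟩ := exists_aut hg₁ le_rfl hg₁N
  obtain ⟨f, hf, hfa, hfc⟩ := ih a₁ ha₁
  have hfm := LiftsQ.mapsTo hf hfa hfc
  have hfN : ∀ x ∈ N, f x = g₁ x := fun x hx => (hfa ⟨x, hx⟩).trans (ha₁e ⟨x, hx⟩)
  have hNc := fullyCentralized_of_fullyNormalized hS hF hN
  set C₁ := centralizerIn S N with hC₁
  set W := N ⊔ C₁ with hW
  have hWS : W ≤ S := hf.le
  have : Finite W := finite_of_le hWS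
  have hNW : N ≤ W := le_sup_left
  have hC₁W : C₁ ≤ W := le_sup_right
  have hC₁C : C₁ ≤ centralizerIn S Q := centralizerIn_antitone hQN
  have hfNi : f '' (N : Set Ω) = N := image_eq (hf.restrict hNW) fun x hx => hfN x hx ▸ hg₁N x hx
  have hfC : ∀ x ∈ C₁, f x ∈ C₁ := fun x hx =>
    map_centralizerIn hf hNW hfNi (hC₁W hx) hx
  have hfWi : f '' (W : Set Ω) = W := image_eq hf hfm
  obtain ⟨f', hf', hf'f, hff', hf'i⟩ := hf.exists_inv hfWi
  have hf'm : ∀ x ∈ W, f' x ∈ W := fun x hx => hf'i.subset ⟨x, hx, rfl⟩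
  have hCn : ∀ c ∈ centralizerIn S Q, c ∈ normalizerIn S N := by
    intro c hc
    have key : ∀ c ∈ centralizerIn S Q, ∀ x ∈ N, c * x * c⁻¹ ∈ N := fun c hc x hx =>
      ⟨conj_mem_T hE hc.1 hx.1, mul_mem (mul_mem (centralizerIn_le_normalizerIn Q hc).2 hx.2)
        (Subgroup.inv_mem _ (centralizerIn_le_normalizerIn Q hc).2)⟩
    refine ⟨hc.1, Subgroup.mem_normalizer_iff.2 fun x => ⟨key c hc x, fun hx => ?_⟩⟩
    have h := key c⁻¹ (inv_mem hc) _ hx
    convert h using 1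
    group
  -- the twist of `f` by a centralizing element is induced by an element of `S`
  have main : ∀ c ∈ centralizerIn S Q, ∃ z ∈ Q, z ∈ Subgroup.centralizer (Q : Set Ω) ∧ ∃ d ∈ C₁,
      ∀ x ∈ W, f (c * x * c⁻¹) = (c * z * d) * f x * (c * z * d)⁻¹ := by
    intro c hc
    have hcN := hCn c hc
    obtain ⟨φ, hφ, hφr⟩ : ∃ φ ∈ F.Hom N, φ.range = N ∧
        ∀ x : N, φ x = c⁻¹ * (x : Ω) * c := by
      refine ⟨Cfsg.conjHom N c⁻¹, F.conj_mem hNS (S.inv_mem hc.1), ?_, fun x => ?_⟩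
      · ext y
        constructor
        · rintro ⟨x, rfl⟩
          exact conj_mem_of_normalizer (Subgroup.inv_mem _ hcN.2) x.2
        · intro hy
          refine ⟨⟨c * y * c⁻¹, conj_mem_of_normalizer hcN.2 hy⟩, ?_⟩
          show c⁻¹ * (c * y * c⁻¹) * c⁻¹⁻¹ = y
          group
      · show c⁻¹ * (x : Ω) * c⁻¹⁻¹ = _
        rw [inv_inv]
    obtain ⟨hφr, hφe⟩ := hφr
    have hcm : ∀ x : N, c⁻¹ * (x : Ω) * c ∈ N := fun x => by
      have h0 : φ x ∈ φ.range := ⟨x, rfl⟩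
      rwa [hφr, hφe] at h0
    set u := MulAut.congr (isoOf hφ hφr) a₁
    have hu : u ∈ E.autGroup N := congr_mem_E hE hφ hφr hNT ha₁
    have hua : ∀ x : N, ((u ⟨c⁻¹ * (x : Ω) * c, hcm x⟩ : N) : Ω) =
        c⁻¹ * g₁ x * c := fun x => by
      have e : (⟨c⁻¹ * (x : Ω) * c, hcm x⟩ : N) = isoOf hφ hφr x :=
        Subtype.ext (by rw [isoOf_apply, hφe])
      rw [e]
      show ((isoOf hφ hφr (a₁ ((isoOf hφ hφr).symm (isoOf hφ hφr x))) : N) : Ω) = _
      rw [MulEquiv.symm_apply_apply, isoOf_apply, hφe, ha₁e]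
    have hfix : ∀ x : N, (x : Ω) ∈ Q → (u * a₁⁻¹) x = x := by
      intro x hx
      obtain ⟨q, hq, hqx⟩ := hg₁Qi.symm.subset hx
      have e : a₁⁻¹ x = (⟨q, hQN hq⟩ : N) := by
        apply a₁.injective
        rw [MulAut.apply_inv_self]
        exact Subtype.ext (by rw [ha₁e]; exact hqx.symm)
      refine Subtype.ext ?_
      rw [MulAut.mul_apply, e]
      have h1 := hua ⟨q, hQN hq⟩
      have hcq : c⁻¹ * q * c = q := by rw [mul_assoc, hc.2 q hq, inv_mul_cancel_left]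
      have eq' : (⟨q, hQN hq⟩ : N) = ⟨c⁻¹ * q * c, hcm ⟨q, hQN hq⟩⟩ := Subtype.ext hcq.symm
      rw [eq']
      refine h1.trans ?_
      rw [hqx, mul_assoc, hc.2 _ hx, inv_mul_cancel_left]
    obtain ⟨z, hzQ, hz⟩ := CentricExt.aut_fix_centric hTp hE.1.1 hNT hQN (fun x hx => hx.2)
      (centric_of_tcentric hE hQ) (mul_mem hu (inv_mem ha₁)) hfix
    have hzC : (z : Ω) ∈ Subgroup.centralizer (Q : Set Ω) := fun q hq => by
      have h1 := congrArg Subtype.val ((hz ⟨q, hQN hq⟩).symm.trans (hfix ⟨q, hQN hq⟩ hq))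
      change (z : Ω) * q * (z : Ω)⁻¹ = q at h1
      exact (mul_inv_eq_iff_eq_mul.1 h1).symm
    have hrel : ∀ y ∈ N, f (c * y * c⁻¹) = c * z * f y * (c * z)⁻¹ := by
      intro y hy
      have hy' := conj_mem_of_normalizer hcN.2 hy
      have h1 := hua ⟨_, hy'⟩
      have h2 : ((u ⟨y, hy⟩ : N) : Ω) = z * g₁ y * (z : Ω)⁻¹ := by
        have h3 := congrArg Subtype.val (hz (a₁ ⟨y, hy⟩))
        rw [MulAut.mul_apply, MulAut.inv_apply_self] at h3
        rw [h3]
        show (z : Ω) * ((a₁ ⟨y, hy⟩ : N) : Ω) * (z : Ω)⁻¹ = _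
        rw [ha₁e]
      have e : (⟨c⁻¹ * (c * y * c⁻¹) * c, by group; exact hy⟩ : N) = ⟨y, hy⟩ :=
        Subtype.ext (show c⁻¹ * (c * y * c⁻¹) * c = y by group)
      rw [e, h2] at h1
      rw [hfN _ hy', hfN y hy]
      calc g₁ (c * y * c⁻¹) = c * (c⁻¹ * g₁ (c * y * c⁻¹) * c) * c⁻¹ := by group
        _ = _ := by rw [← h1]; group
    set t := c * (z : Ω) with ht
    have htS : t ∈ S := mul_mem hc.1 (hTS (hNT z.2))
    have htN : t ∈ normalizerIn S N :=
      mul_mem hcN (le_normalizerIn hNS z.2)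
    have htW := Meet.normalizer_sup htN
    have hcW := Meet.normalizer_sup hcN
    set ε : Ω → Ω := (fun x => t⁻¹ * x * t) ∘ f ∘ (fun x => c * x * c⁻¹) ∘ f' with hεdef
    have hε : Mor F W ε := by
      have hg : Mor F W (fun x => t⁻¹ * x * t) := by
        simpa only [inv_inv] using mor_conj hWS (S.inv_mem htS)
      exact ((hf'.comp (mor_conj hWS hc.1) hf'm).comp hf
        fun x hx => conj_mem_of_normalizer hcW (hf'm x hx)).comp hg
        fun x hx => hfm _ (conj_mem_of_normalizer hcW (hf'm x hx))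
    have hεN : ∀ x ∈ N, ε x = x := by
      intro x hx
      obtain ⟨y, hy, rfl⟩ := hfNi.symm.subset hx
      show t⁻¹ * f (c * f' (f y) * c⁻¹) * t = f y
      rw [hf'f y (hNW hy), hrel y hy]
      group
    have hεC : ∀ x ∈ C₁, x⁻¹ * ε x ∈ N := by
      intro x hx
      have hy : f' x ∈ C₁ := by
        obtain ⟨y, hy, hyx⟩ := (Meet.image_centralizer hNc hf hNW hC₁W hfNi).1.symm.subset hx
        rw [← hyx, hf'f y (hC₁W hy)]; exact hy
      set y := f' x
      have hxy : x = f y := (hff' x (hC₁W hx)).symm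
      have hcy : c * y * c⁻¹ ∈ C₁ := le_normalizer_centralizerIn hcN hy
      show x⁻¹ * (t⁻¹ * f (c * y * c⁻¹) * t) ∈ N
      have h1 : x⁻¹ * (t⁻¹ * f (c * y * c⁻¹) * t) =
          (y⁻¹ * f y)⁻¹ * (t⁻¹ * ((c * y * c⁻¹)⁻¹ * f (c * y * c⁻¹)) * t) := by
        have hzy : (z : Ω) * y = y * z := hy.2 _ z.2
        rw [hxy, ht]
        calc _ = (f y)⁻¹ * ((z : Ω)⁻¹ * y * z) * (((z : Ω)⁻¹ * c⁻¹) *
              ((c * y * c⁻¹)⁻¹ * f (c * y * c⁻¹)) * (c * z)) := by group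
          _ = _ := by
            rw [show (z : Ω)⁻¹ * y * z = y by rw [mul_assoc, ← hzy, inv_mul_cancel_left]]
            group
      rw [h1]
      refine mul_mem (inv_mem (hfc y hy)) ?_
      have h2 := conj_mem_of_normalizer (Subgroup.inv_mem _ htN.2) (hfc _ hcy)
      rwa [inv_inv] at h2
    have hεm : ∀ x ∈ W, ε x ∈ W := fun x hx => mem_of_sup hε le_rfl
      (fun y hy => (hεN y hy).symm ▸ hNW hy)
      (fun y hy => by
        rw [← mul_inv_cancel_left y (ε y)]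
        exact mul_mem (hC₁W hy) (hNW (hεC y hy))) hx
    have hεk : ∀ x ∈ W, ε^[p ^ k] x = x := by
      intro x hx
      have hit := (mor_iterate hε hεm (p ^ k)).1
      refine (show W ≤ fixedBy hit from sup_le (fun y hy => ⟨hNW hy, ?_⟩)
        fun y hy => ⟨hC₁W hy, ?_⟩) hx |>.2
      · have : ∀ i, ε^[i] y = y := fun i => by
          induction i with
          | zero => rfl
          | succ i hi => rw [Function.iterate_succ_apply', hi, hεN y hy]
        exact this _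
      · rw [iterate_mul_fixed hε (hC₁W hy) (hNW (hεC y hy)) (mul_inv_cancel_left _ _).symm
          (hεN _ (hεC y hy))]
        have h1 : (y⁻¹ * ε y) ^ p ^ k = 1 := by
          rw [← hk]
          exact congrArg Subtype.val (pow_card_eq_one' (x := (⟨_, hNS (hεC y hy)⟩ : S)))
        rw [h1, mul_one]
    obtain ⟨d, hd, hde⟩ := Meet.exists_cent_of_pElement hS hF hNc hε hεN hεk
    refine ⟨z, hzQ, hzC, d, hd, fun x hx => ?_⟩
    have hxc : c * x * c⁻¹ ∈ W := conj_mem_of_normalizer hcW hx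
    have h1 := hde (f x) (hfm x hx)
    change t⁻¹ * f (c * f' (f x) * c⁻¹) * t = d * f x * d⁻¹ at h1
    rw [hf'f x hx] at h1
    calc f (c * x * c⁻¹) = t * (t⁻¹ * f (c * x * c⁻¹) * t) * t⁻¹ := by group
      _ = _ := by rw [h1, ht]; group
  -- the extension to `N C_S(Q)`
  set C := centralizerIn S Q with hC
  set L := N ⊔ C with hL
  let K : Subgroup Ω :=
    { carrier := {l | l ∈ normalizerIn S W ∧
        ∃ s ∈ S, ∀ x ∈ W, f (l * x * l⁻¹) = s * f x * s⁻¹}
      one_mem' := ⟨one_mem _, 1, S.one_mem, fun x _ => by simp⟩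
      mul_mem' := fun {u v} ⟨hu, s, hs, hse⟩ ⟨hv, r, hr, hre⟩ => ⟨mul_mem hu hv, s * r,
        S.mul_mem hs hr, fun x hx => by
          have h1 := hse _ (conj_mem_of_normalizer hv.2 hx)
          rw [hre x hx] at h1
          rw [show u * v * x * (u * v)⁻¹ = u * (v * x * v⁻¹) * u⁻¹ by group, h1]
          group⟩
      inv_mem' := fun {v} ⟨hv, r, hr, hre⟩ => ⟨inv_mem hv, r⁻¹, S.inv_mem hr, fun x hx => by
          have h1 := hre _ (conj_mem_of_normalizer (Subgroup.inv_mem _ hv.2) hx)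
          rw [show v * (v⁻¹ * x * v⁻¹⁻¹) * v⁻¹ = x by group] at h1
          rw [h1]
          group⟩ }
  have hWL : W ≤ L := sup_le_sup_left hC₁C N
  have hLK : L ≤ K := by
    refine sup_le (fun l hl => ⟨le_normalizerIn hWS (hNW hl), f l, hWS (hfm l (hNW hl)),
      fun x hx => hf.map_conj (hNW hl) hx⟩) fun c hc => ?_
    obtain ⟨z, hz, -, d, hd, he⟩ := main c hc
    exact ⟨⟨hc.1, Meet.normalizer_sup (hCn c hc)⟩, c * z * d,
      mul_mem (mul_mem hc.1 (hQS hz)) hd.1, he⟩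
  obtain ⟨β, hβ, hβe⟩ := hf.exists_ext hfWi (Meet.receptive_sup hS hF hNc) hWL
    (fun l hl => (hLK hl).1) fun l hl => (hLK hl).2
  have hQC : Q ⊔ C ≤ L := sup_le_sup_right hQN C
  have hβQ : ∀ x : Q, β x = ((a x : Q) : Ω) := fun x =>
    (hβe x (hNW (hQN x.2))).trans ((hfN x (hQN x.2)).trans ((hg₁e x x.2).trans (hga x)))
  have hβQi : β '' (Q : Set Ω) = Q := by
    conv_rhs => rw [← hgi]
    exact Set.image_congr fun x hx => (hβQ ⟨x, hx⟩).trans (hga ⟨x, hx⟩).symm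
  have hβC : ∀ c ∈ C, β c ∈ C := fun c hc =>
    map_centralizerIn hβ (hQN.trans le_sup_left) hβQi (Subgroup.mem_sup_right hc) hc
  have hβm : ∀ x ∈ Q ⊔ C, β x ∈ Q ⊔ C := fun x hx => mem_of_sup hβ hQC
    (fun y hy => Subgroup.mem_sup_left (hβQi.subset ⟨y, hy, rfl⟩))
    (fun y hy => Subgroup.mem_sup_right (hβC y hy)) hx
  have hdec : ∀ c ∈ C, ∃ z ∈ Q, ∃ d ∈ C₁, c⁻¹ * β c = z * d := by
    intro c hc
    obtain ⟨z, hz, -, d, hd, he⟩ := main c hc
    have hcL : c ∈ L := Subgroup.mem_sup_right hc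
    have hcW := Meet.normalizer_sup (hCn c hc)
    refine ⟨z, hz, d * ((c * z * d)⁻¹ * β c), mul_mem hd ?_, by group⟩
    refine ⟨mul_mem (Subgroup.inv_mem _ (mul_mem (mul_mem hc.1 (hQS hz)) hd.1)) (hβC c hc).1,
      fun x hx => ?_⟩
    obtain ⟨y, hy, rfl⟩ := hfNi.symm.subset hx
    have h2 : β (c * y * c⁻¹) = β c * β y * (β c)⁻¹ := hβ.map_conj hcL (Subgroup.mem_sup_left hy)
    rw [hβe _ (conj_mem_of_normalizer hcW (hNW hy)), hβe _ (hNW hy), he y (hNW hy)] at h2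
    calc f y * ((c * z * d)⁻¹ * β c)
        = (c * z * d)⁻¹ * ((c * z * d) * f y * (c * z * d)⁻¹) * β c := by group
      _ = (c * z * d)⁻¹ * (β c * f y * (β c)⁻¹) * β c := by rw [h2]
      _ = _ := by group
  have hstab : ∀ c ∈ C, (c⁻¹ * β c)⁻¹ * β (c⁻¹ * β c) ∈ Q := by
    intro c hc
    obtain ⟨z, hz, d, hd, he⟩ := hdec c hc
    have hzL : z ∈ L := Subgroup.mem_sup_left (hQN hz)
    have hdL : d ∈ L := Subgroup.mem_sup_right (hC₁C hd)
    rw [he, hβ.map_mul hzL hdL, hβQ ⟨z, hz⟩, hβe d (hC₁W hd), mul_inv_rev]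
    have hq : z⁻¹ * ((a ⟨z, hz⟩ : Q) : Ω) ∈ Q := mul_mem (inv_mem hz) (SetLike.coe_mem _)
    have hw : d⁻¹ * f d ∈ Q := by
      refine tcentric_id hQ hTS ⟨hNT (hfc d hd), ?_⟩
      exact (mul_mem (inv_mem (hC₁C hd)) (hC₁C (hfC d hd))).2
    have e : d⁻¹ * z⁻¹ * (((a ⟨z, hz⟩ : Q) : Ω) * f d) =
        (z⁻¹ * ((a ⟨z, hz⟩ : Q) : Ω)) * (d⁻¹ * f d) := by
      have hdz : d⁻¹ * (z⁻¹ * ((a ⟨z, hz⟩ : Q) : Ω)) =
          (z⁻¹ * ((a ⟨z, hz⟩ : Q) : Ω)) * d⁻¹ := ((inv_mem (hC₁C hd) : d⁻¹ ∈ C).2 _ hq).symm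
      rw [← mul_assoc (z⁻¹ * _), ← hdz]
      group
    rw [e]
    exact mul_mem hq hw
  have hiter : ∀ c ∈ C, ∀ i : ℕ, ∃ q ∈ Q, β^[i] c = c * (c⁻¹ * β c) ^ i * q := by
    intro c hc i
    have hd : c⁻¹ * β c ∈ C := mul_mem (inv_mem hc) (hβC c hc)
    induction i with
    | zero => exact ⟨1, one_mem _, by simp⟩
    | succ i hi =>
      obtain ⟨q, hq, he⟩ := hi
      set δ := c⁻¹ * β c with hδ
      set q₀ := δ⁻¹ * β δ with hq₀d
      have hq₀ : q₀ ∈ Q := hstab c hc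
      refine ⟨q₀ ^ i * β q, mul_mem (pow_mem hq₀ i) (hβQi.subset ⟨q, hq, rfl⟩), ?_⟩
      have hpow : β (δ ^ i) = δ ^ i * q₀ ^ i := by
        have h1 : β δ = δ * q₀ := (mul_inv_cancel_left _ _).symm
        have hcomm : Commute δ q₀ := (hd.2 q₀ hq₀).symm
        rw [← hcomm.mul_pow, ← h1]
        have hδL : δ ∈ L := Subgroup.mem_sup_right hd
        clear hcomm h1 he hq₀ hq₀d
        induction i with
        | zero => simpa using map_one_of_mor hβ
        | succ i hi => rw [pow_succ, pow_succ, hβ.map_mul (pow_mem hδL i) hδL, hi]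
      rw [Function.iterate_succ_apply', he, hβ.map_mul (Subgroup.mem_sup_right
          (mul_mem hc (pow_mem hd i))) (Subgroup.mem_sup_left (hQN hq)),
        hβ.map_mul (Subgroup.mem_sup_right hc) (Subgroup.mem_sup_right (pow_mem hd i)), hpow,
        show β c = c * δ from (mul_inv_cancel_left _ _).symm, pow_succ']
      group
  refine ⟨β^[p ^ k], (mor_iterate (hβ.restrict hQC) hβm _).1, fun x => ?_, fun c hc => ?_⟩
  · exact iterate_eq_aut hβQ (p ^ k) x
  · obtain ⟨q, hq, he⟩ := hiter c hc (p ^ k)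
    have h1 : (c⁻¹ * β c) ^ p ^ k = 1 := by
      rw [← hk]
      exact congrArg Subtype.val
        (pow_card_eq_one' (x := (⟨_, mul_mem (S.inv_mem hc.1) (hβC c hc).1⟩ : S)))
    rw [he, h1, mul_one, inv_mul_cancel_left]
    exact hq

/-- Every automorphism in `E` of a fully normalized `T`-centric subgroup lifts. -/
theorem liftsQ_all (hQ : TCentric F T Q) (hfn : F.IsFullyNormalized Q) {a : MulAut Q}
    (ha : a ∈ E.autGroup Q) : LiftsQ F Q a := by
  have hF := hE.1.2.1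
  have hTS := le_S hE
  have hTp : IsPGroup p T := hS.to_le hTS
  have : Finite T := finite_of_le hTS
  induction hn : Nat.card T - Nat.card Q using Nat.strong_induction_on generalizing Q with
  | _ n ih =>
  have hQT := hQ.1
  have hQS : Q ≤ S := hQT.trans hTS
  by_cases hQe : Q = T
  · subst hQe; exact liftsQ_of_top hE ha
  have core : ∀ {R : Subgroup Ω}, TCentric F T R → F.IsFullyNormalized R → R ≠ T →
      F.IsFullyNormalized (normalizerIn T R) → Nat.card R = Nat.card Q →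
      ∀ b ∈ E.autGroup R, LiftsQ F R b := by
    intro R hR hRn hRne hNn hcard b hb
    have hRT := hR.1
    have hRS := hRT.trans hTS
    have hlt := FusFunctor.card_lt_normalizerIn hTp hRT hRne
    have hIH : ∀ c ∈ E.autGroup (normalizerIn T R), LiftsQ F (normalizerIn T R) c := fun c hc =>
      ih _ (by
        have := Subgroup.card_le_of_le (normalizerIn_le (S := T) R)
        omega) (Meet.tcentric_mono hR (le_normalizerIn hRT) (normalizerIn_le R)) hNn hc rfl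
    obtain ⟨k, hk⟩ := IsPGroup.iff_card.1 hS
    have : Finite R := finite_of_le hRS
    have := finite_mulAut R
    set A := E.autGroup R
    obtain ⟨⟨-, U, hU⟩, -⟩ := fullyNormalized_props hTp hE.1.1 (fullyNormalized_E hS hE hRT hRn)
    set P := (NormalCent.pGen E p R).subgroupOf A with hP
    have hPn : P.Normal := by
      refine ⟨fun x hx g => ?_⟩
      suffices h : NormalCent.pGen E p R ≤
          (NormalCent.pGen E p R).comap (MulAut.conj (g : MulAut R)).toMonoidHom from h hx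
      refine (Subgroup.closure_le _).2 fun y ⟨hy, j, hj⟩ => Subgroup.subset_closure
        ⟨mul_mem (mul_mem g.2 hy) (inv_mem g.2), j, ?_⟩
      show ((g : MulAut R) * y * (g : MulAut R)⁻¹) ^ p ^ j = 1
      rw [conj_pow, hj, mul_one, mul_inv_cancel]
    have hUP : (U : Subgroup A) ≤ P := fun u hu => by
      obtain ⟨j, hj⟩ := U.isPGroup' ⟨u, hu⟩
      exact Subgroup.subset_closure ⟨u.2, j, congrArg (fun v : (U : Subgroup A) => ((v : A) : MulAut R)) hj⟩
    have hlift : ∀ g : A, g ∈ P → LiftsQ F R (g : MulAut R) := fun g hg =>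
      liftsQ_of_pGen hS hE hR hRn hg
    have hnl : ∀ g : A, g ∈ Subgroup.normalizer ((U : Subgroup A) : Set A) →
        LiftsQ F R (g : MulAut R) := by
      intro g hg
      have h1 : LiftsQ F R ((g : MulAut R) ^ p ^ k) := by
        refine liftsQ_pow_of_normalizing hS hE hR hRn hNn hIH g.2 (fun l hl => ?_) hk
        have hlA : (⟨conjAut hl.2, autInducedBy_le_autGroup E hRT
            (conjAut_mem_autInducedBy hl.2 hl.1)⟩ : A) ∈ (U : Subgroup A) := by
          rw [hU]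
          exact conjAut_mem_autInducedBy hl.2 hl.1
        have h2 := (Subgroup.mem_normalizer_iff.1 hg _).1 hlA
        rw [hU] at h2
        obtain ⟨t, ht, hte⟩ := mem_autInducedBy_iff.1 h2
        refine ⟨t, ht, fun x hx => ?_⟩
        rw [← hte ((g : MulAut R) x)]
        show _ = (((g : MulAut R) * conjAut hl.2 * (g : MulAut R)⁻¹) ((g : MulAut R) x) : Ω)
        rw [MulAut.mul_apply, MulAut.mul_apply, MulAut.inv_apply_self]
        rfl
      set m := orderOf (g : MulAut R) with hm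
      have hm0 : 0 < m := orderOf_pos _
      have hco : (ordCompl[p] m).Coprime (p ^ k) :=
        (((Nat.coprime_ordCompl (Fact.out) hm0.ne')).symm).pow_right k
      have h2 : LiftsQ F R ((g : MulAut R) ^ ordCompl[p] m) := by
        refine hlift (g ^ ordCompl[p] m) (Subgroup.subset_closure
          ⟨pow_mem g.2 _, m.factorization p, ?_⟩)
        show ((g : MulAut R) ^ ordCompl[p] m) ^ p ^ m.factorization p = 1
        rw [← pow_mul, mul_comm, Nat.ordProj_mul_ordCompl_eq_self, hm, pow_orderOf_eq_one]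
      have h3 : ∃ u v : ℕ, (g : MulAut R) =
          ((g : MulAut R) ^ ordCompl[p] m) ^ u * ((g : MulAut R) ^ p ^ k) ^ v := by
        have hb := Nat.gcd_eq_gcd_ab (ordCompl[p] m) (p ^ k)
        rw [hco, Nat.cast_one] at hb
        refine ⟨((Nat.gcdA (ordCompl[p] m) (p ^ k)) % m).toNat,
          ((Nat.gcdB (ordCompl[p] m) (p ^ k)) % m).toNat, ?_⟩
        rw [← pow_mul, ← pow_mul, ← pow_add, ← zpow_natCast, ← zpow_mod_orderOf, ← hm]
        conv_lhs => rw [← zpow_one (g : MulAut R), ← zpow_mod_orderOf, ← hm, hb]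
        congr 1
        push_cast
        rw [Int.toNat_of_nonneg (Int.emod_nonneg _ (by omega)),
          Int.toNat_of_nonneg (Int.emod_nonneg _ (by omega))]
        simp [Int.add_emod, Int.mul_emod]
      obtain ⟨u, v, huv⟩ := h3
      rw [huv]
      exact (h2.pow hRS u).mul (h1.pow hRS v)
    have htop := Sylow.normalizer_sup_eq_top' U hUP
    let L : Subgroup A :=
      { carrier := {g | LiftsQ F R (g : MulAut R)}
        one_mem' := LiftsQ.one hRS
        mul_mem' := fun h h' => h.mul h'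
        inv_mem' := fun {g} hg => by
          show LiftsQ F R (g : MulAut R)⁻¹
          rw [inv_eq_of_mul_eq_one_right (b := (g : MulAut R) ^ (orderOf (g : MulAut R) - 1)) (by
            rw [← pow_succ', Nat.sub_add_cancel (orderOf_pos _), pow_orderOf_eq_one])]
          exact LiftsQ.pow hRS hg _ }
    exact (sup_le (a := Subgroup.normalizer ((U : Subgroup A) : Set A)) (b := P) (c := L) hnl hlift)
      (htop.symm ▸ Subgroup.mem_top (⟨b, hb⟩ : A))
  -- move to a subgroup whose normalizer in `T` is fully normalized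
  set N := normalizerIn T Q with hN
  have hNS : N ≤ S := (normalizerIn_le Q).trans hTS
  have hQN : Q ≤ N := le_normalizerIn hQT
  obtain ⟨M, hNM, hMn⟩ := exists_fullyNormalized F hNS
  obtain ⟨φ, hφ, hφr, ψ, hψ, hψe⟩ := exists_normalizer_map_fn hS hF hMn hNM
  obtain ⟨h, hh, hhe⟩ := exists_mor hψ
  have hsub : normalizerIn S Q ≤ normalizerIn S N := fun s hs => ⟨hs.1, by
    have key : ∀ s ∈ normalizerIn S Q, ∀ x ∈ N, s * x * s⁻¹ ∈ N := fun s hs x hx =>
      ⟨conj_mem_T hE hs.1 hx.1, mul_mem (mul_mem hs.2 hx.2) (Subgroup.inv_mem _ hs.2)⟩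
    refine Subgroup.mem_normalizer_iff.2 fun x => ⟨key s hs x, fun hx => ?_⟩
    have h := key s⁻¹ (inv_mem hs) _ hx
    convert h using 1
    group⟩
  have hQNS : Q ≤ normalizerIn S Q := le_normalizerIn hQS
  obtain ⟨Q', hQ', -⟩ := hh.exists_img (hQNS.trans hsub)
  have hconj : F.IsConj Q Q' := (hh.restrict (hQNS.trans hsub)).isConj hQ'
  have hQ'T : Q' ≤ T := image_le_T hE hh (hQNS.trans hsub) hQT hQ'
  have hQ'tc : TCentric F T Q' := tcentric_image hE hQ (hh.restrict (hQNS.trans hsub)) hQ'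
  have hQ'n : F.IsFullyNormalized Q' := by
    refine ⟨hQ'T.trans hTS, fun R hR => (hfn.2 R (isConj_trans hconj hR)).trans ?_⟩
    have : Finite (normalizerIn S Q') := finite_of_le (normalizerIn_le _)
    exact hh.card_le hsub fun x hx =>
      hh.map_normalizer (hQNS.trans hsub) hQ' (hsub hx) hx.2
  have hhN : ∀ x ∈ N, h x ∈ M := fun x hx => by
    rw [hhe ⟨x, le_normalizerIn hNS hx⟩, hψe ⟨x, hx⟩]
    exact hφr ▸ ⟨_, rfl⟩
  have hMeq : normalizerIn T Q' = M := by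
    have : Finite M := finite_of_le hMn.1
    have hMle : M ≤ normalizerIn T Q' := by
      intro y hy
      obtain ⟨x, rfl⟩ : y ∈ φ.range := hφr.symm ▸ hy
      have e : φ x = h x := ((hhe ⟨x, le_normalizerIn hNS x.2⟩).trans
        (hψe x (le_normalizerIn hNS x.2))).symm
      rw [e]
      exact ⟨mor_mem_T hE hh (le_normalizerIn hNS x.2) x.2.1,
        (hh.map_normalizer (hQNS.trans hsub) hQ' (le_normalizerIn hNS x.2) x.2.2).2⟩
    have : Finite (normalizerIn T Q') := finite_of_le (normalizerIn_le _)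
    refine (Subgroup.eq_of_le_of_card_ge hMle ?_).symm
    exact (card_normalizerIn_le hS hE hQT hfn hconj).trans (isConj_card hNM).le
  have hcard : Nat.card Q' = Nat.card Q := (isConj_card hconj).symm
  have hQ'ne : Q' ≠ T := fun e => hQe (Subgroup.eq_of_le_of_card_ge hQT (by rw [← hcard, e]))
  obtain ⟨ψ₁, hψ₁, hψ₁e⟩ := hh.restrict (hQNS.trans hsub)
  have hψ₁r : ψ₁.range = Q' := SetLike.coe_injective (by
    rw [← hQ']
    ext y
    constructor
    · rintro ⟨x, rfl⟩; exact ⟨x, x.2, (hψ₁e x).symm⟩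
    · rintro ⟨x, hx, rfl⟩; exact ⟨⟨x, hx⟩, hψ₁e _⟩)
  have ha' := congr_mem_E hE hψ₁ hψ₁r hQT ha
  have hl := core hQ'tc hQ'n hQ'ne (hMeq ▸ hMn) hcard _ ha'
  obtain ⟨χ, hχ, hχr, hχψ, -⟩ := exists_inv F hψ₁ hψ₁r
  have hl' := Meet.liftsQ_transport hS hF (fullyCentralized_of_fullyNormalized hS hF hQ'n) hχ hχr
    (fullyCentralized_of_fullyNormalized hS hF hfn) hl
  convert hl' using 1
  ext x
  have e : isoOf hχ hχr (isoOf hψ₁ hψ₁r x) = x := Subtype.ext (by
    rw [isoOf_apply]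
    exact hχψ x _)
  conv_rhs => rw [← e]
  show _ = ((isoOf hχ hχr ((MulAut.congr (isoOf hψ₁ hψ₁r) a)
    ((isoOf hχ hχr).symm (isoOf hχ hχr (isoOf hψ₁ hψ₁r x)))) : Q) : Ω)
  rw [MulEquiv.symm_apply_apply]
  show _ = ((isoOf hχ hχr (isoOf hψ₁ hψ₁r (a ((isoOf hψ₁ hψ₁r).symm
    (isoOf hψ₁ hψ₁r x)))) : Q) : Ω)
  rw [MulEquiv.symm_apply_apply, isoOf_apply]
  exact (hχψ (a x) _).symm

end CfsgLib.Product89
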