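import Cfsg.Agent.Fus.Product89.Setting
import Cfsg.Agent.LocalCharP.Residual

/-!
Links stabilizing `Q` are realized in the local group.
-/

set_option autoImplicit false

namespace CfsgLib.Product89

open Cfsg Cfsg.FusionSystem CfsgLib.Fus CfsgLib.NormalCent
open CfsgLib.Fus.Generated (Recv Sat Target stab exists_target exists_adjust exists_transport
  image_image_eq)

variable {Ω : Type*} [Group Ω] {S T R Q Q' : Subgroup Ω} {F : Cfsg.FusionSystem S}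
  {E : Cfsg.FusionSystem T} {p : ℕ} {f : Ω → Ω} {M : Type*} [Group M]
  {ι : normalizerIn S Q' →* M} {hR : R ≤ S}

namespace TCSetup

variable (h : TCSetup F E p hR Q Q' f ι)

include h

theorem realOn_one {W : Subgroup Ω} (hW : W ≤ normalizerIn R Q) : h.RealOn E W id :=
  ⟨1, one_mem _, fun x hx => ⟨hW hx, by show 1 * jF ι f x * 1⁻¹ = jF ι f x; group⟩⟩

variable [Finite S] [Fact p.Prime] (hS : IsPGroup p S) (hE : E.IsNormalIn F p) (hTR : T ≤ R)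

include hS hE hTR

/-- A stabilizer in a receptive subgroup is realized, read through an isomorphism with a subgroup
of `N_R(Q)`. -/
theorem real_stab {K P₁ : Subgroup Ω} {ψ : Ω → Ω} (hK : K ≤ normalizerIn R P₁) (hP₁K : P₁ ≤ K)
    {U : Sylow p (stab (prodSys F E p hR) K P₁)}
    (hU : (U : Subgroup (stab (prodSys F E p hR) K P₁)) =
      ((Cfsg.autInducedBy R K).subgroupOf ((prodSys F E p hR).autGroup K)).subgroupOf
        (stab (prodSys F E p hR) K P₁))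
    {N : Subgroup Ω} (hψ : Mor (prodSys F E p hR) N ψ) (hKN : K ≤ N)
    (hψP : ψ '' (P₁ : Set Ω) = Q) (hψK : ∀ x ∈ K, ψ x ∈ normalizerIn R Q)
    (hNU : ∀ t ∈ normalizerIn R P₁, t ∈ normalizerIn R K → t ∈ N)
    (hNN : N ≤ normalizerIn R P₁) (b : stab (prodSys F E p hR) K P₁) :
    ∃ m ∈ h.hGrp E, ∀ x : K, m * jF ι f (ψ x) * m⁻¹ =
      jF ι f (ψ ((((b : (prodSys F E p hR).autGroup K) : MulAut K) x : K) : Ω)) := by
  let G := prodSys F E p hR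
  have hKR : K ≤ R := hK.trans (normalizerIn_le P₁)
  have : Finite K := finite_of_le (hKR.trans hR)
  have := finite_mulAut K
  have : Finite (stab G K P₁) := inferInstance
  let Z : Subgroup (stab G K P₁) :=
    { carrier := {c | ∃ m ∈ h.hGrp E, ∀ x : K, m * jF ι f (ψ x) * m⁻¹ =
        jF ι f (ψ ((((c : G.autGroup K) : MulAut K) x : K) : Ω))}
      one_mem' := ⟨1, one_mem _, fun x => by
        show 1 * jF ι f (ψ x) * 1⁻¹ = jF ι f (ψ x)
        group⟩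
      mul_mem' := fun {c c'} ⟨m, hm, hme⟩ ⟨n, hn, hne⟩ => ⟨m * n, mul_mem hm hn, fun x => by
        show _ = jF ι f (ψ ((((c : G.autGroup K) : MulAut K)
          (((c' : G.autGroup K) : MulAut K) x) : K) : Ω))
        rw [← hme, ← hne]
        group⟩
      inv_mem' := fun {c} ⟨m, hm, hme⟩ => ⟨m⁻¹, inv_mem hm, fun x => by
        have h1 := hme ((((c⁻¹ : stab G K P₁) : G.autGroup K) : MulAut K) x)
        rw [show ((c : G.autGroup K) : MulAut K)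
            ((((c⁻¹ : stab G K P₁) : G.autGroup K) : MulAut K) x) = x from
          MulAut.apply_inv_self _ _ _] at h1
        rw [← h1]
        group⟩ }
  suffices hZ : Z = ⊤ from (hZ ▸ Subgroup.mem_top b : b ∈ Z)
  refine top_unique ((LocalCharP.pResidual_sup_sylow U).ge.trans (sup_le ?_ ?_))
  · refine (Subgroup.closure_le _).2 fun c hc => ?_
    have hcco : (orderOf ((c : G.autGroup K))).Coprime p := by rwa [Subgroup.orderOf_coe]
    obtain ⟨W, hW, -⟩ := hψ.exists_img hKN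
    obtain ⟨θ, -, hθ⟩ := exists_transport (hψ.restrict hKN) hW
    have hWN : W ≤ normalizerIn R Q := fun y hy => by
      obtain ⟨x, hx, rfl⟩ := hW.symm.subset hy
      exact hψK x hx
    have hQW : Q ≤ W := fun y hy => by
      obtain ⟨x, hx, rfl⟩ := hψP.symm.subset hy
      exact hW.subset ⟨x, hP₁K hx, rfl⟩
    obtain ⟨l, hl, hle⟩ := h.real_of_pprime hS hE hTR hQW hWN (θ (c : G.autGroup K)).2
      (hcco.coprime_dvd_left (by rw [Subgroup.orderOf_coe]; exact orderOf_map_dvd θ _))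
      fun y hy => by
        obtain ⟨x, hx, hxy⟩ := hψP.symm.subset hy
        rw [show y = (⟨ψ x, hW.subset ⟨x, hP₁K hx, rfl⟩⟩ : W) from Subtype.ext hxy.symm]
        rw [hθ (c : G.autGroup K) ⟨x, hP₁K hx⟩ (hW.subset ⟨x, hP₁K hx, rfl⟩)]
        exact hψP.subset ⟨_, (c.2 ⟨x, hP₁K hx⟩).2 hx, rfl⟩
    refine ⟨l, h.l_mem hl, fun x => ?_⟩
    have h1 := hle ⟨ψ x, hW.subset ⟨x, x.2, rfl⟩⟩
    rw [hθ (c : G.autGroup K) x] at h1
    exact h1
  · intro c hc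
    rw [hU] at hc
    obtain ⟨t, ht, hte⟩ := mem_autInducedBy_iff.1 hc
    have htP : t ∈ normalizerIn R P₁ := by
      have : Finite P₁ := finite_of_le (hP₁K.trans (hKR.trans hR))
      refine ⟨ht, Subgroup.mem_normalizer_iff.2 fun y => ?_⟩
      have htK : t ∈ Subgroup.normalizer (K : Set Ω) := mem_normalizer_of_aut hte
      constructor
      · intro hy
        have h1 := (c.2 ⟨y, hP₁K hy⟩).2 hy
        rwa [show ((((c : G.autGroup K) : MulAut K) ⟨y, hP₁K hy⟩ : K) : Ω) = t * y * t⁻¹ from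
          hte ⟨y, hP₁K hy⟩] at h1
      · intro hy
        have hyK : y ∈ K := (Subgroup.mem_normalizer_iff.1 htK y).2 (hP₁K hy)
        refine (c.2 ⟨y, hyK⟩).1 ?_
        rw [show ((((c : G.autGroup K) : MulAut K) ⟨y, hyK⟩ : K) : Ω) = t * y * t⁻¹ from
          hte ⟨y, hyK⟩]
        exact hy
    have htN : t ∈ N := hNU t htP ⟨ht, mem_normalizer_of_aut hte⟩
    have hP₁N : P₁ ≤ N := hP₁K.trans hKN
    have hψt : ψ t ∈ normalizerIn R Q := hψ.map_normalizer hP₁N hψP htN (hNN htN).2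
    refine ⟨_, h.j_mem hψt, fun x => ?_⟩
    rw [show ((((c : G.autGroup K) : MulAut K) x : K) : Ω) = t * x * t⁻¹ from hte x,
      hψ.map_conj htN (hKN x.2), h.jF_mul (mul_mem hψt (hψK x x.2)) (inv_mem hψt),
      h.jF_mul hψt (hψK x x.2), h.jF_inv hψt]

/-- Links stabilizing `Q` are realized. -/
theorem link_real
    (hbig : ∀ N, N ≤ R → Nat.card Q < Nat.card (N ⊓ T : Subgroup Ω) → Q ≤ N →
      Sat (prodSys F E p hR) p N)
    {N : Subgroup Ω} {g : Ω → Ω} (hQN : Q ≤ N) (hN : N ≤ normalizerIn R Q)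
    (hlt : Nat.card Q < Nat.card (N ⊓ T : Subgroup Ω)) (hg : Mor (prodSys F E p hR) N g)
    (hgi : g '' (Q : Set Ω) = Q) : h.RealOn E N g := by
  set G := prodSys F E p hR
  have : Finite R := finite_of_le hR
  have hRp : IsPGroup p R := hS.to_le hR
  induction hk : Nat.card (normalizerIn R Q) - Nat.card N using Nat.strong_induction_on
    generalizing N g with
  | _ k ih =>
  have : Finite (normalizerIn R Q) := finite_of_le (normalizerIn_le Q)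
  have hgN : ∀ x ∈ N, g x ∈ normalizerIn R Q := fun x hx =>
    hg.map_normalizer hQN hgi hx (hN hx).2
  obtain ⟨K', P₁, σ, hσ⟩ := exists_target hRp (hbig N (hN.trans (normalizerIn_le Q)) hlt hQN) hQN
  have hK'R : K' ≤ R := hσ.rec'.1
  have hP₁K' : P₁ ≤ K' := fun y hy => by
    obtain ⟨x, hx, rfl⟩ := hσ.imgQ.symm.subset hy
    exact hσ.img.subset ⟨x, hQN hx, rfl⟩
  have hK'P₁ : K' ≤ normalizerIn R P₁ := fun y hy => by
    obtain ⟨x, hx, rfl⟩ := hσ.img.symm.subset hy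
    exact hσ.mor.map_normalizer hQN hσ.imgQ hx (hN hx).2
  have hP₁c : G.IsConj Q P₁ := (hσ.mor.restrict hQN).isConj hσ.imgQ
  by_cases hfull : N = normalizerIn R Q
  · subst hfull
    have : Finite (normalizerIn R P₁) := finite_of_le (normalizerIn_le P₁)
    have heq : K' = normalizerIn R P₁ := Subgroup.eq_of_le_of_card_ge hK'P₁
      (by rw [hσ.mor.card_img le_rfl hσ.img]; exact h.fnR.2 P₁ hP₁c)
    obtain ⟨σi, hσi, hσl, hσr, hσii⟩ := hσ.mor.exists_inv hσ.img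
    have hgi' : g '' (normalizerIn R Q : Set Ω) = normalizerIn R Q := image_eq hg hgN
    obtain ⟨a, ha⟩ := exists_aut_of_mor hg hgi'
    obtain ⟨θ, -, hθ⟩ := exists_transport hσ.mor hσ.img
    have hσiP : σi '' (P₁ : Set Ω) = Q := by
      rw [← hσ.imgQ]; exact image_image_eq fun x hx => hσl x (hQN hx)
    have hb : θ a ∈ stab G K' P₁ := by
      intro y
      obtain ⟨x, hx, hxy⟩ := hσ.img.symm.subset y.2
      have hm : σ x ∈ K' := hσ.img.subset ⟨x, hx, rfl⟩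
      rw [show y = (⟨σ x, hm⟩ : K') from Subtype.ext hxy.symm, hθ a ⟨x, hx⟩ hm, ha]
      have hQi : ∀ z ∈ normalizerIn R Q, (σ z ∈ P₁ ↔ z ∈ Q) := fun z hz => by
        rw [← SetLike.mem_coe, ← hσ.imgQ]
        exact hσ.mor.injOn.mem_image_iff (fun _ hq => hQN hq) hz
      rw [hQi _ (hgN x hx), hQi x hx, ← SetLike.mem_coe, ← hgi]
      exact hg.injOn.mem_image_iff (fun _ hq => hQN hq) hx
    obtain ⟨U, hU⟩ := hσ.syl
    obtain ⟨m, hm, hme⟩ := h.real_stab hS hE hTR hK'P₁ hP₁K' hU (ψ := σi) hσi le_rfl hσiP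
      (fun y hy => hσii.subset ⟨y, hy, rfl⟩) (fun t ht _ => heq ▸ ht) (le_of_eq heq) ⟨θ a, hb⟩
    refine ⟨m, hm, fun x hx => ⟨hgN x hx, ?_⟩⟩
    have h1 := hme ⟨σ x, hσ.img.subset ⟨x, hx, rfl⟩⟩
    rw [hθ a ⟨x, hx⟩, ha, hσl x hx, hσl _ (hgN x hx)] at h1
    exact h1
  obtain ⟨L, hL, -⟩ := hg.exists_img (le_refl N)
  obtain ⟨g', hg', hgl, -, -⟩ := hg.exists_inv hL
  have hQL : Q ≤ L := fun y hy => by
    obtain ⟨x, hx, rfl⟩ := hgi.symm.subset hy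
    exact hL.subset ⟨x, hQN hx, rfl⟩
  have hLN : L ≤ normalizerIn R Q := fun y hy => by
    obtain ⟨x, hx, rfl⟩ := hL.symm.subset hy
    exact hgN x hx
  have hLne : L ≠ normalizerIn R Q := fun e => hfull (Subgroup.eq_of_le_of_card_ge hN
    (by rw [← e, hg.card_img le_rfl hL]))
  obtain ⟨q, hq, hqN⟩ := Fusion.Alperin.exists_normalizing_not_mem
    (hRp.to_le (normalizerIn_le Q)) hN hfull
  obtain ⟨r, hr, hrL⟩ := Fusion.Alperin.exists_normalizing_not_mem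
    (hRp.to_le (normalizerIn_le Q)) hLN hLne
  set M₁ := normalizerIn (normalizerIn R Q) N
  set M₂ := normalizerIn (normalizerIn R Q) L
  have hNM₁ : N ≤ M₁ := le_normalizerIn hN
  have hLM₂ : L ≤ M₂ := le_normalizerIn hLN
  have hM₁N : M₁ ≤ normalizerIn R N := fun y hy => ⟨hy.1.1, hy.2⟩
  have hM₂L : M₂ ≤ normalizerIn R L := fun y hy => ⟨hy.1.1, hy.2⟩
  have hlt₁ := Fusion.Alperin.card_lt_of_le_of_mem (hM₁N.trans (normalizerIn_le N)) hNM₁
    (g := q) hq hqN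
  have hlt₂ := Fusion.Alperin.card_lt_of_le_of_mem (hM₂L.trans (normalizerIn_le L)) hLM₂
    (g := r) hr hrL
  rw [hg.card_img le_rfl hL] at hlt₂
  obtain ⟨τ₁, hτ₁, hT₁⟩ := hσ.adjust hRp hQN hNM₁ hM₁N fun y hy => hy.1.2
  have hT₂ := hT₁.comp_inv hQN hg' hL hgi hgl
  obtain ⟨b, -, τ₂, hτ₂, hτ₂e⟩ := exists_adjust hRp hT₂ hQL hLM₂ hM₂L (fun y hy => hy.1.2) ⊤
    (fun _ _ _ _ => by rw [sup_top_eq]; trivial)
  obtain ⟨hτ₂i, -⟩ := hT₂.img_twist hQL b hτ₂e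
  obtain ⟨ψ, hψ, hψi⟩ := h.recv P₁ hP₁c
  have hmap : ∀ {A : Subgroup Ω} {τ : Ω → Ω}, Q ≤ A → A ≤ normalizerIn R Q → Mor G A τ →
      τ '' (Q : Set Ω) = P₁ → ∀ x ∈ A, τ x ∈ normalizerIn R P₁ := fun hA hA' hτ hτi x hx =>
    hτ.map_normalizer hA hτi hx (hA' hx).2
  have hM₁Q : M₁ ≤ normalizerIn R Q := normalizerIn_le N
  have hM₂Q : M₂ ≤ normalizerIn R Q := normalizerIn_le L
  have hQM₁ : Q ≤ M₁ := hQN.trans hNM₁
  have hQM₂ : Q ≤ M₂ := hQL.trans hLM₂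
  have : Finite M₁ := finite_of_le hM₁Q
  have : Finite M₂ := finite_of_le hM₂Q
  have : Finite (M₁ ⊓ T : Subgroup Ω) := finite_of_le (inf_le_left.trans hM₁Q)
  have : Finite (M₂ ⊓ T : Subgroup Ω) := finite_of_le (inf_le_left.trans hM₂Q)
  have hT' : G.StronglyClosed T := closed_prodSys hE hTR hR
  have hltL : Nat.card Q < Nat.card (L ⊓ T : Subgroup Ω) := by
    rwa [hg.card_img inf_le_left (NormalChar.image_inf hT' hg hL)]
  obtain ⟨m₁, hm₁, hm₁e⟩ := ih (Nat.card (normalizerIn R Q) - Nat.card M₁) (by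
      have := Subgroup.card_le_of_le hM₁Q
      omega) (g := ψ ∘ τ₁) hQM₁ hM₁Q
    (lt_of_lt_of_le hlt (Subgroup.card_le_of_le (inf_le_inf_right T hNM₁)))
    (hg := hτ₁.comp hψ (hmap hQM₁ hM₁Q hτ₁ hT₁.imgQ))
    (hgi := by rw [Set.image_comp, hT₁.imgQ, hψi]) rfl
  obtain ⟨m₂, hm₂, hm₂e⟩ := ih (Nat.card (normalizerIn R Q) - Nat.card M₂) (by
      have := Subgroup.card_le_of_le hM₂Q
      omega) (g := ψ ∘ τ₂) hQM₂ hM₂Q
    (lt_of_lt_of_le hltL (Subgroup.card_le_of_le (inf_le_inf_right T hLM₂)))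
    (hg := hτ₂.comp hψ (hmap hQM₂ hM₂Q hτ₂ hτ₂i))
    (hgi := by rw [Set.image_comp, hτ₂i, hψi]) rfl
  have hP₁R := isConj_le_right hP₁c
  obtain ⟨U, hU⟩ := hT₁.syl
  obtain ⟨mb, hmb, hmbe⟩ := h.real_stab hS hE hTR hK'P₁ hP₁K' hU (ψ := ψ) hψ hK'P₁ hψi
    (fun y hy => hψ.map_normalizer (le_normalizerIn hP₁R) hψi (hK'P₁ hy) (hK'P₁ hy).2)
    (fun t ht _ => ht) le_rfl b
  refine ⟨m₂⁻¹ * mb * m₁, mul_mem (mul_mem (inv_mem hm₂) hmb) hm₁, fun x hx => ⟨hgN x hx, ?_⟩⟩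
  obtain ⟨-, h1⟩ := hm₁e x (hNM₁ hx)
  obtain ⟨-, h2⟩ := hm₂e (g x) (hLM₂ (hL.subset ⟨x, hx, rfl⟩))
  have hgg : (τ₁ ∘ g') (g x) = τ₁ x := congrArg τ₁ (hgl x hx)
  have hmK : τ₁ x ∈ K' := hT₁.img.subset ⟨x, hx, rfl⟩
  have hmK' : (τ₁ ∘ g') (g x) ∈ K' := hgg.symm ▸ hmK
  have h3 := hmbe ⟨τ₁ x, hmK⟩
  change m₁ * jF ι f x * m₁⁻¹ = jF ι f (ψ (τ₁ x)) at h1
  change m₂ * jF ι f (g x) * m₂⁻¹ = jF ι f (ψ (τ₂ (g x))) at h2
  rw [hτ₂e (g x) (hL.subset ⟨x, hx, rfl⟩) hmK',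
    show (⟨(τ₁ ∘ g') (g x), hmK'⟩ : K') = ⟨τ₁ x, hmK⟩ from Subtype.ext hgg] at h2
  change mb * jF ι f (ψ (τ₁ x)) * mb⁻¹ = _ at h3
  rw [← h3, ← h1] at h2
  calc m₂⁻¹ * mb * m₁ * jF ι f x * (m₂⁻¹ * mb * m₁)⁻¹
      = m₂⁻¹ * (mb * (m₁ * jF ι f x * m₁⁻¹) * mb⁻¹) * m₂ := by group
    _ = m₂⁻¹ * (m₂ * jF ι f (g x) * m₂⁻¹) * m₂ := by rw [h2]
    _ = jF ι f (g x) := by group

end TCSetup

end CfsgLib.Product89
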