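import Cfsg.Agent.Fus.Product89.Model
import Cfsg.Agent.Fus.Product89.Lifts
import Cfsg.Agent.Fus.Meet.Group

/-!
The part of the local model at a fully normalized `T`-centric `Q` belonging to `E`.
-/

set_option autoImplicit false

namespace CfsgLib.Product89

open Cfsg Cfsg.FusionSystem CfsgLib.Fus CfsgLib.NormalCent

universe u

variable {Ω : Type u} [Group Ω] {S T : Subgroup Ω} {F : Cfsg.FusionSystem S}
  {E : Cfsg.FusionSystem T} {p : ℕ} {Q : Subgroup Ω} {M : Type*} [Group M]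
  {ι : normalizerIn S Q →* M}

/-- The restriction of `ι` to `Q`. -/
def qMap (ι : normalizerIn S Q →* M) (hQ : Q ≤ S) : Q →* M :=
  ι.comp (Subgroup.inclusion (le_normalizerIn hQ))

theorem qMap_mem_range (hQ : Q ≤ S) {x : normalizerIn S Q} (hx : (x : Ω) ∈ Q) :
    ι x ∈ (qMap ι hQ).range := ⟨⟨x, hx⟩, congrArg ι (Subtype.ext rfl)⟩

theorem mem_range_qMap_iff (hL : LocalModel F p Q M ι) (hQ : Q ≤ S) {x : normalizerIn S Q} :
    ι x ∈ (qMap ι hQ).range ↔ (x : Ω) ∈ Q := by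
  refine ⟨fun ⟨y, hy⟩ => ?_, qMap_mem_range hQ⟩
  rw [← hL.inj hy]
  exact y.2

theorem normal_range_qMap (hL : LocalModel F p Q M ι) (hQ : Q ≤ S) :
    (qMap ι hQ).range.Normal := by
  refine ⟨fun y ⟨x, hx⟩ m => ?_⟩
  obtain ⟨z, hz, hze⟩ := hL.nQ.conj_mem (ι ⟨x, le_normalizerIn hQ x.2⟩) ⟨_, x.2, rfl⟩ m
  rw [← hx]
  show m * ι ⟨x, le_normalizerIn hQ x.2⟩ * m⁻¹ ∈ _
  rw [← hze]
  exact qMap_mem_range hQ hz

/-- The elements of the model acting on `Q` as automorphisms in `E` and displacing the centralizer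
inside `Q`. -/
def yGrp (E : Cfsg.FusionSystem T) (hL : LocalModel F p Q M ι) (hQ : Q ≤ S) : Subgroup M where
  carrier := {m | (∃ a ∈ E.autGroup Q, ∀ x, m * qMap ι hQ x * m⁻¹ = qMap ι hQ (a x)) ∧
    ∀ c : normalizerIn S Q, (c : Ω) ∈ centralizerIn S Q →
      (ι c)⁻¹ * (m * ι c * m⁻¹) ∈ (qMap ι hQ).range}
  one_mem' := ⟨⟨1, one_mem _, fun x => by simp⟩, fun c _ => by simp⟩
  mul_mem' := fun {m n} ⟨⟨a, ha, hae⟩, hm⟩ ⟨⟨b, hb, hbe⟩, hn⟩ => by
    refine ⟨⟨a * b, mul_mem ha hb, fun x => ?_⟩, fun c hc => ?_⟩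
    · rw [MulAut.mul_apply, ← hae, ← hbe]
      group
    · have h1 := mul_mem (hm c hc) ((normal_range_qMap hL hQ).conj_mem _ (hn c hc) m)
      convert h1 using 1
      group
  inv_mem' := fun {m} ⟨⟨a, ha, hae⟩, hm⟩ => by
    refine ⟨⟨a⁻¹, inv_mem ha, fun x => ?_⟩, fun c hc => ?_⟩
    · have h1 := hae (a⁻¹ x)
      rw [MulAut.apply_inv_self] at h1
      rw [← h1]
      group
    · have h1 := (normal_range_qMap hL hQ).conj_mem _ (inv_mem (hm c hc)) m⁻¹
      convert h1 using 1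
      group

/-- `O^p` of `yGrp`. -/
def lGrp (E : Cfsg.FusionSystem T) (p : ℕ) {F : Cfsg.FusionSystem S} (hL : LocalModel F p Q M ι)
    (hQ : Q ≤ S) : Subgroup M :=
  (Cfsg.pResidual p ↥(yGrp E hL hQ)).map (yGrp E hL hQ).subtype

variable (hL : LocalModel F p Q M ι) (hQ : Q ≤ S)

include hL

theorem lGrp_le : lGrp E p hL hQ ≤ yGrp E hL hQ := Subgroup.map_subtype_le _

theorem mem_lGrp {m : M} (hm : m ∈ yGrp E hL hQ) (hco : (orderOf m).Coprime p) :
    m ∈ lGrp E p hL hQ := by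
  refine ⟨⟨m, hm⟩, Subgroup.subset_closure ?_, rfl⟩
  show (orderOf (⟨m, hm⟩ : yGrp E hL hQ)).Coprime p
  rwa [← Subgroup.orderOf_coe]

variable [Finite S] [Fact p.Prime] (hS : IsPGroup p S) (hE : E.IsNormalIn F p)

include hS hE

/-- Conjugation by an element of the model induces an automorphism of `Q` in `F`. -/
theorem exists_autQ (g : M) :
    ∃ b ∈ F.autGroup Q, ∀ x, g * qMap ι hQ x * g⁻¹ = qMap ι hQ (b x) := by
  obtain ⟨f, hf, hfe⟩ := hL.conj g (le_normalizerIn hQ) fun x => by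
    obtain ⟨y, hy⟩ := (normal_range_qMap hL hQ).conj_mem _ ⟨x, rfl⟩ g
    exact ⟨_, hy⟩
  have hfm : ∀ x ∈ Q, f x ∈ Q := fun x hx => by
    obtain ⟨hfx, e⟩ := hfe ⟨x, hx⟩
    refine (mem_range_qMap_iff hL hQ (x := ⟨f x, hfx⟩)).1 ?_
    rw [e]
    exact (normal_range_qMap hL hQ).conj_mem _ ⟨⟨x, hx⟩, rfl⟩ g
  obtain ⟨⟨b, hb⟩, hbe⟩ := exists_aut hf le_rfl hfm
  refine ⟨b, hb, fun x => ?_⟩
  obtain ⟨hfx, e⟩ := hfe x
  refine e.symm.trans ?_
  exact congrArg ι (Subtype.ext (hbe x).symm)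

theorem normal_yGrp (hQT : Q ≤ T) : (yGrp E hL hQ).Normal := by
  refine ⟨fun m ⟨⟨a, ha, hae⟩, hm⟩ g => ⟨?_, fun c hc => ?_⟩⟩
  · obtain ⟨b, hb, hbe⟩ := exists_autQ hL hQ hS hE g
    have hφ := (mem_autGroup_iff F hQ).1 hb
    have hr : (Q.subtype.comp b.toMonoidHom).range = Q := by
      ext y
      exact ⟨fun ⟨x, hx⟩ => hx ▸ (b x).2, fun hy => ⟨b.symm ⟨y, hy⟩,
        congrArg Subtype.val (b.apply_symm_apply ⟨y, hy⟩)⟩⟩
    refine ⟨_, congr_mem_E hE hφ hr hQT ha, fun x => ?_⟩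
    obtain ⟨x, rfl⟩ := (isoOf hφ hr).surjective x
    have e : ∀ y, isoOf hφ hr y = b y := fun y => Subtype.ext (by rw [isoOf_apply]; rfl)
    show _ = qMap ι hQ (isoOf hφ hr (a ((isoOf hφ hr).symm (isoOf hφ hr x))))
    rw [MulEquiv.symm_apply_apply, e, e, ← hbe, ← hbe, ← hae]
    group
  · obtain ⟨c', hc', hce⟩ := hL.nC.conj_mem (ι c) ⟨c, hc, rfl⟩ g⁻¹
    have h1 := (normal_range_qMap hL hQ).conj_mem _ (hm c' hc') g
    rw [hce] at h1
    convert h1 using 1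
    group

theorem normal_lGrp (hQT : Q ≤ T) : (lGrp E p hL hQ).Normal := by
  have hY := normal_yGrp hL hQ hS hE hQT
  refine ⟨fun m hm g => ?_⟩
  suffices h : lGrp E p hL hQ ≤
      (lGrp E p hL hQ).comap (MulAut.conj g).toMonoidHom from h hm
  refine Subgroup.map_le_iff_le_comap.2 ((Subgroup.closure_le _).2 fun y hy => ?_)
  show g * (y : M) * g⁻¹ ∈ lGrp E p hL hQ
  refine mem_lGrp hL hQ (hY.conj_mem _ y.2 g) ?_
  change (orderOf ((MulAut.conj g) (y : M))).Coprime p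
  rw [MulEquiv.orderOf_eq, Subgroup.orderOf_coe]
  exact hy

/-- An element of `Y` fixing `Q` is induced by `C_S(Q)`. -/
theorem mem_range_of_fix (hQT : Q ≤ T) {m : M} (hm : m ∈ yGrp E hL hQ)
    (hfix : ∀ x, m * qMap ι hQ x * m⁻¹ = qMap ι hQ x) :
    ∃ c : normalizerIn S Q, (c : Ω) ∈ centralizerIn S Q ∧ ι c = m := by
  have := hL.fin
  have hY := normal_yGrp hL hQ hS hE hQT
  have hqn := normal_range_qMap hL hQ
  let K : Subgroup M := yGrp E hL hQ ⊓ Subgroup.centralizer ((qMap ι hQ).range : Set M)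
  have : (Subgroup.centralizer ((qMap ι hQ).range : Set M)).Normal := by
    have := hqn
    infer_instance
  have hKn : K.Normal := Subgroup.normal_inf_normal _ _
  have hco : ∀ y ∈ K, (orderOf y).Coprime p → y = 1 := by
    intro y hy hyco
    refine hL.faithful y hyco fun x hx => ?_
    have hfixQ : ∀ q : Q, y * qMap ι hQ q * y⁻¹ = qMap ι hQ q := fun q => by
      rw [← hy.2 _ ⟨q, rfl⟩, mul_inv_cancel_right]
    let A : Subgroup (normalizerIn S Q) :=
      { carrier := {x | y * ι x * y⁻¹ = ι x}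
        one_mem' := by simp
        mul_mem' := fun {a b} ha hb => by
          show y * ι (a * b) * y⁻¹ = ι (a * b)
          rw [map_mul]
          calc _ = (y * ι a * y⁻¹) * (y * ι b * y⁻¹) := by group
            _ = _ := by rw [ha, hb]
        inv_mem' := fun {a} ha => by
          show y * ι a⁻¹ * y⁻¹ = ι a⁻¹
          rw [map_inv]
          calc _ = (y * ι a * y⁻¹)⁻¹ := by group
            _ = _ := by rw [ha] }
    have hx' : x ∈ (Q ⊔ centralizerIn S Q).subgroupOf (normalizerIn S Q) := hx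
    rw [Subgroup.subgroupOf_sup (le_normalizerIn hQ) (centralizerIn_le_normalizerIn Q)] at hx'
    refine (sup_le (fun q hq => hfixQ ⟨q, hq⟩) fun c hc => ?_ :
      Q.subgroupOf (normalizerIn S Q) ⊔
        (centralizerIn S Q).subgroupOf (normalizerIn S Q) ≤ A) hx'
    obtain ⟨q, hq⟩ := hy.1.2 c hc
    have hyc : y * ι c * y⁻¹ = ι c * qMap ι hQ q := by rw [hq, mul_inv_cancel_left]
    have hpow : ∀ i : ℕ, y ^ i * ι c * (y ^ i)⁻¹ = ι c * qMap ι hQ q ^ i := by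
      intro i
      induction i with
      | zero => simp
      | succ i ih =>
        rw [pow_succ' y, mul_inv_rev, ← mul_assoc,
          show y * y ^ i * ι c * (y ^ i)⁻¹ * y⁻¹ = y * (y ^ i * ι c * (y ^ i)⁻¹) * y⁻¹ by group, ih,
          show y * (ι c * qMap ι hQ q ^ i) * y⁻¹ =
            (y * ι c * y⁻¹) * (y * qMap ι hQ q ^ i * y⁻¹) by group, hyc, ← map_pow, hfixQ,
          map_pow, pow_succ', mul_assoc]
    have h1 := hpow (orderOf y)
    rw [pow_orderOf_eq_one, one_mul, inv_one, mul_one, left_eq_mul, ← map_pow] at h1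
    have hinj : Function.Injective (qMap ι hQ) :=
      hL.inj.comp (Subgroup.inclusion_injective _)
    have h2 : q ^ orderOf y = 1 := hinj (h1.trans (map_one _).symm)
    have h3 : q = 1 := Subtype.ext (eq_one_of_coprime_pow hS (hQ q.2) hyco
      (congrArg Subtype.val h2))
    show y * ι c * y⁻¹ = ι c
    rw [hyc, h3, map_one, mul_one]
  have hKp : IsPGroup p K := by
    intro y
    set o := orderOf (y : M)
    refine ⟨o.factorization p, Subtype.ext ?_⟩
    show (y : M) ^ p ^ o.factorization p = 1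
    refine hco _ (pow_mem y.2 _) ?_
    have ho : 0 < o := orderOf_pos _
    rw [orderOf_pow_of_dvd (pow_ne_zero _ (Fact.out : p.Prime).ne_zero) (Nat.ordProj_dvd o p)]
    exact (Nat.coprime_ordCompl (Fact.out) ho.ne').symm
  obtain ⟨U, hU⟩ := hL.syl
  obtain ⟨c, hc⟩ : m ∈ ι.range := by
    rw [← hU]
    refine (show K ≤ (U : Subgroup M) from ?_) ⟨hm, ?_⟩
    · exact le_trans (CharP.le_pCore hKn hKp) (CharP.pCore_le_sylow U)
    · rintro _ ⟨x, rfl⟩
      calc qMap ι hQ x * m = m * qMap ι hQ x * m⁻¹ * m := by rw [hfix]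
        _ = _ := by group
  refine ⟨c, ⟨c.2.1, fun q hq => ?_⟩, hc⟩
  have h1 := hfix ⟨q, hq⟩
  rw [← hc] at h1
  have h2 : c * ⟨q, le_normalizerIn hQ hq⟩ * c⁻¹ = (⟨q, le_normalizerIn hQ hq⟩ : normalizerIn S Q) :=
    hL.inj (by rw [map_mul, map_mul, map_inv]; exact h1)
  have h3 := congrArg Subtype.val (mul_inv_eq_iff_eq_mul.1 h2)
  exact h3.symm

/-- Elements of `N_T(Q)` lie in `Y`. -/
theorem iota_mem_yGrp (hQtc : TCentric F T Q) {t : normalizerIn S Q} (ht : (t : Ω) ∈ T) :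
    ι t ∈ yGrp E hL hQ := by
  refine ⟨⟨conjAut t.2.2, autInducedBy_le_autGroup E hQtc.1
    (conjAut_mem_autInducedBy t.2.2 ht), fun x => ?_⟩, fun c hc => ?_⟩
  · show ι t * ι _ * (ι t)⁻¹ = ι _
    rw [← map_inv, ← map_mul, ← map_mul]
    exact congrArg ι (Subtype.ext rfl)
  · rw [← map_inv, ← map_inv, ← map_mul, ← map_mul, ← map_mul]
    refine qMap_mem_range hQ ?_
    show (c : Ω)⁻¹ * ((t : Ω) * c * (t : Ω)⁻¹) ∈ Q
    refine tcentric_id hQtc (le_S hE) ⟨?_, ?_⟩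
    · show _ ∈ T
      have h1 := mul_mem (conj_mem_T hE (S.inv_mem hc.1) ht) (inv_mem ht)
      convert h1 using 1
      group
    · exact (mul_mem (inv_mem hc) (le_normalizer_centralizerIn t.2 hc)).2

/-- The elements of `range ι` in `Y` come from `N_T(Q) C_S(Q)`. -/
theorem exists_decomp (hQtc : TCentric F T Q) (hfn : F.IsFullyNormalized Q)
    {n : normalizerIn S Q} (hn : ι n ∈ yGrp E hL hQ) :
    ∃ t ∈ normalizerIn T Q, ∃ c ∈ centralizerIn S Q, (n : Ω) = t * c := by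
  have hTS := le_S hE
  have hTp : IsPGroup p T := hS.to_le hTS
  have : Finite T := finite_of_le hTS
  have hQT := hQtc.1
  have : Finite Q := finite_of_le hQ
  have := finite_mulAut Q
  obtain ⟨⟨a, ha, hae⟩, -⟩ := hn
  obtain ⟨⟨-, U, hU⟩, -⟩ := fullyNormalized_props hTp hE.1.1 (fullyNormalized_E hS hE hQT hfn)
  have haS : a = conjAut n.2.2 := MulEquiv.ext fun x => Subtype.ext (by
    have h1 := hae x
    have h2 : n * ⟨x, le_normalizerIn hQ x.2⟩ * n⁻¹ =
        (⟨(a x : Q), le_normalizerIn hQ (a x).2⟩ : normalizerIn S Q) :=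
      hL.inj (by rw [map_mul, map_mul, map_inv]; exact h1)
    exact (congrArg Subtype.val h2).symm)
  let V : Subgroup (E.autGroup Q) := (Cfsg.autInducedBy S Q).subgroupOf (E.autGroup Q)
  have hV : IsPGroup p V := (isPGroup_autInducedBy hS Q).comap_of_injective _
    (Subgroup.subtype_injective _)
  have hUV : (U : Subgroup (E.autGroup Q)) ≤ V := by
    rw [hU]
    intro x hx
    obtain ⟨t, ht, hte⟩ := mem_autInducedBy_iff.1 hx
    exact mem_autInducedBy_iff.2 ⟨t, hTS ht, hte⟩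
  have hVU := U.is_maximal' hV hUV
  have haU : (⟨a, ha⟩ : E.autGroup Q) ∈ (U : Subgroup (E.autGroup Q)) := by
    rw [← hVU]
    show a ∈ Cfsg.autInducedBy S Q
    rw [haS]
    exact conjAut_mem_autInducedBy n.2.2 n.2.1
  rw [hU] at haU
  obtain ⟨t, ht, hte⟩ := mem_autInducedBy_iff.1 haU
  have htN : t ∈ normalizerIn T Q := ⟨ht, mem_normalizer_of_aut hte⟩
  refine ⟨t, htN, t⁻¹ * n, ⟨mul_mem (S.inv_mem (hTS ht)) n.2.1, fun q hq => ?_⟩,
    (mul_inv_cancel_left _ _).symm⟩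
  have h1 := hte ⟨q, hq⟩
  change ((a ⟨q, hq⟩ : Q) : Ω) = t * q * t⁻¹ at h1
  rw [haS, conjAut_apply] at h1
  calc q * (t⁻¹ * n) = t⁻¹ * (t * q * t⁻¹) * n := by group
    _ = t⁻¹ * ((n : Ω) * q * (n : Ω)⁻¹) * n := by rw [← h1]
    _ = _ := by group

/-- `O^p` of `Y` meets `range ι` inside the image of `T`. -/
theorem mem_T_of_mem_lGrp (hQtc : TCentric F T Q) (hfn : F.IsFullyNormalized Q)
    {n : normalizerIn S Q} (hn : ι n ∈ lGrp E p hL hQ) : (n : Ω) ∈ T := by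
  have := hL.fin
  have hY := normal_yGrp hL hQ hS hE hQtc.1
  obtain ⟨U, hU⟩ := hL.syl
  set Y := yGrp E hL hQ
  obtain ⟨y, hy, hye⟩ := hn
  -- the trace of the Sylow subgroup
  have hXp : IsPGroup p ((U : Subgroup M).subgroupOf Y) :=
    U.isPGroup'.comap_of_injective _ (Subgroup.subtype_injective _)
  obtain ⟨X, hX⟩ : ∃ X : Sylow p Y, (X : Subgroup Y) = (U : Subgroup M).subgroupOf Y := by
    obtain ⟨V, hV⟩ := sylow_inf_normal U Y
    refine ⟨V, Subgroup.map_injective Y.subtype_injective ?_⟩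
    rw [hV, Subgroup.subgroupOf_map_subtype]
  have key : (X : Subgroup Y) ⊓ Cfsg.pResidual p Y ≤
      (((T.subgroupOf (normalizerIn S Q)).map ι).subgroupOf Y) := by
    refine Meet.inf_pResidual_le X fun W hW b _ hbW w hw => ?_
    have hwX := hW hw
    have hbwX := hW (hbW w hw)
    rw [hX, Subgroup.mem_subgroupOf, hU] at hwX hbwX
    obtain ⟨n, hn⟩ := hwX
    obtain ⟨n', hn'⟩ := hbwX
    change ι n' = (b : M) * (w : M) * (b : M)⁻¹ at hn'
    obtain ⟨t, ht, c, hc, hnt⟩ := exists_decomp hL hQ hS hE hQtc hfn (n := n) (hn ▸ w.2)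
    set t' : normalizerIn S Q := ⟨t, le_S hE ht.1, ht.2⟩
    set c' : normalizerIn S Q := ⟨c, centralizerIn_le_normalizerIn Q hc⟩
    have hn1 : n = t' * c' := Subtype.ext hnt
    obtain ⟨q, hq⟩ := b.2.2 c' hc
    set q' : normalizerIn S Q := ⟨q, le_normalizerIn hQ q.2⟩
    have hbt : (b : M) * ι t' * (b : M)⁻¹ = ι (n' * (c' * q')⁻¹) := by
      rw [map_mul, map_inv, map_mul, hn', ← hn, hn1, map_mul,
        show ι q' = qMap ι hQ q from rfl, hq]
      group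
    have hz : ∀ x : Subgroup.zpowers t, (b : M) * ι (Subgroup.inclusion
        (Subgroup.zpowers_le.2 (show t ∈ normalizerIn S Q from t'.2)) x) * (b : M)⁻¹ ∈ ι.range := by
      intro x
      obtain ⟨i, hi⟩ := x.2
      have e : (Subgroup.inclusion (Subgroup.zpowers_le.2 (show t ∈ normalizerIn S Q from t'.2)) x :
          normalizerIn S Q) = t' ^ i := Subtype.ext (by simpa [t'] using hi.symm)
      rw [e, map_zpow, ← conj_zpow, hbt, ← map_zpow]
      exact ⟨_, rfl⟩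
    obtain ⟨f, hf, hfe⟩ := hL.conj (b : M) _ hz
    obtain ⟨hft, hfte⟩ := hfe ⟨t, Subgroup.mem_zpowers t⟩
    have hT' : ((n' * (c' * q')⁻¹ : normalizerIn S Q) : Ω) ∈ T := by
      have h1 : (⟨f t, hft⟩ : normalizerIn S Q) = n' * (c' * q')⁻¹ :=
        hL.inj (hfte.trans hbt)
      rw [← h1]
      exact mor_mem_T hE hf (Subgroup.mem_zpowers t) ht.1
    refine ⟨n⁻¹ * n', ?_, ?_⟩
    · show ((n⁻¹ * n' : normalizerIn S Q) : Ω) ∈ T
      set τ : Ω := ((n' * (c' * q')⁻¹ : normalizerIn S Q) : Ω) with hτ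
      have e : ((n⁻¹ * n' : normalizerIn S Q) : Ω) = (c⁻¹ * (t⁻¹ * τ) * c) * q := by
        rw [hτ, hn1]
        show (t * c)⁻¹ * (n' : Ω) = c⁻¹ * (t⁻¹ * ((n' : Ω) * (c * (q : Ω))⁻¹)) * c * (q : Ω)
        group
      rw [e]
      refine mul_mem ?_ (hQtc.1 q.2)
      have h1 := conj_mem_T hE (S.inv_mem hc.1) (mul_mem (inv_mem ht.1) hT')
      rwa [inv_inv] at h1
    · show ι (n⁻¹ * n') = _
      rw [map_mul, map_inv, hn, hn']
      rfl
  obtain ⟨n₁, hn₁, hn₁e⟩ := key (⟨by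
    rw [hX]
    show (y : M) ∈ (U : Subgroup M)
    rw [hU]
    exact ⟨n, hye.symm⟩, hy⟩ : y ∈ (X : Subgroup Y) ⊓ Cfsg.pResidual p Y)
  change ι n₁ = (y : M) at hn₁e
  change (y : M) = ι n at hye
  rw [← hL.inj (hn₁e.trans hye)]
  exact hn₁

/-- An element of `L` acting on `Q` as an element of `N_T(Q)` comes from `N_T(Q)`. -/
theorem exists_T_of_mem_lGrp (hQtc : TCentric F T Q) (hfn : F.IsFullyNormalized Q) {z : M}
    (hz : z ∈ lGrp E p hL hQ) {t : Ω} (ht : t ∈ normalizerIn T Q)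
    (hzt : ∀ x : Q, z * qMap ι hQ x * z⁻¹ =
      qMap ι hQ ⟨t * x * t⁻¹, conj_mem_of_normalizer ht.2 x.2⟩) :
    ∃ n : normalizerIn S Q, (n : Ω) ∈ normalizerIn T Q ∧ ι n = z := by
  set t' : normalizerIn S Q := ⟨t, le_S hE ht.1, ht.2⟩
  have hy : z * (ι t')⁻¹ ∈ yGrp E hL hQ :=
    mul_mem (lGrp_le hL hQ hz) (inv_mem (iota_mem_yGrp hL hQ hS hE hQtc (t := t') ht.1))
  obtain ⟨c, -, hc⟩ := mem_range_of_fix hL hQ hS hE hQtc.1 hy fun x => by
    obtain ⟨y, rfl⟩ : ∃ y : Q, x = ⟨t * y * t⁻¹, conj_mem_of_normalizer ht.2 y.2⟩ := by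
      refine ⟨⟨t⁻¹ * x * t, ?_⟩, Subtype.ext (by group)⟩
      have h1 := conj_mem_of_normalizer (Subgroup.inv_mem _ ht.2) x.2
      rwa [inv_inv] at h1
    have e : qMap ι hQ ⟨t * y * t⁻¹, conj_mem_of_normalizer ht.2 y.2⟩ =
        ι t' * qMap ι hQ y * (ι t')⁻¹ := by
      show ι _ = ι t' * ι _ * (ι t')⁻¹
      rw [← map_inv, ← map_mul, ← map_mul]
      exact congrArg ι (Subtype.ext rfl)
    rw [e, mul_inv_rev, inv_inv]
    calc _ = z * qMap ι hQ y * z⁻¹ := by group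
      _ = _ := by rw [hzt, e]
  have hzn : ι (c * t') = z := by rw [map_mul, hc]; group
  refine ⟨c * t', ⟨mem_T_of_mem_lGrp hL hQ hS hE hQtc hfn (hzn.symm ▸ hz), (c * t').2.2⟩, hzn⟩

/-- An automorphism in `E` of order prime to `p` is realized in `L` by an element of order prime
to `p`. -/
theorem exists_lGrp (hQtc : TCentric F T Q) (hfn : F.IsFullyNormalized Q) {a : MulAut Q}
    (ha : a ∈ E.autGroup Q) (hco : (orderOf a).Coprime p) :
    ∃ l ∈ lGrp E p hL hQ, (orderOf l).Coprime p ∧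
      ∀ x, l * qMap ι hQ x * l⁻¹ = qMap ι hQ (a x) := by
  have := hL.fin
  obtain ⟨f, hf, hfa, hfc⟩ := liftsQ_all hS hE hQtc hfn ha
  have hWN := sup_le_normalizerIn (S := S) hQ
  have hfm := LiftsQ.mapsTo hf hfa hfc
  have : Finite Q := finite_of_le hQ
  have hfQ : f '' (Q : Set Ω) = Q := image_eq (hf.restrict le_sup_left) fun x hx =>
    hfa ⟨x, hx⟩ ▸ SetLike.coe_mem _
  obtain ⟨m, hm⟩ := hL.real hf le_rfl hfQ hWN fun x hx => hWN (hfm x hx)
  have hmQ : ∀ x : Q, m * qMap ι hQ x * m⁻¹ = qMap ι hQ (a x) := fun x => by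
    refine (hm x (Subgroup.mem_sup_left x.2) (le_normalizerIn hQ x.2)
      (by rw [hfa]; exact le_normalizerIn hQ (a x).2)).symm.trans ?_
    exact congrArg ι (Subtype.ext (hfa x))
  have hmY : m ∈ yGrp E hL hQ := by
    refine ⟨⟨a, ha, hmQ⟩, fun c hc => ?_⟩
    have hfx : f c ∈ normalizerIn S Q := hWN (hfm c (Subgroup.mem_sup_right hc))
    rw [← hm c (Subgroup.mem_sup_right hc) c.2 hfx, ← map_inv, ← map_mul]
    exact qMap_mem_range hQ (hfc c hc)
  have := finite_mulAut Q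
  obtain ⟨k, n, -, hn, hmn, hk⟩ := exists_coprime_exponent (p := p) m hco
  have hak : a ^ k = a := hk a rfl
  have hco' : (orderOf (m ^ k)).Coprime p :=
    hn.coprime_dvd_left (orderOf_dvd_of_pow_eq_one hmn)
  refine ⟨m ^ k, mem_lGrp hL hQ (pow_mem hmY k) hco', hco', fun x => ?_⟩
  have hpow : ∀ i : ℕ, ∀ x, m ^ i * qMap ι hQ x * (m ^ i)⁻¹ = qMap ι hQ ((a ^ i) x) := by
    intro i
    induction i with
    | zero => intro x; simp
    | succ i ih =>
      intro x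
      rw [pow_succ' a, MulAut.mul_apply, ← hmQ, ← ih, pow_succ']
      group
  rw [hpow, hak]

/-- A `p'`-element of `L · range ι` lies in `L`. -/
theorem mem_lGrp_of_coprime (hLn : (lGrp E p hL hQ).Normal) {R : Subgroup M} (hR : R ≤ ι.range)
    {m : M} (hm : m ∈ lGrp E p hL hQ ⊔ R) (hco : (orderOf m).Coprime p) :
    m ∈ lGrp E p hL hQ := by
  set L := lGrp E p hL hQ
  obtain ⟨U, hU⟩ := hL.syl
  have hUp : IsPGroup p ι.range := hU ▸ U.isPGroup'
  let π := QuotientGroup.mk' L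
  have hRp : IsPGroup p (R.map π) := (hUp.to_le hR).map π
  have hmR : π m ∈ R.map π := by
    have h1 : (L ⊔ R).map π = R.map π := by
      rw [Subgroup.map_sup, (Subgroup.map_eq_bot_iff _).2
        (le_of_eq (QuotientGroup.ker_mk' L).symm), bot_sup_eq]
    exact h1 ▸ ⟨m, hm, rfl⟩
  obtain ⟨k, hk⟩ := hRp ⟨π m, hmR⟩
  have h1 : (π m) ^ p ^ k = 1 := congrArg Subtype.val hk
  have h2 : π m = 1 := by
    rw [← pow_one (π m), ← (hco.pow_right k).gcd_eq_one, pow_gcd_eq_one]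
    exact ⟨by rw [← map_pow, pow_orderOf_eq_one, map_one], h1⟩
  exact (QuotientGroup.eq_one_iff m).1 h2

end CfsgLib.Product89
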