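import Cfsg.Agent.Fus.Product89.KSystem
import Cfsg.Agent.Fus.Meet.Stab
import Cfsg.Agent.Fus.CentricExtension
import Cfsg.Agent.Fus.NormalChar.Radical

/-!
A model for the maps on `Q C_S(Q)` stabilizing a fully normalized `Q`.
-/

set_option autoImplicit false

namespace CfsgLib.Product89

open Cfsg Cfsg.FusionSystem CfsgLib.Fus CfsgLib.NormalCent CfsgLib.FusModel

universe u

variable {Ω : Type u} [Group Ω] {S : Subgroup Ω} {F : Cfsg.FusionSystem S} {p : ℕ} {Q : Subgroup Ω}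

/-- The properties of the model used below. -/
structure LocalModel (F : Cfsg.FusionSystem S) (p : ℕ) (Q : Subgroup Ω) (M : Type*) [Group M]
    (ι : normalizerIn S Q →* M) : Prop where
  fin : Finite M
  inj : Function.Injective ι
  syl : ∃ T : Sylow p M, (T : Subgroup M) = ι.range
  real : ∀ {W : Subgroup Ω} {f : Ω → Ω}, Mor F W f → Q ⊔ centralizerIn S Q ≤ W →
    f '' (Q : Set Ω) = Q → W ≤ normalizerIn S Q → (∀ x ∈ W, f x ∈ normalizerIn S Q) →
    ∃ m, ∀ x ∈ W, ∀ (hx : x ∈ normalizerIn S Q) (hfx : f x ∈ normalizerIn S Q),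
      ι ⟨f x, hfx⟩ = m * ι ⟨x, hx⟩ * m⁻¹
  conj : ∀ (m : M) {W : Subgroup Ω} (hW : W ≤ normalizerIn S Q),
    (∀ x : W, m * ι (Subgroup.inclusion hW x) * m⁻¹ ∈ ι.range) →
    ∃ f, Mor F W f ∧ ∀ x : W, ∃ hfx : f x ∈ normalizerIn S Q,
      ι ⟨f x, hfx⟩ = m * ι (Subgroup.inclusion hW x) * m⁻¹
  nQ : ((Q.subgroupOf (normalizerIn S Q)).map ι).Normal
  nC : (((centralizerIn S Q).subgroupOf (normalizerIn S Q)).map ι).Normal
  faithful : ∀ m : M, (orderOf m).Coprime p →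
    (∀ x : normalizerIn S Q, (x : Ω) ∈ Q ⊔ centralizerIn S Q → m * ι x * m⁻¹ = ι x) → m = 1

theorem sup_le_normalizerIn (hQ : Q ≤ S) : Q ⊔ centralizerIn S Q ≤ normalizerIn S Q :=
  sup_le (le_normalizerIn hQ) (centralizerIn_le_normalizerIn Q)

/-- The automorphisms of `Q C_S(Q)` stabilizing `Q`. -/
def stabK (S Q : Subgroup Ω) : Subgroup (MulAut (Q ⊔ centralizerIn S Q : Subgroup Ω)) where
  carrier := {a | ∀ x, ((a x : (Q ⊔ centralizerIn S Q : Subgroup Ω)) : Ω) ∈ Q ↔ (x : Ω) ∈ Q}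
  one_mem' := fun _ => Iff.rfl
  mul_mem' := fun {a b} ha hb x => (ha (b x)).trans (hb x)
  inv_mem' := fun {a} ha x => by
    have h := ha (a⁻¹ x)
    rw [MulAut.apply_inv_self] at h
    exact h.symm

theorem kNormalizer_stabK (hQ : Q ≤ S) :
    kNormalizer S (Q ⊔ centralizerIn S Q) (stabK S Q) = normalizerIn S Q := by
  ext g
  constructor
  · rintro ⟨hg, a, ha, hae⟩
    refine ⟨hg, Subgroup.mem_normalizer_iff.2 fun x => ⟨fun hx => ?_, fun hx => ?_⟩⟩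
    · exact (hae ⟨x, Subgroup.mem_sup_left hx⟩).subst (motive := (· ∈ Q))
        ((ha ⟨x, Subgroup.mem_sup_left hx⟩).2 hx)
    · obtain ⟨y, hy⟩ := a.surjective ⟨g * x * g⁻¹, Subgroup.mem_sup_left hx⟩
      have h1 : g * (y : Ω) * g⁻¹ = g * x * g⁻¹ := (hae y).symm.trans (congrArg Subtype.val hy)
      have h2 : (y : Ω) = x := mul_left_cancel (mul_right_cancel h1)
      rw [← h2]
      refine (ha y).1 ?_
      rw [hy]
      exact hx
  · intro hg
    have hn := Meet.normalizer_sup hg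
    refine mem_kNormalizer_of_conjAut hg.1 (hgN := hn) fun x => ?_
    show g * (x : Ω) * g⁻¹ ∈ Q ↔ (x : Ω) ∈ Q
    exact ((Subgroup.mem_normalizer_iff.1 hg.2) x).symm

variable [Finite S] [Fact p.Prime] (hS : IsPGroup p S) (hF : F.IsSaturated p)
  (hQ : F.IsFullyNormalized Q)

include hS hF hQ

/-- Models exist. -/
theorem exists_localModel :
    ∃ (M : Type u) (_ : Group M) (ι : normalizerIn S Q →* M), LocalModel F p Q M ι := by
  have hfc := fullyCentralized_of_fullyNormalized hS hF hQ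
  set W₀ := Q ⊔ centralizerIn S Q with hW₀
  have hW₀S : W₀ ≤ S := sup_le hQ.1 (centralizerIn_le Q)
  have hQW : Q ≤ W₀ := le_sup_left
  have hW₀N := sup_le_normalizerIn (S := S) hQ.1
  have : Finite W₀ := finite_of_le hW₀S
  have := finite_mulAut W₀
  have hrec := Meet.receptive_sup hS hF hfc
  let N := kNormalizer S W₀ (stabK S Q)
  let D : Cfsg.FusionSystem N := kSys F W₀ hrec.1 (stabK S Q)
  have hmemD : ∀ {P : Subgroup Ω} {φ : P →* Ω}, φ ∈ D.Hom P ↔ φ ∈ F.Hom P ∧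
      P ≤ kNormalizer S W₀ (stabK S Q) ∧ (∀ x, φ x ∈ kNormalizer S W₀ (stabK S Q)) ∧
      ∃ ψ ∈ F.Hom (P ⊔ W₀), (∀ x : P, ψ (Subgroup.inclusion le_sup_left x) = φ x) ∧
        ∃ α ∈ stabK S Q, ∀ x : W₀, ψ (Subgroup.inclusion le_sup_right x) = ((α x : W₀) : Ω) :=
    Iff.rfl
  have hN : N = normalizerIn S Q := kNormalizer_stabK hQ.1
  have : Finite N := finite_of_le (kNormalizer_le _)
  obtain ⟨X, hX⟩ := Meet.exists_sylow_stab hS hF hQ
  have hDs : D.IsSaturated p := isSaturated_kSys (K := stabK S Q) hS hF hrec fun Y hY hYp => by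
    let Y' : Subgroup (CfsgLib.Fus.Generated.stab F W₀ Q) :=
      Y.comap ((F.autGroup W₀).subtype.comp (CfsgLib.Fus.Generated.stab F W₀ Q).subtype)
    have hY' : IsPGroup p Y' := hYp.comap_of_injective _ fun a b e =>
      Subtype.ext (Subtype.ext e)
    obtain ⟨z, hz⟩ := exists_conj_mem_sylow X hY'
    refine ⟨_, ⟨z.1.2, z.2⟩, fun y hy => ?_⟩
    have h1 := hz ⟨⟨y, (hY hy).1⟩, (hY hy).2⟩ hy
    rw [hX] at h1
    exact h1
  have hext : ∀ {P : Subgroup Ω} {φ : P →* Ω}, φ ∈ D.Hom P → ∀ {V : Subgroup Ω}, V ≤ W₀ →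
      (∀ α ∈ stabK S Q, ∀ x : W₀, ((α x : W₀) : Ω) ∈ V ↔ (x : Ω) ∈ V) →
      ∃ ψ ∈ D.Hom (P ⊔ V), (∀ x : P, ψ (Subgroup.inclusion le_sup_left x) = φ x) ∧
        (V.subgroupOf (P ⊔ V)).map ψ = V := by
    intro P φ hφ V hV hinv
    obtain ⟨-, hP, hφN, ψ, hψ, hψP, α, hα, hψα⟩ := hmemD.1 hφ
    have hle : P ⊔ V ≤ P ⊔ W₀ := sup_le_sup_left hV P
    have hW₀le : W₀ ≤ N := hN ▸ hW₀N
    have hψN : ∀ x, ψ x ∈ N := fun x => by
      have := map_mem_sup ψ (A := N) (B := N) (fun y => hψP y ▸ hφN y)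
        (fun y => hψα y ▸ hW₀le (α y).2) x
      rwa [sup_idem] at this
    refine ⟨ψ.comp (Subgroup.inclusion hle), hmemD.2 ⟨restrict_mem F hψ hle,
      sup_le hP (hV.trans hW₀le), fun x => hψN _, ?_⟩, fun x => hψP x, ?_⟩
    · refine ⟨ψ.comp (Subgroup.inclusion (sup_le hle le_sup_right)),
        restrict_mem F hψ _, fun x => rfl, α, hα, fun x => hψα x⟩
    · ext z
      constructor
      · rintro ⟨x, hx, rfl⟩
        show ψ _ ∈ V
        have e : Subgroup.inclusion hle x =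
            (Subgroup.inclusion le_sup_right (⟨(x : Ω), hV hx⟩ : W₀) : (P ⊔ W₀ : Subgroup Ω)) :=
          Subtype.ext rfl
        rw [e, hψα]
        exact (hinv α hα ⟨x, hV hx⟩).2 hx
      · intro hz
        obtain ⟨y, hy⟩ := α.surjective ⟨z, hV hz⟩
        have hyV : (y : Ω) ∈ V := (hinv α hα y).1 (by rw [hy]; exact hz)
        refine ⟨⟨y, Subgroup.mem_sup_right hyV⟩, hyV, ?_⟩
        show ψ _ = z
        rw [show Subgroup.inclusion hle ⟨y, Subgroup.mem_sup_right hyV⟩ =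
          Subgroup.inclusion le_sup_right y from Subtype.ext rfl, hψα, hy]
  have hnW : D.IsNormal W₀ := ⟨hN ▸ hW₀N, fun P φ hφ =>
    hext hφ le_rfl fun α _ x => ⟨fun _ => x.2, fun _ => (α x).2⟩⟩
  have hnQ : D.IsNormal Q := ⟨hN ▸ le_normalizerIn hQ.1, fun P φ hφ =>
    hext hφ hQW fun α hα x => hα x⟩
  have hDF : D.IsSubsystemOf F := fun P φ h => (hmemD.1 h).1
  have hcW : D.IsCentric W₀ := by
    refine ⟨hnW.1, fun U hU c hc => ?_⟩
    obtain ⟨φ, hφ, hr⟩ := hU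
    exact (Meet.isCentric_sup hfc).2 U ⟨φ, hDF _ hφ, hr⟩ ⟨kNormalizer_le _ hc.1, hc.2⟩
  obtain ⟨M, _, ι₀, hmod⟩ := exists_model (hS.to_le (kNormalizer_le _)) hDs hnW hcW
  obtain ⟨hfin, ⟨hinj, hreal⟩, hsyl, hcon⟩ := id hmod
  let ι : normalizerIn S Q →* M := ι₀.comp (Subgroup.inclusion hN.ge)
  have hιr : ι.range = ι₀.range := by
    ext m
    constructor
    · rintro ⟨x, rfl⟩; exact ⟨_, rfl⟩
    · rintro ⟨x, rfl⟩; exact ⟨⟨x, hN.le x.2⟩, rfl⟩
  have hιinj : Function.Injective ι := hinj.comp (Subgroup.inclusion_injective _)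
  have hconj : ∀ (m : M) {W : Subgroup Ω} (hW : W ≤ normalizerIn S Q),
      (∀ x : W, m * ι (Subgroup.inclusion hW x) * m⁻¹ ∈ ι.range) →
      ∃ f, Mor F W f ∧ ∀ x : W, ∃ hfx : f x ∈ normalizerIn S Q,
        ι ⟨f x, hfx⟩ = m * ι (Subgroup.inclusion hW x) * m⁻¹ := by
    intro m W hW hm
    let θ : W →* normalizerIn S Q := (MonoidHom.ofInjective hιinj).symm.toMonoidHom.comp
      (((MulAut.conj m).toMonoidHom.comp (ι.comp (Subgroup.inclusion hW))).codRestrict ι.range hm)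
    have hθ : ∀ x, ι (θ x) = m * ι (Subgroup.inclusion hW x) * m⁻¹ := fun x => by
      show ι ((MonoidHom.ofInjective hιinj).symm ⟨_, hm x⟩) = _
      rw [MonoidHom.apply_ofInjective_symm]
    have hφ : (normalizerIn S Q).subtype.comp θ ∈ D.Hom W :=
      (hreal W (hW.trans hN.ge) _ fun x => hN.ge (θ x).2).2 ⟨m, fun x => hθ x⟩
    obtain ⟨f, hf, hfe⟩ := exists_mor (hDF _ hφ)
    refine ⟨f, hf, fun x => ⟨by rw [hfe]; exact (θ x).2, ?_⟩⟩
    rw [← hθ x]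
    congr 1
    exact Subtype.ext (hfe x)
  have hsub : ∀ V : Subgroup Ω, (V.subgroupOf (normalizerIn S Q)).map ι =
      (V.subgroupOf N).map ι₀ := by
    intro V
    ext m
    constructor
    · rintro ⟨x, hx, rfl⟩; exact ⟨_, hx, rfl⟩
    · rintro ⟨x, hx, rfl⟩; exact ⟨⟨x, hN.le x.2⟩, hx, rfl⟩
  have hnQM : ((Q.subgroupOf (normalizerIn S Q)).map ι).Normal :=
    hsub Q ▸ normal_image_of_model hmod hnQ
  have hnWM : ((W₀.subgroupOf (normalizerIn S Q)).map ι).Normal :=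
    hsub W₀ ▸ normal_image_of_model hmod hnW
  obtain ⟨T, hT⟩ := hsyl
  refine ⟨M, inferInstance, ι, ⟨hfin, hιinj, ⟨T, hT.trans hιr.symm⟩, ?_, hconj, hnQM, ?_, ?_⟩⟩
  · intro W f hf hW₀W hfQ hW hfW
    have hfC : ∀ c ∈ centralizerIn S Q, f c ∈ centralizerIn S Q := fun c hc =>
      map_centralizerIn hf (hQW.trans hW₀W) hfQ (hW₀W (Subgroup.mem_sup_right hc)) hc
    have hfW₀ : f '' (W₀ : Set Ω) = W₀ := image_eq (hf.restrict hW₀W) fun x hx =>
      mem_of_sup hf hW₀W (fun y hy => Subgroup.mem_sup_left (hfQ.subset ⟨y, hy, rfl⟩))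
        (fun c hc => Subgroup.mem_sup_right (hfC c hc)) hx
    obtain ⟨φ, hφ, hφe⟩ := hf
    obtain ⟨ψ, hψ, hψe⟩ := Mor.restrict (f := f) ⟨φ, hφ, hφe⟩ (sup_le le_rfl hW₀W : W ⊔ W₀ ≤ W)
    obtain ⟨α, hα⟩ := exists_aut_of_mor (Mor.restrict (f := f) ⟨φ, hφ, hφe⟩ hW₀W) hfW₀
    have hαK : (α : MulAut W₀) ∈ stabK S Q := fun x => by
      rw [hα]
      conv_lhs => rw [← SetLike.mem_coe, ← hfQ]
      exact (Mor.injOn (f := f) ⟨φ, hφ, hφe⟩).mem_image_iff
        (fun y hy => hW₀W (hQW hy)) (hW₀W x.2)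
    have hD' : φ ∈ D.Hom W := hmemD.2 ⟨hφ, hW.trans hN.ge, fun x => hN.ge (by rw [hφe]; exact hfW x x.2),
      ψ, hψ, fun x => (hψe _).trans (hφe x).symm, α, hαK, fun x => (hψe _).trans (hα x).symm⟩
    obtain ⟨m, hm⟩ := (hreal W (hW.trans hN.ge) φ fun x => hN.ge (by rw [hφe]; exact hfW x x.2)).1 hD'
    refine ⟨m, fun x hx hxN hfx => ?_⟩
    have h1 := hm ⟨x, hx⟩
    refine Eq.trans ?_ (h1.trans ?_)
    · show ι₀ _ = ι₀ _
      congr 1
      exact Subtype.ext (hφe ⟨x, hx⟩).symm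
    · rfl
  · refine ⟨fun y hy m => ?_⟩
    obtain ⟨c, hc, rfl⟩ := hy
    obtain ⟨w, hw, hwe⟩ := hnWM.conj_mem (ι c) ⟨c, Subgroup.mem_sup_right hc, rfl⟩ m
    refine ⟨w, ⟨w.2.1, fun q hq => ?_⟩, hwe⟩
    obtain ⟨q', hq', hqe⟩ := hnQM.conj_mem (ι ⟨q, le_normalizerIn hQ.1 hq⟩) ⟨_, hq, rfl⟩ m⁻¹
    have e : q' * c = c * q' := Subtype.ext (hc.2 _ hq')
    have h1 : ι (⟨q, le_normalizerIn hQ.1 hq⟩ * w) = ι (w * ⟨q, le_normalizerIn hQ.1 hq⟩) := by
      rw [map_mul, map_mul, hwe]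
      have h2 := congrArg (fun z => m * ι z * m⁻¹) e
      simp only [map_mul, hqe, inv_inv] at h2
      group at h2 ⊢
      exact h2
    exact congrArg Subtype.val (hιinj h1)
  · intro m hm hfix
    have hO : Cfsg.pCore p M ≤ ι.range := (hιr.trans hT.symm) ▸ CharP.pCore_le_sylow T
    set O := ((Cfsg.pCore p M).comap ι).map (normalizerIn S Q).subtype with hOdef
    have hON : O ≤ normalizerIn S Q := Subgroup.map_subtype_le _
    set V := O ⊔ W₀
    have hVN : V ≤ normalizerIn S Q := sup_le hON hW₀N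
    have hOmem : ∀ z : normalizerIn S Q, (z : Ω) ∈ O ↔ ι z ∈ Cfsg.pCore p M := fun z => by
      constructor
      · rintro ⟨z', hz', e⟩
        rwa [show z = z' from Subtype.ext e.symm]
      · exact fun h => ⟨z, h, rfl⟩
    have hVmem : ∀ x : normalizerIn S Q, (x : Ω) ∈ V →
        ∃ y : normalizerIn S Q, (y : Ω) ∈ V ∧ ι y = m * ι x * m⁻¹ := by
      intro x hx
      suffices h : x ∈ ((V.subgroupOf (normalizerIn S Q)).map ι).comap
          ((MulAut.conj m).toMonoidHom.comp ι) by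
        obtain ⟨y, hy, hye⟩ := h
        exact ⟨y, hy, hye⟩
      have hx' : x ∈ (O ⊔ W₀).subgroupOf (normalizerIn S Q) := hx
      rw [Subgroup.subgroupOf_sup hON hW₀N] at hx'
      refine (sup_le (fun z hz => ?_) fun z hz => ?_ :
        O.subgroupOf (normalizerIn S Q) ⊔ W₀.subgroupOf (normalizerIn S Q) ≤ _) hx'
      · have h1 := (Cfsg.pCore_normal p M).conj_mem _ ((hOmem z).1 hz) m
        obtain ⟨y, hy⟩ := hO h1
        exact ⟨y, Subgroup.mem_sup_left ((hOmem y).2 (hy ▸ h1)), hy⟩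
      · exact ⟨z, Subgroup.mem_sup_right hz, (hfix z hz).symm⟩
    obtain ⟨g, hg, hge⟩ := hconj m hVN fun x => by
      obtain ⟨y, -, hy⟩ := hVmem ⟨x, hVN x.2⟩ x.2
      exact ⟨y, hy⟩
    have hgV : g '' (V : Set Ω) = V := by
      have : Finite V := finite_of_le (hVN.trans (normalizerIn_le Q))
      refine image_eq hg fun x hx => ?_
      obtain ⟨y, hy, hye⟩ := hVmem ⟨x, hVN hx⟩ hx
      obtain ⟨hgx, hgxe⟩ := hge ⟨x, hx⟩
      have e : (y : Ω) = g x := congrArg Subtype.val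
        (show y = (⟨g x, hgx⟩ : normalizerIn S Q) from hιinj (hye.trans hgxe.symm))
      exact e ▸ hy
    obtain ⟨α, hα⟩ := exists_aut_of_mor hg hgV
    have hWV : W₀ ≤ V := le_sup_right
    obtain ⟨z, hzW, hz⟩ := CentricExt.aut_fix_centric hS hF (hVN.trans (normalizerIn_le Q)) hWV
      (fun x hx => Meet.normalizer_sup (hVN hx)) (Meet.isCentric_sup hfc) α.2 fun x hx => by
        refine Subtype.ext ((hα x).trans ?_)
        obtain ⟨hgx, hgxe⟩ := hge x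
        exact congrArg Subtype.val (hιinj (hgxe.trans (hfix (Subgroup.inclusion hVN x) hx)))
    set ζ := ι ⟨z, hW₀N hzW⟩
    have hmz : Commute m ζ := by
      have h1 := hfix ⟨z, hW₀N hzW⟩ hzW
      exact mul_inv_eq_iff_eq_mul.1 h1
    have hmd : ∀ x : V, (ζ⁻¹ * m) * ι (Subgroup.inclusion hVN x) * (ζ⁻¹ * m)⁻¹ =
        ι (Subgroup.inclusion hVN x) := fun x => by
      obtain ⟨hgx, hgxe⟩ := hge x
      have h1 : (⟨g x, hgx⟩ : normalizerIn S Q) = ⟨z, hW₀N hzW⟩ * Subgroup.inclusion hVN x *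
          (⟨z, hW₀N hzW⟩)⁻¹ := Subtype.ext (show g x = _ from (hα x).symm.trans (congrArg Subtype.val (hz x)))
      rw [h1, map_mul, map_mul, map_inv] at hgxe
      calc ζ⁻¹ * m * ι (Subgroup.inclusion hVN x) * (ζ⁻¹ * m)⁻¹
          = ζ⁻¹ * (m * ι (Subgroup.inclusion hVN x) * m⁻¹) * ζ := by group
        _ = ι (Subgroup.inclusion hVN x) := by rw [← hgxe]; simp only [ζ]; group
    have hd : ζ⁻¹ * m ∈ Cfsg.pCore p M := hcon fun k hk => by
      obtain ⟨x, rfl⟩ := hO hk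
      have h1 := hmd ⟨x, Subgroup.mem_sup_left ((hOmem x).2 hk)⟩
      exact (mul_inv_eq_iff_eq_mul.1 h1).symm
    obtain ⟨d, hde⟩ := hO hd
    have hmr : m ∈ ι.range := ⟨⟨z, hW₀N hzW⟩ * d, by rw [map_mul, hde]; simp only [ζ]; group⟩
    obtain ⟨x, rfl⟩ := hmr
    have hx : x = 1 := by
      rw [orderOf_injective ι hιinj] at hm
      refine Subtype.ext (eq_one_of_coprime_pow hS x.2.1 hm ?_)
      exact congrArg Subtype.val (pow_orderOf_eq_one x)
    rw [hx, map_one]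

end CfsgLib.Product89
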