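import Cfsg.Agent.Fus.Product89.Act
import Cfsg.Agent.Fus.Product89.KSystem
import Cfsg.Agent.Fus.Meet.Stab
import Cfsg.Agent.Fusion.Alperin.Theorem

/-!
A `p'`-automorphism of `W ≥ Q` displacing inside `T`, with restriction to `Q` in `E`, is realized in
`O^p` of the part of the local model in `E`.
-/

set_option autoImplicit false

namespace CfsgLib.Product89

open Cfsg Cfsg.FusionSystem CfsgLib.Fus CfsgLib.NormalCent

universe u

variable {Ω : Type u} [Group Ω] {S T : Subgroup Ω} {F : Cfsg.FusionSystem S}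
  {E : Cfsg.FusionSystem T} {p : ℕ} {Q : Subgroup Ω} {M : Type*} [Group M]
  {ι : normalizerIn S Q →* M}

/-- `α` is conjugation by `m`, read through `ι`. -/
def RealBy (ι : normalizerIn S Q →* M) {R : Subgroup Ω} (α : MulAut R) (m : M) : Prop :=
  ∀ x : R, jMap ι ((α x : R) : Ω) = m * jMap ι (x : Ω) * m⁻¹

theorem RealBy.one {R : Subgroup Ω} : RealBy ι (1 : MulAut R) 1 := fun x => by simp

theorem RealBy.mul {R : Subgroup Ω} {α β : MulAut R} {m n : M} (hα : RealBy ι α m)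
    (hβ : RealBy ι β n) : RealBy ι (α * β) (m * n) := fun x => by
  rw [MulAut.mul_apply, hα, hβ]
  group

theorem RealBy.inv {R : Subgroup Ω} {α : MulAut R} {m : M} (hα : RealBy ι α m) :
    RealBy ι α⁻¹ m⁻¹ := fun x => by
  have h := hα (α⁻¹ x)
  rw [MulAut.apply_inv_self] at h
  rw [h]
  group

theorem RealBy.pow {R : Subgroup Ω} {α : MulAut R} {m : M} (hα : RealBy ι α m) :
    ∀ k : ℕ, RealBy ι (α ^ k) (m ^ k)
  | 0 => by simpa using RealBy.one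
  | k + 1 => by rw [pow_succ, pow_succ]; exact (hα.pow k).mul hα

theorem RealBy.unique (hL : LocalModel F p Q M ι) {R : Subgroup Ω} (hR : R ≤ normalizerIn S Q)
    {α β : MulAut R} {m : M} (hα : RealBy ι α m) (hβ : RealBy ι β m) : α = β :=
  MulEquiv.ext fun x => Subtype.ext
    (jMap_inj hL (hR (α x).2) (hR (β x).2) ((hα x).trans (hβ x).symm))

/-- The elements of `L` used for `W`. -/
def GElt (E : Cfsg.FusionSystem T) (W : Subgroup Ω) {F : Cfsg.FusionSystem S}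
    (hL : LocalModel F p Q M ι) (hQ : Q ≤ S) (l : M) : Prop :=
  l ∈ lGrp E p hL hQ ∧ l ∈ condSet T W ι hQ ∧ (orderOf l).Coprime p

/-- The system of `K = Aut_W(Q)`. -/
def dSys (F : Cfsg.FusionSystem S) (W : Subgroup Ω) (hQ : Q ≤ S) :
    Cfsg.FusionSystem (kNormalizer S Q (Cfsg.autInducedBy W Q)) :=
  kSys F Q hQ (Cfsg.autInducedBy W Q)

variable [Finite S] [Fact p.Prime] (hS : IsPGroup p S) (hE : E.IsNormalIn F p)
  (hL : LocalModel F p Q M ι) (hQtc : TCentric F T Q) (hfn : F.IsFullyNormalized Q)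
  {W : Subgroup Ω} (hQW : Q ≤ W) (hW : W ≤ normalizerIn S Q)

include hS hE hL hQtc hfn hQW hW

omit hQW in
/-- An element of the model acting on `Q` like a given map. -/
theorem cond_T {l : M} (hl : l ∈ lGrp E p hL hfn.1) (hc : l ∈ condSet T W ι hfn.1) {x : Ω}
    (hx : x ∈ W ⊔ centralizerIn S Q) (hQW : Q ≤ W) :
    ∃ n ∈ W ⊓ T, l * jMap ι x * l⁻¹ = jMap ι (n * x) := by
  have hQ := hfn.1
  have hTS := le_S hE
  have hB : W ⊔ centralizerIn S Q ≤ normalizerIn S Q :=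
    sup_le hW (centralizerIn_le_normalizerIn Q)
  have hLn := normal_lGrp hL hQ hS hE hQtc.1
  have hz := cond_sup hL hQ hW (fun s hs t ht => conj_mem_T hE hs ht) (m := l) hc hx
  have hzL : l * jMap ι x * l⁻¹ * (jMap ι x)⁻¹ ∈ lGrp E p hL hQ := by
    have h1 := mul_mem hl (hLn.conj_mem _ (Subgroup.inv_mem _ hl) (jMap ι x))
    convert h1 using 1
    group
  set z := l * jMap ι x * l⁻¹ * (jMap ι x)⁻¹ with hzd
  have := normal_centM hL hQ
  obtain ⟨_, ⟨n₁, hn₁, rfl⟩, c, hc', hzc⟩ := Subgroup.mem_sup_of_normal_right.1 hz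
  have hn₁T : (n₁ : Ω) ∈ normalizerIn T Q := ⟨hn₁.2, n₁.2.2⟩
  obtain ⟨n, hn, hne⟩ := exists_T_of_mem_lGrp hL hQ hS hE hQtc hfn hzL hn₁T fun q => by
    have hcq : c * qMap ι hQ q * c⁻¹ = qMap ι hQ q := by
      rw [← hc' _ ⟨q, rfl⟩, mul_inv_cancel_right]
    rw [← hzc]
    calc ι n₁ * c * qMap ι hQ q * (ι n₁ * c)⁻¹
        = ι n₁ * (c * qMap ι hQ q * c⁻¹) * (ι n₁)⁻¹ := by group
      _ = ι n₁ * qMap ι hQ q * (ι n₁)⁻¹ := by rw [hcq]
      _ = _ := by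
        rw [qMap_eq_jMap, qMap_eq_jMap, ← jMap_coe n₁, ← jMap_inv n₁.2,
          ← jMap_mul n₁.2 (le_normalizerIn hQ q.2),
          ← jMap_mul (mul_mem n₁.2 (le_normalizerIn hQ q.2)) (Subgroup.inv_mem _ n₁.2)]
  have hq : (n₁ : Ω)⁻¹ * n ∈ Q := by
    refine tcentric_id hQtc hTS ⟨mul_mem (Subgroup.inv_mem _ hn₁.2) hn.1, fun q hq => ?_⟩
    have hce : c = jMap ι ((n₁ : Ω)⁻¹ * n) := by
      rw [jMap_mul (Subgroup.inv_mem _ n₁.2) n.2, jMap_inv n₁.2, jMap_coe, jMap_coe, hne, ← hzc,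
        inv_mul_cancel_left]
    have hqN := le_normalizerIn hQ hq
    have h1 := hc' _ ⟨⟨q, hq⟩, qMap_eq_jMap hQ _⟩
    rw [hce, ← jMap_mul hqN (mul_mem (Subgroup.inv_mem _ n₁.2) n.2),
      ← jMap_mul (mul_mem (Subgroup.inv_mem _ n₁.2) n.2) hqN] at h1
    exact jMap_inj hL (mul_mem hqN (mul_mem (Subgroup.inv_mem _ n₁.2) n.2))
      (mul_mem (mul_mem (Subgroup.inv_mem _ n₁.2) n.2) hqN) h1
  refine ⟨n, ⟨?_, hn.1⟩, ?_⟩
  · rw [← mul_inv_cancel_left (n₁ : Ω) n]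
    exact mul_mem hn₁.1 (hQW hq)
  · rw [jMap_mul n.2 (hB hx), jMap_coe, hne, hzd]
    group

/-- The automorphisms realized by the elements used for `W`. -/
theorem exists_real {l : M} (hl : l ∈ lGrp E p hL hfn.1) (hc : l ∈ condSet T W ι hfn.1)
    {R : Subgroup Ω} (hWR : W ⊓ T ≤ R) (hR : R ≤ W ⊔ centralizerIn S Q) :
    ∃ α ∈ F.autGroup R, RealBy ι α l ∧ ∀ x : R, ((α x : R) : Ω) * (x : Ω)⁻¹ ∈ W ⊓ T := by
  have hB : W ⊔ centralizerIn S Q ≤ normalizerIn S Q :=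
    sup_le hW (centralizerIn_le_normalizerIn Q)
  have key : ∀ x : R, ∃ n ∈ W ⊓ T, l * jMap ι (x : Ω) * l⁻¹ = jMap ι (n * x) :=
    fun x => cond_T hS hE hL hQtc hfn hW hl hc (hR x.2) hQW
  obtain ⟨f, hf, hfe⟩ := hL.conj l (hR.trans hB) fun x => by
    obtain ⟨n, hn, e⟩ := key x
    rw [← jMap_coe]
    show l * jMap ι (x : Ω) * l⁻¹ ∈ ι.range
    rw [e]
    exact jMap_mem_range (mul_mem (hW hn.1) (hB (hR x.2)))
  have hfv : ∀ x : R, jMap ι (f x) = l * jMap ι (x : Ω) * l⁻¹ ∧ f x * (x : Ω)⁻¹ ∈ W ⊓ T := by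
    intro x
    obtain ⟨hfx, e⟩ := hfe x
    rw [← jMap_coe, ← jMap_coe] at e
    change jMap ι (f x) = l * jMap ι (x : Ω) * l⁻¹ at e
    obtain ⟨n, hn, hne⟩ := key x
    refine ⟨e, ?_⟩
    rw [jMap_inj hL hfx (mul_mem (hW hn.1) (hB (hR x.2))) (e.trans hne), mul_inv_cancel_right]
    exact hn
  obtain ⟨⟨α, hα⟩, hαe⟩ := exists_aut hf le_rfl fun x hx => by
    rw [← inv_mul_cancel_right (f x) x]
    exact mul_mem (hWR (hfv ⟨x, hx⟩).2) hx
  exact ⟨α, hα, fun x => (hαe x).symm ▸ (hfv x).1, fun x => (hαe x).symm ▸ (hfv x).2⟩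

/-- The base of the system of `K = Aut_W(Q)`. -/
theorem kNormalizer_le_sup :
    kNormalizer S Q (Cfsg.autInducedBy W Q) ≤ W ⊔ centralizerIn S Q := by
  rintro g ⟨hg, a, ha, hae⟩
  obtain ⟨w, hw, hwe⟩ := mem_autInducedBy_iff.1 ha
  rw [← mul_inv_cancel_left w g]
  refine Subgroup.mul_mem_sup hw ⟨mul_mem (Subgroup.inv_mem _ (hW hw).1) hg, fun q hq => ?_⟩
  have h1 : g * q * g⁻¹ = w * q * w⁻¹ := (hae ⟨q, hq⟩).symm.trans (hwe ⟨q, hq⟩)
  calc q * (w⁻¹ * g) = w⁻¹ * (w * q * w⁻¹) * g := by group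
    _ = w⁻¹ * (g * q * g⁻¹) * g := by rw [h1]
    _ = _ := by group

omit hQtc in
theorem le_kNormalizer_W : W ≤ kNormalizer S Q (Cfsg.autInducedBy W Q) := fun _ hw =>
  mem_kNormalizer_of_conjAut (hW hw).1 (hgN := (hW hw).2)
    (conjAut_mem_autInducedBy (hW hw).2 hw)

theorem isSaturated_dSys : (dSys F W hfn.1).IsSaturated p := by
  refine isSaturated_kSys hS hE.1.2.1 (fullyNormalized_props hS hE.1.2.1 hfn).2
    fun X hX _ => ⟨1, one_mem _, fun x hx => ?_⟩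
  rw [one_mul, inv_one, mul_one]
  obtain ⟨w, hw, hwe⟩ := mem_autInducedBy_iff.1 (hX hx).2
  exact mem_autInducedBy_iff.2 ⟨w, (hW hw).1, hwe⟩

/-- The maps of that system preserve `W ∩ T`. -/
theorem dSys_map {P : Subgroup Ω} {φ : P →* Ω} (hφ : φ ∈ (dSys F W hfn.1).Hom P)
    {x : P} (hx : (x : Ω) ∈ W ⊓ T) : φ x ∈ W ⊓ T := by
  obtain ⟨hφF, hP, hφN, ψ, hψ, hψP, α, hα, hψQ⟩ := hφ
  obtain ⟨w, hw, hwe⟩ := mem_autInducedBy_iff.1 hα
  have hxN : (x : Ω) ∈ normalizerIn S Q := hW hx.1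
  obtain ⟨g, hg, hge⟩ := exists_mor hψ
  have hgx : g x = φ x := (hge (Subgroup.inclusion le_sup_left x)).trans (hψP x)
  have hgT : φ x ∈ T := hgx ▸ mor_mem_T hE hg (Subgroup.mem_sup_left x.2) hx.2
  have hgq : ∀ q ∈ Q, g q = w * q * w⁻¹ := fun q hq =>
    (hge (Subgroup.inclusion le_sup_right ⟨q, hq⟩)).trans ((hψQ ⟨q, hq⟩).trans (hwe ⟨q, hq⟩))
  have hq : (w * (x : Ω) * w⁻¹)⁻¹ * φ x ∈ Q := by
    refine tcentric_id hQtc (le_S hE)
      ⟨mul_mem (Subgroup.inv_mem _ (conj_mem_T hE (hW hw).1 hx.2)) hgT, fun q hq => ?_⟩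
    obtain ⟨r, hr, rfl⟩ : ∃ r ∈ Q, q = w * r * w⁻¹ := by
      refine ⟨w⁻¹ * q * w, ?_, by group⟩
      have h1 := conj_mem_of_normalizer (Subgroup.inv_mem _ (hW hw).2) hq
      rwa [inv_inv] at h1
    have hr' : (x : Ω) * r * (x : Ω)⁻¹ ∈ Q := conj_mem_of_normalizer hxN.2 hr
    have h1 := hg.map_conj (Subgroup.mem_sup_left x.2) (Subgroup.mem_sup_right hr)
    rw [hgq _ hr', hgq _ hr, hgx] at h1
    calc w * r * w⁻¹ * ((w * (x : Ω) * w⁻¹)⁻¹ * φ x)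
        = (w * (x : Ω) * w⁻¹)⁻¹ * (w * ((x : Ω) * r * (x : Ω)⁻¹) * w⁻¹) * φ x := by group
      _ = (w * (x : Ω) * w⁻¹)⁻¹ * (φ x * (w * r * w⁻¹) * (φ x)⁻¹) * φ x := by rw [h1]
      _ = _ := by group
  refine ⟨?_, hgT⟩
  rw [← mul_inv_cancel_left (w * (x : Ω) * w⁻¹) (φ x)]
  exact mul_mem (mul_mem (mul_mem hw hx.1) (Subgroup.inv_mem _ hw)) (hQW hq)

theorem le_range_dSys {P : Subgroup Ω} {φ : P →* Ω}
    (hφ : φ ∈ (dSys F W hfn.1).Hom P) (hP : W ⊓ T ≤ P) :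
    W ⊓ T ≤ φ.range := by
  have hPS : P ≤ S := (hom_le _ hφ).trans (kNormalizer_le _)
  have : Finite (W ⊓ T : Subgroup Ω) := finite_of_le (hP.trans hPS)
  let f : (W ⊓ T : Subgroup Ω) → (W ⊓ T : Subgroup Ω) := fun x =>
    ⟨φ ⟨x, hP x.2⟩, dSys_map hS hE hL hQtc hfn hQW hW hφ (x := ⟨x, hP x.2⟩) x.2⟩
  have hfi : Function.Injective f := fun a b h => by
    have h1 := (dSys F W hfn.1).injective_of_mem hφ (congrArg Subtype.val h)
    exact Subtype.ext (congrArg Subtype.val h1 :)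
  intro x hx
  obtain ⟨y, hy⟩ := (Finite.injective_iff_surjective.1 hfi) ⟨x, hx⟩
  exact ⟨_, congrArg Subtype.val hy⟩

/-- Automorphisms of subgroups containing `W ∩ T` carry the elements used for `W` to such elements. -/
theorem fwd_aut {R : Subgroup Ω} (hRr : (dSys F W hfn.1).IsRadical p R)
    {η : MulAut R} (hη : η ∈ (dSys F W hfn.1).autGroup R) (hWR : W ⊓ T ≤ R)
    {l : M} (hl : GElt E W hL hfn.1 l) :
    ∃ l', GElt E W hL hfn.1 l' ∧ ∀ x y : R,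
      l * jMap ι (x : Ω) * l⁻¹ = jMap ι (y : Ω) →
      l' * jMap ι ((η x : R) : Ω) * l'⁻¹ = jMap ι ((η y : R) : Ω) := by
  have := hL.fin
  have hQ := hfn.1
  have hTS := le_S hE
  set D := dSys F W hfn.1 with hD
  set B := W ⊔ centralizerIn S Q
  have hB : B ≤ normalizerIn S Q := sup_le hW (centralizerIn_le_normalizerIn Q)
  have hRB : R ≤ B := hRr.1.trans (kNormalizer_le_sup hS hE hL hQtc hfn hQW hW)
  have hRN : R ≤ normalizerIn S Q := hRB.trans hB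
  have hRS : R ≤ S := hRN.trans (normalizerIn_le Q)
  have hQR : Q ≤ R := (le_inf hQW hQtc.1).trans hWR
  have : Finite R := finite_of_le hRS
  have := finite_mulAut R
  have hηD := (mem_autGroup_iff D hRr.1).1 hη
  obtain ⟨hηF, -, -, ψ, hψ, hψR, α, hα, hψQ⟩ := id hηD
  obtain ⟨w, hw, hwe⟩ := mem_autInducedBy_iff.1 hα
  have hηQ : ∀ q : R, (q : Ω) ∈ Q → ((η q : R) : Ω) = w * q * w⁻¹ := by
    intro q hq
    refine ((hψR q).symm.trans ?_).trans (hwe ⟨q, hq⟩)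
    rw [show (Subgroup.inclusion le_sup_left q : (R ⊔ Q : Subgroup Ω)) =
      Subgroup.inclusion le_sup_right (⟨q, hq⟩ : Q) from Subtype.ext rfl]
    exact hψQ _
  have hηF' : η ∈ F.autGroup R := (mem_autGroup_iff F hRS).2 hηF
  obtain ⟨lam, hlamF, hlam, hlamd⟩ := exists_real hS hE hL hQtc hfn hQW hW hl.1 hl.2.1 hWR hRB
  set l'' := jMap ι w * l * (jMap ι w)⁻¹ with hl''
  have hLn := normal_lGrp hL hQ hS hE hQtc.1
  have hwB : w ∈ B := Subgroup.mem_sup_left hw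
  have hl''c : l'' ∈ condSet T W ι hQ :=
    conj_mem_condGrp hL hQ hW (fun s hs t ht => conj_mem_T hE hs ht) (m := l) hl.2.1 hwB
  obtain ⟨μ'', hμ''F, hμ'', hμ''d⟩ :=
    exists_real hS hE hL hQtc hfn hQW hW (hLn.conj_mem _ hl.1 _) hl''c hWR hRB
  set μ := η * lam * η⁻¹ with hμ
  have hμF : μ ∈ F.autGroup R := mul_mem (mul_mem hηF' hlamF) (Subgroup.inv_mem _ hηF')
  have hμd : ∀ x : R, ((μ x : R) : Ω) * (x : Ω)⁻¹ ∈ W ⊓ T := by
    intro x
    have h1 := hlamd (η⁻¹ x)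
    have h2 := dSys_map hS hE hL hQtc hfn hQW hW hηD (x := lam (η⁻¹ x) * (η⁻¹ x)⁻¹) h1
    change ((η (lam (η⁻¹ x) * (η⁻¹ x)⁻¹) : R) : Ω) ∈ W ⊓ T at h2
    rwa [map_mul, map_inv, MulAut.apply_inv_self, Subgroup.coe_mul, Subgroup.coe_inv] at h2
  have hRQ : ∀ {β : MulAut R} {m : M}, RealBy ι β m → ∀ q : R, (q : Ω) ∈ Q →
      ((β q : R) : Ω) ∈ Q := by
    intro β m hβ q hq
    obtain ⟨y, hy⟩ := (normal_range_qMap hL hQ).conj_mem _
      (qMap_mem_range (ι := ι) hQ (x := ⟨_, hRN q.2⟩) hq) m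
    rw [← jMap_coe] at hy
    rw [← jMap_inj hL (le_normalizerIn hQ y.2) (hRN (β q).2)
      ((qMap_eq_jMap hQ y).symm.trans (hy.trans (hβ q).symm))]
    exact y.2
  have hagree : ∀ q : R, (q : Ω) ∈ Q → μ q = μ'' q := by
    intro q hq
    have hq' : ((η⁻¹ q : R) : Ω) = w⁻¹ * q * w := by
      have h1 : (w⁻¹ * (q : Ω) * w) ∈ Q := by
        have h := conj_mem_of_normalizer (Subgroup.inv_mem _ (hW hw).2) hq
        rwa [inv_inv] at h
      have h2 : η⁻¹ q = ⟨_, hQR h1⟩ := by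
        apply η.injective
        rw [MulAut.apply_inv_self]
        refine Subtype.ext ((hηQ ⟨_, hQR h1⟩ h1).trans ?_).symm
        show w * (w⁻¹ * (q : Ω) * w) * w⁻¹ = q
        group
      rw [h2]
    have hlQ : ((lam (η⁻¹ q) : R) : Ω) ∈ Q := by
      refine hRQ hlam _ ?_
      rw [hq']
      have h := conj_mem_of_normalizer (Subgroup.inv_mem _ (hW hw).2) hq
      rwa [inv_inv] at h
    refine Subtype.ext (jMap_inj hL (hRN (μ q).2) (hRN (μ'' q).2) ?_)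
    have hwN := hW hw
    rw [hμ'', hμ, MulAut.mul_apply, MulAut.mul_apply, hηQ _ hlQ,
      jMap_mul (mul_mem hwN (hRN (lam (η⁻¹ q)).2)) (Subgroup.inv_mem _ hwN),
      jMap_mul hwN (hRN (lam (η⁻¹ q)).2), jMap_inv hwN, hlam, hq',
      jMap_mul (mul_mem (Subgroup.inv_mem _ hwN) (hRN q.2)) hwN, jMap_mul (Subgroup.inv_mem _ hwN) (hRN q.2),
      jMap_inv hwN]
    group
  -- the difference fixes `Q` and displaces inside `Q`
  set δ := μ''⁻¹ * μ with hδ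
  have hδQ : ∀ q : R, (q : Ω) ∈ Q → δ q = q := fun q hq => by
    rw [hδ, MulAut.mul_apply, hagree q hq, MulAut.inv_apply_self]
  have hδd : ∀ x : R, (x : Ω)⁻¹ * ((δ x : R) : Ω) ∈ Q := by
    intro x
    have hq : ((μ'' x : R) : Ω)⁻¹ * ((μ x : R) : Ω) ∈ Q := by
      refine tcentric_id hQtc hTS ⟨?_, fun r hr => ?_⟩
      · show _ ∈ T
        have h1 := mul_mem (Subgroup.inv_mem _ (hμ''d x).2) (hμd x).2
        have h2 := conj_mem_T hE (S.inv_mem (hRS x.2)) h1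
        convert h2 using 1
        group
      · have hr' := MulAut.apply_inv_self _ μ'' ⟨r, hQR hr⟩
        set s := μ''⁻¹ ⟨r, hQR hr⟩
        have hsQ : (s : Ω) ∈ Q := hRQ (RealBy.inv hμ'') ⟨r, hQR hr⟩ hr
        have hc : ((x * s * x⁻¹ : R) : Ω) ∈ Q := conj_mem_of_normalizer (hRN x.2).2 hsQ
        have h3 := hagree _ hc
        rw [map_mul, map_mul, map_inv, map_mul, map_mul, map_inv, hagree s hsQ, hr'] at h3
        have h4 := congrArg Subtype.val h3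
        change (μ x : Ω) * r * (μ x : Ω)⁻¹ = (μ'' x : Ω) * r * (μ'' x : Ω)⁻¹ at h4
        calc r * ((μ'' x : Ω)⁻¹ * (μ x : Ω))
            = (μ'' x : Ω)⁻¹ * ((μ'' x : Ω) * r * (μ'' x : Ω)⁻¹) * (μ x : Ω) := by group
          _ = (μ'' x : Ω)⁻¹ * ((μ x : Ω) * r * (μ x : Ω)⁻¹) * (μ x : Ω) := by rw [h4]
          _ = _ := by group
    have e : δ x = x * μ''⁻¹ ((μ'' x)⁻¹ * μ x) := by
      rw [map_mul, map_inv, MulAut.inv_apply_self, mul_inv_cancel_left, hδ, MulAut.mul_apply]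
    rw [e, Subgroup.coe_mul, inv_mul_cancel_left]
    exact hRQ (RealBy.inv hμ'') _ hq
  have mem_D : ∀ {β : MulAut R}, β ∈ F.autGroup R → (∀ q : R, (q : Ω) ∈ Q → β q = q) →
      β ∈ D.autGroup R := by
    intro β hβ hβQ
    have hF' := (mem_autGroup_iff F hRS).1 hβ
    refine (mem_autGroup_iff D hRr.1).2 ⟨hF', hRr.1, fun x => hRr.1 (β x).2, _,
      restrict_mem F hF' (sup_le le_rfl hQR), fun x => rfl, 1, one_mem _, fun q => ?_⟩
    exact congrArg Subtype.val (hβQ ⟨(q : Ω), hQR q.2⟩ q.2)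
  have hDQ : ∀ {β : MulAut R}, β ∈ D.autGroup R → ∀ q : R, (q : Ω) ∈ Q → ((β q : R) : Ω) ∈ Q := by
    intro β hβ q hq
    obtain ⟨-, -, -, ψ', -, hψR', α', -, hψQ'⟩ := (mem_autGroup_iff D hRr.1).1 hβ
    show ((R.subtype.comp β.toMonoidHom) q) ∈ Q
    rw [← hψR', show (Subgroup.inclusion le_sup_left q : (R ⊔ Q : Subgroup Ω)) =
      Subgroup.inclusion le_sup_right (⟨q, hq⟩ : Q) from Subtype.ext rfl, hψQ']
    exact SetLike.coe_mem _
  let K₀ : Subgroup (D.autGroup R) :=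
    { carrier := {β | (∀ q : R, (q : Ω) ∈ Q → (β : MulAut R) q = q) ∧
        ∀ x : R, (x : Ω)⁻¹ * (((β : MulAut R) x : R) : Ω) ∈ Q}
      one_mem' := ⟨fun q _ => rfl, fun x => by simp⟩
      mul_mem' := fun {a b} ha hb => by
        refine ⟨fun q hq => by rw [Subgroup.coe_mul, MulAut.mul_apply, hb.1 q hq, ha.1 q hq],
          fun x => ?_⟩
        rw [Subgroup.coe_mul, MulAut.mul_apply]
        have h1 := mul_mem (hb.2 x) (ha.2 ((b : MulAut R) x))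
        convert h1 using 1
        group
      inv_mem' := fun {a} ha => by
        refine ⟨fun q hq => ?_, fun x => ?_⟩
        · rw [Subgroup.coe_inv]
          conv_lhs => rw [← ha.1 q hq]
          exact MulAut.inv_apply_self _ (a : MulAut R) q
        · rw [Subgroup.coe_inv]
          have h1 := Subgroup.inv_mem _ (ha.2 ((a : MulAut R)⁻¹ x))
          rw [MulAut.apply_inv_self] at h1
          convert h1 using 1
          group }
  have hK₀n : K₀.Normal := by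
    refine ⟨fun a ha b => ⟨fun q hq => ?_, fun x => ?_⟩⟩
    · rw [Subgroup.coe_mul, Subgroup.coe_mul, MulAut.mul_apply, MulAut.mul_apply,
        ha.1 _ (hDQ (b⁻¹).2 q hq), Subgroup.coe_inv, MulAut.apply_inv_self]
    · have h1 := hDQ b.2 ((((b⁻¹ : D.autGroup R) : MulAut R) x)⁻¹ *
        (a : MulAut R) (((b⁻¹ : D.autGroup R) : MulAut R) x)) (ha.2 _)
      rw [map_mul, map_inv, Subgroup.coe_inv, MulAut.apply_inv_self] at h1
      exact h1
  have hK₀p : IsPGroup p K₀ := by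
    rintro ⟨a, ha⟩
    obtain ⟨k, hk⟩ := IsPGroup.iff_card.1 (hS.to_le hRS)
    refine ⟨k, Subtype.ext (Subtype.ext (MulEquiv.ext fun x => ?_))⟩
    have hpow : ∀ i : ℕ, ((a : MulAut R) ^ i) x = x * (x⁻¹ * (a : MulAut R) x) ^ i := by
      intro i
      induction i with
      | zero => simp
      | succ i ih =>
        rw [pow_succ', MulAut.mul_apply, ih, map_mul, map_pow, ha.1 (x⁻¹ * (a : MulAut R) x) (ha.2 x), pow_succ',
          ← mul_assoc x (x⁻¹ * _), mul_inv_cancel_left]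
    show ((a : MulAut R) ^ p ^ k) x = x
    rw [hpow, ← hk, pow_card_eq_one', mul_one]
  have hδK : (⟨δ, mem_D (mul_mem (Subgroup.inv_mem _ hμ''F) hμF) hδQ⟩ : D.autGroup R) ∈ K₀ := ⟨hδQ, hδd⟩
  have hδI : δ ∈ Cfsg.Inn R := hRr.2 ▸ ⟨_, CharP.le_pCore hK₀n hK₀p hδK, rfl⟩
  obtain ⟨r, hr⟩ := hδI
  have hrC : (r : Ω) ∈ centralizerIn S Q := by
    refine ⟨hRS r.2, fun q hq => ?_⟩
    have h1 := congrArg Subtype.val (hδQ ⟨q, hQR hq⟩ hq)
    rw [← hr] at h1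
    change (r : Ω) * q * (r : Ω)⁻¹ = q at h1
    exact (mul_inv_eq_iff_eq_mul.1 h1).symm
  set m := l'' * jMap ι (r : Ω) with hm
  have hδr : RealBy ι δ (jMap ι (r : Ω)) := fun x => by
    rw [← hr]
    show jMap ι ((r : Ω) * x * (r : Ω)⁻¹) = _
    rw [jMap_mul (mul_mem (hRN r.2) (hRN x.2)) (Subgroup.inv_mem _ (hRN r.2)), jMap_mul (hRN r.2) (hRN x.2),
      jMap_inv (hRN r.2)]
  have hμm : RealBy ι μ m := by
    rw [show μ = μ'' * δ by rw [hδ, mul_inv_cancel_left]]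
    exact RealBy.mul hμ'' hδr
  have hμco : (orderOf μ).Coprime p := by
    refine hl.2.2.coprime_dvd_left (orderOf_dvd_of_pow_eq_one ?_)
    have h1 : lam ^ orderOf l = 1 := RealBy.unique hL hRN (m := 1)
      (by rw [← pow_orderOf_eq_one l]; exact hlam.pow _) RealBy.one
    rw [hμ, conj_pow, h1, mul_one, mul_inv_cancel]
  obtain ⟨k, n, -, hn, hmn, hk⟩ := exists_coprime_exponent (p := p) m hμco
  have hco : (orderOf (m ^ k)).Coprime p := hn.coprime_dvd_left (orderOf_dvd_of_pow_eq_one hmn)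
  refine ⟨m ^ k, ⟨?_, ?_, hco⟩, fun x y hxy => ?_⟩
  · refine mem_lGrp_of_coprime hL hQ hS hE hLn (le_refl ι.range) (pow_mem (mul_mem
      (Subgroup.mem_sup_left (hLn.conj_mem _ hl.1 _))
      (Subgroup.mem_sup_right (jMap_mem_range (hRN r.2)))) k) hco
  · exact Subgroup.pow_mem (condGrp T W hL hQ hW) (Subgroup.mul_mem (condGrp T W hL hQ hW) hl''c
      (jMap_centralizer_mem_condGrp hL hQ hW hrC)) k
  · have h1 : lam x = y := Subtype.ext
      (jMap_inj hL (hRN (lam x).2) (hRN y.2) ((hlam x).trans hxy))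
    have h2 := (hμm.pow k) (η x)
    rw [hk μ rfl, hμ, MulAut.mul_apply, MulAut.mul_apply, MulAut.inv_apply_self, h1] at h2
    exact h2.symm

/-- A `p'`-automorphism displacing inside `T` with restriction in `E` is realized in `L`. -/
theorem exists_realized {γ : MulAut W} (hγ : γ ∈ F.autGroup W) (hco : (orderOf γ).Coprime p)
    (hd : ∀ x : W, (x : Ω)⁻¹ * ((γ x : W) : Ω) ∈ T) {a : MulAut Q} (ha : a ∈ E.autGroup Q)
    (hγa : ∀ x : Q, ((γ (Subgroup.inclusion hQW x) : W) : Ω) = ((a x : Q) : Ω)) :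
    ∃ l ∈ lGrp E p hL hfn.1, RealBy ι γ l := by
  have := hL.fin
  have hQ := hfn.1
  have hTS := le_S hE
  have hWS : W ≤ S := hW.trans (normalizerIn_le Q)
  have : Finite W := finite_of_le hWS
  have := finite_mulAut W
  have : Finite Q := finite_of_le hQ
  have := finite_mulAut Q
  have hTp : IsPGroup p T := hS.to_le hTS
  have hapow : ∀ (i : ℕ) (x : Q), (γ ^ i) (Subgroup.inclusion hQW x) =
      Subgroup.inclusion hQW ((a ^ i) x) := by
    intro i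
    induction i with
    | zero => intro x; rfl
    | succ i ih =>
      intro x
      rw [pow_succ', MulAut.mul_apply, ih, pow_succ' a, MulAut.mul_apply]
      exact Subtype.ext (hγa _)
  have haco : (orderOf a).Coprime p := hco.coprime_dvd_left (orderOf_dvd_of_pow_eq_one
    (MulEquiv.ext fun x => Subgroup.inclusion_injective hQW (by
      rw [← hapow, pow_orderOf_eq_one]; rfl)))
  obtain ⟨l₀, hl₀, hl₀co, hl₀a⟩ := exists_lGrp hL hQ hS hE hQtc hfn ha haco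
  have hLn := normal_lGrp hL hQ hS hE hQtc.1
  have hwit : ∀ w : W, ∃ n : normalizerIn S Q, (n : Ω) ∈ W ⊓ T ∧
      l₀ * jMap ι (w : Ω) * l₀⁻¹ = jMap ι ((n : Ω) * w) ∧
      ((γ w : W) : Ω)⁻¹ * ((n : Ω) * w) ∈ Q := by
    intro w
    have hwN := hW w.2
    have hzL : l₀ * jMap ι (w : Ω) * l₀⁻¹ * (jMap ι (w : Ω))⁻¹ ∈ lGrp E p hL hQ := by
      have h1 := mul_mem hl₀ (hLn.conj_mem _ (Subgroup.inv_mem _ hl₀) (jMap ι (w : Ω)))
      convert h1 using 1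
      group
    set t := ((γ w : W) : Ω) * (w : Ω)⁻¹ with ht
    have htT : t ∈ T := by
      have h1 := conj_mem_T hE (hWS w.2) (hd w)
      convert h1 using 1
      rw [ht]; group
    have htN : t ∈ normalizerIn T Q :=
      ⟨htT, mul_mem (hW (γ w).2).2 (Subgroup.inv_mem _ hwN.2)⟩
    have hzt : ∀ q : Q, l₀ * jMap ι (w : Ω) * l₀⁻¹ * (jMap ι (w : Ω))⁻¹ * qMap ι hQ q *
        (l₀ * jMap ι (w : Ω) * l₀⁻¹ * (jMap ι (w : Ω))⁻¹)⁻¹ =
        qMap ι hQ ⟨t * q * t⁻¹, conj_mem_of_normalizer htN.2 q.2⟩ := fun q => by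
      have hq₁ : (w : Ω)⁻¹ * q * w ∈ Q := by
        have h := conj_mem_of_normalizer (Subgroup.inv_mem _ hwN.2) q.2
        rwa [inv_inv] at h
      set q₂ := a⁻¹ ⟨_, hq₁⟩ with hq₂
      have hq₃ : (w : Ω) * q₂ * (w : Ω)⁻¹ ∈ Q := conj_mem_of_normalizer hwN.2 q₂.2
      have e1 : qMap ι hQ q = jMap ι (w : Ω) * qMap ι hQ (a q₂) * (jMap ι (w : Ω))⁻¹ := by
        have h0 : a q₂ = ⟨(w : Ω)⁻¹ * q * w, hq₁⟩ := MulAut.apply_inv_self _ _ _
        rw [h0, qMap_eq_jMap, qMap_eq_jMap, ← jMap_inv hwN,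
          ← jMap_mul hwN (le_normalizerIn hQ hq₁),
          ← jMap_mul (mul_mem hwN (le_normalizerIn hQ hq₁)) (Subgroup.inv_mem _ hwN)]
        congr 1
        group
      have e2 : qMap ι hQ ⟨_, hq₃⟩ =
          jMap ι (w : Ω) * qMap ι hQ q₂ * (jMap ι (w : Ω))⁻¹ := by
        rw [qMap_eq_jMap, qMap_eq_jMap, ← jMap_inv hwN, ← jMap_mul hwN (le_normalizerIn hQ q₂.2),
          ← jMap_mul (mul_mem hwN (le_normalizerIn hQ q₂.2)) (Subgroup.inv_mem _ hwN)]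
      calc _ = l₀ * jMap ι (w : Ω) * (l₀⁻¹ * ((jMap ι (w : Ω))⁻¹ * qMap ι hQ q *
            jMap ι (w : Ω)) * l₀) * (jMap ι (w : Ω))⁻¹ * l₀⁻¹ := by group
        _ = l₀ * jMap ι (w : Ω) * (l₀⁻¹ * qMap ι hQ (a q₂) * l₀) * (jMap ι (w : Ω))⁻¹ * l₀⁻¹ := by
            rw [e1]; group
        _ = l₀ * qMap ι hQ ⟨_, hq₃⟩ * l₀⁻¹ := by rw [← hl₀a q₂, e2]; group
        _ = _ := by
            rw [hl₀a]
            congr 1
            refine Subtype.ext ?_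
            show _ = t * q * t⁻¹
            rw [← hγa, show Subgroup.inclusion hQW ⟨_, hq₃⟩ =
              w * Subgroup.inclusion hQW q₂ * w⁻¹ from Subtype.ext rfl, map_mul, map_mul, map_inv,
              Subgroup.coe_mul, Subgroup.coe_mul, Subgroup.coe_inv, hγa, hq₂,
              MulAut.apply_inv_self, ht]
            show (γ w : Ω) * ((w : Ω)⁻¹ * q * w) * (γ w : Ω)⁻¹ = _
            group
    obtain ⟨n, hn, hne⟩ := exists_T_of_mem_lGrp hL hQ hS hE hQtc hfn hzL htN hzt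
    have hnt : t⁻¹ * n ∈ Q := by
      refine tcentric_id hQtc hTS ⟨mul_mem (Subgroup.inv_mem _ htT) hn.1, fun q hq => ?_⟩
      have hce : ι n * qMap ι hQ ⟨q, hq⟩ * (ι n)⁻¹ =
          qMap ι hQ ⟨t * q * t⁻¹, conj_mem_of_normalizer htN.2 hq⟩ := by
        rw [hne]
        exact hzt ⟨q, hq⟩
      rw [qMap_eq_jMap, qMap_eq_jMap, ← jMap_coe n, ← jMap_inv n.2,
        ← jMap_mul n.2 (le_normalizerIn hQ hq),
        ← jMap_mul (mul_mem n.2 (le_normalizerIn hQ hq)) (Subgroup.inv_mem _ n.2)] at hce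
      have h2 : (n : Ω) * q * (n : Ω)⁻¹ = t * q * t⁻¹ :=
        jMap_inj hL (mul_mem (mul_mem n.2 (le_normalizerIn hQ hq)) (Subgroup.inv_mem _ n.2))
          (le_normalizerIn hQ (conj_mem_of_normalizer htN.2 hq)) hce
      calc q * (t⁻¹ * n) = t⁻¹ * (t * q * t⁻¹) * n := by group
        _ = t⁻¹ * ((n : Ω) * q * (n : Ω)⁻¹) * n := by rw [h2]
        _ = _ := by group
    refine ⟨n, ⟨?_, hn.1⟩, ?_, ?_⟩
    · rw [← mul_inv_cancel_left t (n : Ω)]
      exact mul_mem (mul_mem (γ w).2 (Subgroup.inv_mem _ w.2)) (hQW hnt)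
    · rw [jMap_mul n.2 hwN, jMap_coe, hne]
      group
    · have h1 := conj_mem_of_normalizer (Subgroup.inv_mem _ hwN.2) hnt
      rw [inv_inv] at h1
      convert h1 using 1
      rw [ht]; group
  have hl₀c : l₀ ∈ condSet T W ι hQ := fun w hw => by
    obtain ⟨n, hn, he, -⟩ := hwit ⟨w, hw⟩
    rw [he, jMap_mul n.2 (hW hw), mul_inv_cancel_right]
    exact jMap_mem_zGrp hQ hn n.2
  obtain ⟨β, hβF, hβ, -⟩ :=
    exists_real hS hE hL hQtc hfn hQW hW hl₀ hl₀c inf_le_left le_sup_left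
  have hβv : ∀ w : W, ((γ w : W) : Ω)⁻¹ * ((β w : W) : Ω) ∈ Q := fun w => by
    obtain ⟨n, hn, he, hq⟩ := hwit w
    rwa [jMap_inj hL (hW (β w).2) (mul_mem n.2 (hW w.2)) ((hβ w).trans he)]
  have hβQ : ∀ x : Q, β (Subgroup.inclusion hQW x) = Subgroup.inclusion hQW (a x) := fun x =>
    Subtype.ext (jMap_inj hL (hW (β _).2) (le_normalizerIn hQ (a x).2)
      ((hβ _).trans (by
      have h := hl₀a x
      rw [qMap_eq_jMap, qMap_eq_jMap] at h
      exact h)))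
  -- `δ` fixes `Q` and displaces inside `Q`
  set δ := β⁻¹ * γ with hδ
  have hδQ : ∀ x : W, (x : Ω) ∈ Q → δ x = x := by
    intro x hx
    rw [hδ, MulAut.mul_apply, show x = Subgroup.inclusion hQW ⟨x, hx⟩ from rfl,
      show γ (Subgroup.inclusion hQW ⟨x, hx⟩) = Subgroup.inclusion hQW (a ⟨x, hx⟩) from
        Subtype.ext (hγa _), ← hβQ, MulAut.inv_apply_self]
  have hδd : ∀ x : W, (x : Ω)⁻¹ * ((δ x : W) : Ω) ∈ Q := by
    intro x
    have e : β (x⁻¹ * δ x) = (β x)⁻¹ * γ x := by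
      rw [hδ, MulAut.mul_apply, map_mul, map_inv, MulAut.apply_inv_self]
    have hq : (((β x)⁻¹ * γ x : W) : Ω) ∈ Q := by
      have h1 := Subgroup.inv_mem _ (hβv x)
      rw [mul_inv_rev, inv_inv] at h1
      exact h1
    have e2 : (x⁻¹ * δ x : W) = Subgroup.inclusion hQW (a⁻¹ ⟨_, hq⟩) := by
      apply β.injective
      rw [e, hβQ, MulAut.apply_inv_self]
      exact Subtype.ext rfl
    have h2 : ((x⁻¹ * δ x : W) : Ω) ∈ Q := e2 ▸ SetLike.coe_mem _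
    exact h2
  set D := dSys F W hfn.1
  have hWB := le_kNormalizer_W hS hE hL hfn hQW hW
  have hδD : δ ∈ D.autGroup W := by
    have hF' := (mem_autGroup_iff F hWS).1 (mul_mem (Subgroup.inv_mem _ hβF) hγ)
    refine (mem_autGroup_iff D hWB).2 ⟨hF', hWB, fun x => hWB (δ x).2, _,
      restrict_mem F hF' (sup_le le_rfl hQW), fun x => rfl, 1, one_mem _, fun q => ?_⟩
    exact congrArg Subtype.val (hδQ ⟨(q : Ω), hQW q.2⟩ q.2)
  have hB : IsPGroup p (kNormalizer S Q (Cfsg.autInducedBy W Q)) := hS.to_le (kNormalizer_le _)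
  have : Finite (kNormalizer S Q (Cfsg.autInducedBy W Q)) := finite_of_le (kNormalizer_le _)
  let Fwd : ∀ P : Subgroup Ω, (P →* Ω) → Prop := fun P φ => W ⊓ T ≤ P →
    (∀ l, GElt E W hL hQ l → ∃ l', GElt E W hL hQ l' ∧ ∀ x y : P,
      l * jMap ι (x : Ω) * l⁻¹ = jMap ι (y : Ω) → l' * jMap ι (φ x) * l'⁻¹ = jMap ι (φ y)) ∧
    (∀ l, GElt E W hL hQ l → ∃ l', GElt E W hL hQ l' ∧ ∀ x y : P,
      l * jMap ι (φ x) * l⁻¹ = jMap ι (φ y) → l' * jMap ι (x : Ω) * l'⁻¹ = jMap ι (y : Ω))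
  have hmain := Fusion.Alperin.hom_induction hB (isSaturated_dSys hS hE hL hQtc hfn hQW hW)
    (C := Fwd) ?_ ?_ ?_ ?_ ((mem_autGroup_iff D hWB).1 hδD) inf_le_left
  rotate_left
  · intro R hR η hη hWR
    refine ⟨fun l hl => fwd_aut hS hE hL hQtc hfn hQW hW hR.radical hη hWR hl, fun l hl => ?_⟩
    obtain ⟨l', hl', he⟩ := fwd_aut hS hE hL hQtc hfn hQW hW hR.radical (Subgroup.inv_mem _ hη) hWR hl
    refine ⟨l', hl', fun x y hxy => ?_⟩
    have h1 := he (η x) (η y) hxy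
    rwa [MulAut.inv_apply_self, MulAut.inv_apply_self] at h1
  · intro P R hPR ψ _ hC hP
    obtain ⟨h1, h2⟩ := hC (hP.trans hPR)
    refine ⟨fun l hl => ?_, fun l hl => ?_⟩
    · obtain ⟨l', hl', he⟩ := h1 l hl
      exact ⟨l', hl', fun x y h => he _ _ h⟩
    · obtain ⟨l', hl', he⟩ := h2 l hl
      exact ⟨l', hl', fun x y h => he (Subgroup.inclusion hPR x) (Subgroup.inclusion hPR y) h⟩
  · intro P R φ ψ hφ _ h hCφ hCψ hP
    obtain ⟨h1, h2⟩ := hCφ hP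
    obtain ⟨h3, h4⟩ := hCψ ((le_range_dSys hS hE hL hQtc hfn hQW hW hφ hP).trans (by
      rintro _ ⟨x, rfl⟩; exact h x))
    refine ⟨fun l hl => ?_, fun l hl => ?_⟩
    · obtain ⟨l', hl', he⟩ := h1 l hl
      obtain ⟨l'', hl'', he'⟩ := h3 l' hl'
      exact ⟨l'', hl'', fun x y hxy => he' ⟨φ x, h x⟩ ⟨φ y, h y⟩ (he x y hxy)⟩
    · obtain ⟨l', hl', he⟩ := h4 l hl
      obtain ⟨l'', hl'', he'⟩ := h2 l' hl'
      exact ⟨l'', hl'', fun x y hxy => he' x y (he ⟨φ x, h x⟩ ⟨φ y, h y⟩ hxy)⟩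
  · intro P R φ ψ hφ hψ hr hinv hC hR
    have hWP : W ⊓ T ≤ P := (le_range_dSys hS hE hL hQtc hfn hQW hW hψ hR).trans (by
      rintro _ ⟨z, rfl⟩
      obtain ⟨x, hx⟩ : (z : Ω) ∈ φ.range := hr.symm ▸ z.2
      rw [show z = ⟨φ x, hx.symm ▸ z.2⟩ from Subtype.ext hx.symm, hinv]
      exact x.2)
    obtain ⟨h1, h2⟩ := hC hWP
    have hpre : ∀ z : R, ∃ x : P, φ x = z ∧ ψ z = x := fun z => by
      obtain ⟨x, hx⟩ : (z : Ω) ∈ φ.range := hr.symm ▸ z.2
      exact ⟨x, hx, by rw [show z = ⟨φ x, hx.symm ▸ z.2⟩ from Subtype.ext hx.symm, hinv]⟩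
    refine ⟨fun l hl => ?_, fun l hl => ?_⟩
    · obtain ⟨l', hl', he⟩ := h2 l hl
      refine ⟨l', hl', fun z z' hzz => ?_⟩
      obtain ⟨x, hx, hψx⟩ := hpre z
      obtain ⟨y, hy, hψy⟩ := hpre z'
      rw [hψx, hψy]
      exact he x y (by rw [hx, hy]; exact hzz)
    · obtain ⟨l', hl', he⟩ := h1 l hl
      refine ⟨l', hl', fun z z' hzz => ?_⟩
      obtain ⟨x, hx, hψx⟩ := hpre z
      obtain ⟨y, hy, hψy⟩ := hpre z'
      rw [hψx, hψy] at hzz
      rw [← hx, ← hy]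
      exact he x y hzz
  -- the automorphisms realized by the elements used for `W`
  let gens : Set (MulAut W) := {α | ∃ l, GElt E W hL hQ l ∧ RealBy ι α l}
  let Y : Subgroup (MulAut W) := Subgroup.closure gens
  have hYr : ∀ α ∈ Y, ∃ l ∈ lGrp E p hL hQ, RealBy ι α l := by
    intro α hα
    refine Subgroup.closure_induction (p := fun α _ => ∃ l ∈ lGrp E p hL hQ, RealBy ι α l)
      ?_ ⟨1, one_mem _, RealBy.one⟩ ?_ ?_ hα
    · rintro x ⟨l, hl, hle⟩; exact ⟨l, hl.1, hle⟩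
    · rintro x y - - ⟨l, hl, hle⟩ ⟨l', hl', hle'⟩
      exact ⟨l * l', mul_mem hl hl', hle.mul hle'⟩
    · rintro x - ⟨l, hl, hle⟩
      exact ⟨l⁻¹, Subgroup.inv_mem _ hl, hle.inv⟩
  have hβY : β ∈ Y := Subgroup.subset_closure ⟨l₀, ⟨hl₀, hl₀c, hl₀co⟩, hβ⟩
  have hδn : δ ∈ Subgroup.normalizer (Y : Set (MulAut W)) := by
    refine Subgroup.mem_normalizer_iff.2 fun α => ?_
    suffices h : ∀ i : ℕ, ∀ α ∈ Y, δ ^ i * α * (δ ^ i)⁻¹ ∈ Y by
      refine ⟨fun hα => by simpa using h 1 α hα, fun hα => ?_⟩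
      have h1 := h (orderOf δ - 1) _ hα
      rw [show δ ^ (orderOf δ - 1) = δ⁻¹ from (inv_eq_of_mul_eq_one_right (by
        rw [← pow_succ', Nat.sub_add_cancel (orderOf_pos δ), pow_orderOf_eq_one])).symm] at h1
      convert h1 using 1
      group
    intro i
    induction i with
    | zero => intro α hα; simpa using hα
    | succ i ih =>
      intro α hα
      rw [pow_succ', mul_inv_rev, show δ * δ ^ i * α * ((δ ^ i)⁻¹ * δ⁻¹) =
        δ * (δ ^ i * α * (δ ^ i)⁻¹) * δ⁻¹ by group]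
      refine (?_ : Y ≤ Y.comap (MulAut.conj δ).toMonoidHom) (ih α hα)
      refine (Subgroup.closure_le _).2 ?_
      rintro ρ ⟨l, hl, hle⟩
      obtain ⟨l', hl', he⟩ := hmain.1 l hl
      refine Subgroup.subset_closure ⟨l', hl', fun x => ?_⟩
      show jMap ι (((δ * ρ * δ⁻¹) x : W) : Ω) = _
      rw [MulAut.mul_apply, MulAut.mul_apply]
      have h1 := he (δ⁻¹ x) (ρ (δ⁻¹ x)) (hle _).symm
      change l' * jMap ι ((δ (δ⁻¹ x) : W) : Ω) * l'⁻¹ =
        jMap ι ((δ (ρ (δ⁻¹ x)) : W) : Ω) at h1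
      rw [MulAut.apply_inv_self] at h1
      exact h1.symm
  obtain ⟨k, hk⟩ := IsPGroup.iff_card.1 (hS.to_le hWS)
  have hδk : δ ^ p ^ k = 1 := MulEquiv.ext fun x => by
    have hpow : ∀ i : ℕ, (δ ^ i) x = x * (x⁻¹ * δ x) ^ i := by
      intro i
      induction i with
      | zero => simp
      | succ i ih =>
        rw [pow_succ', MulAut.mul_apply, ih, map_mul, map_pow, hδQ (x⁻¹ * δ x) (hδd x), pow_succ',
          ← mul_assoc x (x⁻¹ * _), mul_inv_cancel_left]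
    rw [hpow, ← hk, pow_card_eq_one', mul_one]
    rfl
  have hγY : γ ∈ Y := by
    set N := Subgroup.normalizer (Y : Set (MulAut W))
    have hβN : β ∈ N := Subgroup.le_normalizer hβY
    let π := QuotientGroup.mk' (Y.subgroupOf N)
    have hγN : γ ∈ N := by
      rw [show γ = β * δ by rw [hδ, mul_inv_cancel_left]]
      exact mul_mem hβN hδn
    have h2 : π ⟨γ, hγN⟩ = π ⟨δ, hδn⟩ := by
      rw [show (⟨γ, hγN⟩ : N) = ⟨β, hβN⟩ * ⟨δ, hδn⟩ from
        Subtype.ext (show γ = β * δ by rw [hδ, mul_inv_cancel_left]), map_mul,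
        show π ⟨β, hβN⟩ = 1 from (QuotientGroup.eq_one_iff _).2 hβY, one_mul]
    have h3 : π ⟨γ, hγN⟩ = 1 := by
      rw [← pow_one (π ⟨γ, hγN⟩), ← (hco.pow_right k).gcd_eq_one, pow_gcd_eq_one]
      refine ⟨?_, ?_⟩
      · rw [← map_pow, show (⟨γ, hγN⟩ : N) ^ orderOf γ = 1 from
          Subtype.ext (pow_orderOf_eq_one γ), map_one]
      · rw [h2, ← map_pow, show (⟨δ, hδn⟩ : N) ^ p ^ k = 1 from Subtype.ext hδk, map_one]
    exact (QuotientGroup.eq_one_iff (⟨γ, hγN⟩ : N)).1 h3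
  exact hYr γ hγY

end CfsgLib.Product89
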