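import Cfsg.Agent.Fus.Product89.Cong
import Cfsg.Agent.Fus.Generated
import Cfsg.Agent.Fus.NormalChar.Radical

/-!
Receiving maps in the product for the classes of the intersections with `T`.
-/

set_option autoImplicit false

namespace CfsgLib.Product89

open Cfsg Cfsg.FusionSystem CfsgLib.Fus CfsgLib.NormalCent
open CfsgLib.Fus.Generated (Recv Common Sat Target recv_trans exists_target exists_adjust
  image_image_eq)

variable {Ω : Type*} [Group Ω]

section Links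

variable {S T : Subgroup Ω} {F : Cfsg.FusionSystem S}

theorem le_T_of_conj (hT : F.StronglyClosed T) {Q Q' : Subgroup Ω} (hQ : Q ≤ T)
    (h : F.IsConj Q Q') : Q' ≤ T := by
  obtain ⟨φ, hφ, rfl⟩ := h
  rintro _ ⟨x, rfl⟩
  exact hT.2 Q hQ φ hφ x

theorem ne_T_of_conj [Finite S] (hT : F.StronglyClosed T) {Q Q' : Subgroup Ω} (hQ : Q ≤ T)
    (hne : Q ≠ T) (h : F.IsConj Q Q') : Q' ≠ T := fun e =>
  have : Finite T := finite_of_le hT.1
  hne (Subgroup.eq_of_le_of_card_ge hQ (by rw [isConj_card h, e]))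

/-- Links whose domain meets `T` in more than the member have a common receiver. -/
def LinksT (F : Cfsg.FusionSystem S) (T P₀ : Subgroup Ω) (m : ℕ) : Prop :=
  ∀ (N Q Q' : Subgroup Ω) (f : Ω → Ω), F.IsConj P₀ Q → Q ≤ N → N ≤ normalizerIn S Q →
    Nat.card Q < Nat.card (N ⊓ T : Subgroup Ω) → m ≤ Nat.card N → Mor F N f →
      f '' (Q : Set Ω) = Q' → Common F Q Q'

variable [Finite S] {p : ℕ} [Fact p.Prime]

theorem common_joinT {P₀ Q₁ Q₂ Q₃ : Subgroup Ω} (hT : F.StronglyClosed T) (hP₀T : P₀ ≤ T) (hP₀ : P₀ ≠ T) (hS : IsPGroup p S) {m : ℕ}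
    (hlink : LinksT F T P₀ m) (h₂ : F.IsConj P₀ Q₂) (hm : m ≤ Nat.card (normalizerIn S Q₂))
    (h₁₂ : Common F Q₁ Q₂) (h₂₃ : Common F Q₂ Q₃) (hQ₁ : Q₁ ≤ S) (hQ₃ : Q₃ ≤ S) :
    Common F Q₁ Q₃ := by
  obtain ⟨Ra, h1a, ⟨fa, hfa, hfai⟩⟩ := h₁₂
  obtain ⟨Rb, ⟨fb, hfb, hfbi⟩, h3b⟩ := h₂₃
  have hQ₂S := isConj_le_right h₂
  set N := normalizerIn S Q₂
  have hQN : Q₂ ≤ N := le_normalizerIn hQ₂S
  obtain ⟨N', hN', -⟩ := hfa.exists_img (le_refl N)
  obtain ⟨ga, hga, hgal, -, -⟩ := hfa.exists_inv hN'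
  have hRaN' : Ra ≤ N' := by
    intro y hy
    have h1 : y ∈ fa '' (Q₂ : Set Ω) := hfai.symm ▸ hy
    obtain ⟨x, hx, rfl⟩ := h1
    show fa x ∈ (N' : Set Ω)
    rw [← hN']
    exact ⟨x, hQN hx, rfl⟩
  have hN'le : N' ≤ normalizerIn S Ra := by
    intro y hy
    have h1 : y ∈ fa '' (N : Set Ω) := hN'.symm ▸ hy
    obtain ⟨x, hx, rfl⟩ := h1
    exact hfa.map_normalizer hQN hfai hx hx.2
  have hgaN : ∀ y ∈ N', ga y ∈ N := by
    intro y hy
    have h1 : y ∈ fa '' (N : Set Ω) := hN'.symm ▸ hy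
    obtain ⟨x, hx, rfl⟩ := h1
    rw [hgal x hx]
    exact hx
  have hQ₂T : Q₂ ≤ T := le_T_of_conj hT hP₀T h₂
  have hne : Q₂ ≠ T := ne_T_of_conj hT hP₀T hP₀ h₂
  have : Finite T := finite_of_le hT.1
  obtain ⟨g, hg, hgQ⟩ := Fusion.Alperin.exists_normalizing_not_mem (hS.to_le hT.1) hQ₂T hne
  have hRaT : Ra ≤ N' ⊓ T := le_inf hRaN' (le_T_of_conj hT hQ₂T ((hfa.restrict hQN).isConj hfai))
  have hlt : Nat.card Ra < Nat.card (N' ⊓ T : Subgroup Ω) := by
    rw [hfa.card_img hQN hfai, hfa.card_img inf_le_left (NormalChar.image_inf hT hfa hN')]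
    exact Fusion.Alperin.card_lt_of_le_of_mem (inf_le_right.trans hT.1) (le_inf hQN hQ₂T)
      (g := g) ⟨⟨hT.1 hg.1, hg.2⟩, hg.1⟩ hgQ
  have hRa : F.IsConj P₀ Ra := isConj_trans h₂ ((hfa.restrict hQN).isConj hfai)
  have himg : (fb ∘ ga) '' (Ra : Set Ω) = Rb := by
    rw [Set.image_comp, ← hfai, image_image_eq fun x hx => hgal x (hQN hx), hfbi]
  obtain ⟨R, hRaR, hRbR⟩ := hlink N' Ra Rb (fb ∘ ga) hRa hRaN' hN'le hlt
    (by rw [hfa.card_img le_rfl hN']; exact hm) (hga.comp hfb hgaN) himg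
  exact ⟨R, recv_trans hQ₁ h1a hRaR, recv_trans hQ₃ h3b hRbR⟩

theorem linksT_all (hS : IsPGroup p S) (hT : F.StronglyClosed T) {P₀ : Subgroup Ω} (hP₀T : P₀ ≤ T)
    (hP₀ : P₀ ≠ T) (hbig : ∀ N, N ≤ S → Nat.card P₀ < Nat.card (N ⊓ T : Subgroup Ω) →
      (∃ Q, F.IsConj P₀ Q ∧ Q ≤ N) → Sat F p N)
    (m : ℕ) :
    LinksT F T P₀ m := by
  induction hk : Nat.card S + 1 - m using Nat.strong_induction_on generalizing m with
  | _ k ih =>
  intro N Q Q' f hQc hQN hNQ hltT hmN hf hfi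
  have hlt : Nat.card Q < Nat.card N := by
    have : Finite N := finite_of_le hf.le
    exact lt_of_lt_of_le hltT (Subgroup.card_le_of_le inf_le_left)
  have hNS : N ≤ S := hf.le
  have hQS : Q ≤ S := hQN.trans hNS
  have hNle : Nat.card N ≤ Nat.card S := Subgroup.card_le_of_le hNS
  have hQ'c : F.IsConj P₀ Q' := isConj_trans hQc ((hf.restrict hQN).isConj hfi)
  have hQ'S := isConj_le_right hQ'c
  by_cases hN1 : N = normalizerIn S Q
  · subst hN1
    exact ⟨Q', ⟨f, hf, hfi⟩, ⟨id, mor_id (normalizerIn_le Q'), Set.image_id _⟩⟩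
  obtain ⟨L, hL, hLS⟩ := hf.exists_img (le_refl N)
  obtain ⟨f', hf', hfl, -, hf'i⟩ := hf.exists_inv hL
  have hQ'L : Q' ≤ L := by
    intro y hy
    have h1 : y ∈ f '' (Q : Set Ω) := hfi.symm ▸ hy
    obtain ⟨x, hx, rfl⟩ := h1
    show f x ∈ (L : Set Ω)
    rw [← hL]
    exact ⟨x, hQN hx, rfl⟩
  have hLQ' : L ≤ normalizerIn S Q' := by
    intro y hy
    have h1 : y ∈ f '' (N : Set Ω) := hL.symm ▸ hy
    obtain ⟨x, hx, rfl⟩ := h1
    exact hf.map_normalizer hQN hfi hx (hNQ hx).2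
  by_cases hL1 : L = normalizerIn S Q'
  · refine ⟨Q, ⟨id, mor_id (normalizerIn_le Q), Set.image_id _⟩, ⟨f', hL1 ▸ hf', ?_⟩⟩
    rw [← hfi]; exact image_image_eq fun x hx => hfl x (hQN hx)
  have hltP : Nat.card P₀ < Nat.card (N ⊓ T : Subgroup Ω) := isConj_card hQc ▸ hltT
  obtain ⟨K', Q₁, σ, hσ⟩ := exists_target hS (hbig N hNS hltP ⟨Q, hQc, hQN⟩) hQN
  have grow : ∀ {A B : Subgroup Ω} {ρ : Ω → Ω}, F.IsConj P₀ A → A ≤ B → B ≤ normalizerIn S A →
      B ≠ normalizerIn S A → Nat.card A < Nat.card (B ⊓ T : Subgroup Ω) → Nat.card B = Nat.card N →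
      Target F p B A K' Q₁ ρ → Common F A Q₁ ∧ Nat.card N < Nat.card (normalizerIn S Q₁) := by
    intro A B ρ hAc hAB hBA hne hltB hcard hρ
    have hAS := isConj_le_right hAc
    have : Finite (normalizerIn S A) := finite_of_le (normalizerIn_le A)
    obtain ⟨g, hg, hgB⟩ := Fusion.Alperin.exists_normalizing_not_mem
      (hS.to_le (normalizerIn_le A)) hBA hne
    set B' := normalizerIn (normalizerIn S A) B
    have hBB' : B ≤ B' := le_normalizerIn hBA
    have hB'S : B' ≤ normalizerIn S B := fun y hy => ⟨(normalizerIn_le A) hy.1, hy.2⟩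
    have hlt' := Fusion.Alperin.card_lt_of_le_of_mem (hB'S.trans (normalizerIn_le B)) hBB' hg hgB
    obtain ⟨τ, hτ, hτT⟩ := hρ.adjust hS hAB hBB' hB'S (fun y hy => hy.1.2)
    refine ⟨ih (Nat.card S + 1 - Nat.card B') ?_ (Nat.card B') rfl B' A Q₁ τ hAc (hAB.trans hBB')
      (fun y hy => hy.1) (lt_of_lt_of_le hltB ?_) le_rfl hτ hτT.imgQ, ?_⟩
    · have : Nat.card B' ≤ Nat.card S :=
        Subgroup.card_le_of_le (hB'S.trans (normalizerIn_le B))
      omega
    · have : Finite (B' ⊓ T : Subgroup Ω) := finite_of_le (inf_le_right.trans hT.1)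
      exact Subgroup.card_le_of_le (inf_le_inf_right T hBB')
    · have : Finite (normalizerIn S Q₁) := finite_of_le (normalizerIn_le Q₁)
      have := hτ.card_le (B := normalizerIn S Q₁) le_rfl fun x hx =>
        hτ.map_normalizer (hAB.trans hBB') hτT.imgQ hx hx.1.2
      omega
  obtain ⟨h₁, hm1⟩ := grow hQc hQN hNQ hN1 hltT rfl hσ
  obtain ⟨h₂, -⟩ := grow hQ'c hQ'L hLQ' hL1 (by rwa [hf.card_img hQN hfi, hf.card_img inf_le_left (NormalChar.image_inf hT hf hL)])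
    (hf.card_img le_rfl hL) (hσ.comp_inv hQN hf' hL hfi hfl)
  have hQ₁c : F.IsConj P₀ Q₁ := isConj_trans hQc ((hσ.mor.restrict hQN).isConj hσ.imgQ)
  exact common_joinT hT hP₀T hP₀ hS (ih _ (by omega) (Nat.card N + 1) rfl) hQ₁c (by omega) h₁
    (h₂.imp fun R hR => ⟨hR.2, hR.1⟩) hQS hQ'S


end Links

section Prod

variable {S T R : Subgroup Ω} {F : Cfsg.FusionSystem S} {E : Cfsg.FusionSystem T} {p : ℕ}
  [Finite S] [Fact p.Prime] (hS : IsPGroup p S) (hE : E.IsNormalIn F p) (hTR : T ≤ R) (hR : R ≤ S)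

include hS hE hTR

omit hS [Finite S] [Fact p.Prime] in
theorem closed_prodSys : (prodSys F E p hR).StronglyClosed T :=
  ⟨hTR, fun A hA φ hφ => (closedT hE).2 A hA φ (prodSys_sub F E p hR A hφ)⟩

omit hS [Finite S] [Fact p.Prime] hTR in
theorem isConj_F {Q Q' : Subgroup Ω} (h : (prodSys F E p hR).IsConj Q Q') : F.IsConj Q Q' := by
  obtain ⟨φ, hφ, hr⟩ := h
  exact ⟨φ, prodSys_sub F E p hR Q hφ, hr⟩

omit hS hTR [Fact p.Prime] in
theorem tcentric_conj {Q Q' : Subgroup Ω} (hQ : TCentric F T Q)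
    (h : (prodSys F E p hR).IsConj Q Q') : TCentric F T Q' := by
  obtain ⟨f, hf, hfi⟩ := exists_mor_of_isConj (isConj_F hE hR h)
  exact tcentric_image hE hQ hf hfi

/-- A member of a class below `T` with a largest normalizer receives every member. -/
theorem recvT_all {Q₀ : Subgroup Ω} (hQ₀T : Q₀ ≤ T) (hne : Q₀ ≠ T)
    (hQ₀ : (prodSys F E p hR).IsFullyNormalized Q₀)
    (hbig : ∀ N, N ≤ R → Nat.card Q₀ < Nat.card (N ⊓ T : Subgroup Ω) →
      (∃ Q, (prodSys F E p hR).IsConj Q₀ Q ∧ Q ≤ N) → Sat (prodSys F E p hR) p N)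
    {Q : Subgroup Ω} (hQ : (prodSys F E p hR).IsConj Q₀ Q) :
    Recv (prodSys F E p hR) Q Q₀ := by
  set G := prodSys F E p hR with hG
  have : Finite R := finite_of_le hR
  have hRp : IsPGroup p R := hS.to_le hR
  have hT : G.StronglyClosed T := closed_prodSys hE hTR hR
  have hTp : IsPGroup p T := hS.to_le (le_S hE)
  have : Finite T := finite_of_le (le_S hE)
  have hlink := linksT_all (F := G) hRp hT hQ₀T hne hbig 0
  let C : Subgroup Ω → Subgroup Ω → Prop := fun A B => G.IsConj Q₀ A → Common G A B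
  have crefl : ∀ {A : Subgroup Ω}, A ≤ R → Common G A A := fun {A} hA =>
    ⟨A, ⟨id, mor_id (normalizerIn_le A), Set.image_id _⟩,
      ⟨id, mor_id (normalizerIn_le A), Set.image_id _⟩⟩
  -- the system of maps joining members with a common receiver
  let D : Cfsg.FusionSystem R :=
    { Hom := fun M => {φ | φ ∈ G.Hom M ∧ ∀ (A B : Subgroup Ω) (f : Ω → Ω), G.IsConj Q₀ A →
        ∀ hAM : A ≤ M, (∀ x : A, f x = φ (Subgroup.inclusion hAM x)) →
          f '' (A : Set Ω) = B → Common G A B}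
      le_of_mem := fun h => G.le_of_mem h.1
      injective_of_mem := fun h => G.injective_of_mem h.1
      conj_mem := fun {M g} hM hg => ⟨G.conj_mem hM hg, fun A B f hAc hAM hfe hfi => by
        have hAR := isConj_le_right hAc
        have hAT := le_T_of_conj hT hQ₀T hAc
        obtain ⟨s, hs, hsA⟩ := Fusion.Alperin.exists_normalizing_not_mem hTp hAT
          (ne_T_of_conj hT hQ₀T hne hAc)
        refine hlink (normalizerIn R A) A B (fun x => g * x * g⁻¹) hAc (le_normalizerIn hAR) le_rfl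
          (Fusion.Alperin.card_lt_of_le_of_mem (inf_le_right.trans hT.1)
            (le_inf (le_normalizerIn hAR) hAT) (g := s) ⟨⟨hTR hs.1, hs.2⟩, hs.1⟩ hsA)
          (Nat.zero_le _) (mor_conj (normalizerIn_le A) hg) ?_
        rw [← hfi]
        exact Set.image_congr fun x hx => (hfe ⟨x, hx⟩).symm⟩
      comp_mem := fun {P₁ P₂ φ ψ} hφ hψ hm => ⟨G.comp_mem hφ.1 hψ.1 hm,
        fun A B f hAc hAM hfe hfi => by
          obtain ⟨f₁, hf₁, hf₁e⟩ := exists_mor hφ.1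
          obtain ⟨f₂, hf₂, hf₂e⟩ := exists_mor hψ.1
          obtain ⟨A₁, hA₁, -⟩ := hf₁.exists_img hAM
          have hA₁P : A₁ ≤ P₂ := fun y hy => by
            obtain ⟨x, hx, rfl⟩ := hA₁.symm.subset hy
            rw [show f₁ x = _ from hf₁e ⟨x, hAM hx⟩]
            exact hm _
          have hA₁c : G.IsConj Q₀ A₁ := isConj_trans hAc ((hf₁.restrict hAM).isConj hA₁)
          have e2 : f₂ '' (A₁ : Set Ω) = B := by
            rw [← hA₁, ← hfi, Set.image_image]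
            refine Set.image_congr fun x hx => ?_
            rw [show f x = _ from hfe ⟨x, hx⟩, show f₁ x = _ from hf₁e ⟨x, hAM hx⟩]
            exact hf₂e ⟨φ ⟨x, hAM hx⟩, hm _⟩
          exact common_joinT hT hQ₀T hne hRp hlink hA₁c (Nat.zero_le _)
            (hφ.2 A A₁ f₁ hAc hAM (fun x => hf₁e (Subgroup.inclusion hAM x)) hA₁)
            (hψ.2 A₁ B f₂ hA₁c hA₁P (fun x => hf₂e (Subgroup.inclusion hA₁P x)) e2)
            (isConj_le_right hAc)
            (isConj_le_right (isConj_trans hA₁c ((hf₂.restrict hA₁P).isConj e2)))⟩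
      inv_mem := fun {P₁ φ} hφ => by
        obtain ⟨ψ, hψ, hψe⟩ := G.inv_mem hφ.1
        refine ⟨ψ, ⟨hψ, fun A B f hAc hAM hfe hfi => ?_⟩, hψe⟩
        obtain ⟨f₁, hf₁, hf₁e⟩ := exists_mor hφ.1
        have hf : Mor G A f := ⟨_, restrict_mem G hψ hAM, fun x => (hfe x).symm⟩
        have key : ∀ x ∈ A, f x ∈ P₁ ∧ f₁ (f x) = x := by
          intro x hx
          obtain ⟨z, hz⟩ := hAM hx
          have e : f x = z := by
            rw [show f x = _ from hfe ⟨x, hx⟩,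
              show Subgroup.inclusion hAM ⟨x, hx⟩ = (⟨φ z, z, rfl⟩ : φ.range) from
                Subtype.ext hz.symm, hψe]
          rw [e]
          exact ⟨z.2, (hf₁e z).trans hz⟩
        have hBP : B ≤ P₁ := fun y hy => by
          obtain ⟨x, hx, rfl⟩ := hfi.symm.subset hy
          exact (key x hx).1
        have h1 := hφ.2 B A f₁ (isConj_trans hAc (hf.isConj hfi)) hBP
          (fun x => hf₁e (Subgroup.inclusion hBP x))
          (by rw [← hfi]; exact image_image_eq fun x hx => (key x hx).2)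
        exact h1.imp fun W hW => ⟨hW.2, hW.1⟩ }
  have hGD : G.IsSubsystemOf D := prodSys_le hR fun M γ hγ => by
    have hγG := (mem_autGroup_iff G hγ.le).1 (genElt_mem hR hγ)
    refine (mem_autGroup_iff _ hγ.le).2 ⟨hγG, fun A B f hAc hAM hfe hfi => ?_⟩
    have hAT := le_T_of_conj hT hQ₀T hAc
    have hAR := isConj_le_right hAc
    obtain ⟨f₁, hf₁, hf₁e⟩ := exists_mor hγG
    have heq : ∀ x ∈ A, f x = f₁ x := fun x hx =>
      (hfe ⟨x, hx⟩).trans (hf₁e (Subgroup.inclusion hAM ⟨x, hx⟩)).symm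
    by_cases hAe : A = M ⊓ T
    · have e : B = A := SetLike.coe_injective (by
        have hMi : f₁ '' (M : Set Ω) = M := by
          have : Finite M := finite_of_le (hγ.le.trans hR)
          exact image_eq hf₁ fun x hx => (hf₁e ⟨x, hx⟩).symm ▸ (γ ⟨x, hx⟩).2
        rw [← hfi, Set.image_congr heq, hAe]
        exact NormalChar.image_inf hT hf₁ hMi)
      rw [e]
      exact crefl hAR
    · have : Finite (M ⊓ T : Subgroup Ω) := finite_of_le (inf_le_right.trans hT.1)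
      obtain ⟨s, hs, hsA⟩ := Fusion.Alperin.exists_normalizing_not_mem
        (hTp.to_le (inf_le_right : M ⊓ T ≤ T)) (le_inf hAM hAT) hAe
      have hsM : s ∈ M ⊓ T := hs.1
      refine hlink (normalizerIn M A) A B f₁ hAc (le_normalizerIn hAM)
        (fun y hy => ⟨hγ.le hy.1, hy.2⟩)
        (Fusion.Alperin.card_lt_of_le_of_mem (inf_le_right.trans hT.1)
          (le_inf (le_normalizerIn hAM) hAT) (g := s) ⟨⟨hsM.1, hs.2⟩, hsM.2⟩ hsA)
        (Nat.zero_le _) (hf₁.restrict (normalizerIn_le A)) ?_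
      rw [← hfi]
      exact Set.image_congr fun x hx => (heq x hx).symm
  obtain ⟨f, hf, hfi⟩ := exists_mor_of_isConj hQ
  obtain ⟨φ, hφ, hφe⟩ := hf
  obtain ⟨W, ⟨g, hg, hgi⟩, hQW⟩ := (hGD Q₀ hφ).2 Q₀ Q f (isConj_refl G hQ₀.1) le_rfl
    (fun x => (hφe x).symm) hfi
  refine recv_trans (isConj_le_right hQ) hQW ?_
  have hQN := le_normalizerIn (S := R) hQ₀.1
  have hQW' : G.IsConj Q₀ W := (hg.restrict hQN).isConj hgi
  obtain ⟨N', hN', -⟩ := hg.exists_img (le_refl (normalizerIn R Q₀))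
  have : Finite (normalizerIn R W) := finite_of_le (normalizerIn_le W)
  have hN'W : N' = normalizerIn R W := by
    refine Subgroup.eq_of_le_of_card_ge (fun y hy => ?_) ?_
    · obtain ⟨x, hx, rfl⟩ := hN'.symm.subset hy
      exact hg.map_normalizer hQN hgi hx hx.2
    · rw [hg.card_img le_rfl hN']
      exact hQ₀.2 W hQW'
  obtain ⟨g', hg', hgl, -, -⟩ := hg.exists_inv hN'
  refine ⟨g', hN'W ▸ hg', ?_⟩
  rw [← hgi]; exact image_image_eq fun x hx => hgl x (hQN hx)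

end Prod

end CfsgLib.Product89
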