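import Cfsg.Agent.Fus.Product89.Receive
import Cfsg.Agent.Fus.Product89.Realise
import Cfsg.Agent.Fus.Realized
import Cfsg.Agent.Fus.Meet.Extend
import Cfsg.Agent.FusAut.PPower

/-!
The local group at a fully normalized `T`-centric intersection, and the maps it realizes.
-/

set_option autoImplicit false

namespace CfsgLib.Product89

open Cfsg Cfsg.FusionSystem CfsgLib.Fus CfsgLib.NormalCent
open CfsgLib.Fus.Generated (Recv Sat image_image_eq)

variable {Ω : Type*} [Group Ω] {S T R Q Q' : Subgroup Ω} {F : Cfsg.FusionSystem S}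
  {E : Cfsg.FusionSystem T} {p : ℕ} {f : Ω → Ω} {M : Type*} [Group M]
  {ι : normalizerIn S Q' →* M}

/-- The data of the local group at `Q`. -/
structure TCSetup (F : Cfsg.FusionSystem S) (E : Cfsg.FusionSystem T) (p : ℕ) (hR : R ≤ S)
    (Q Q' : Subgroup Ω) (f : Ω → Ω) {M : Type*} [Group M] (ι : normalizerIn S Q' →* M) :
    Prop where
  tc : TCentric F T Q
  fnR : (prodSys F E p hR).IsFullyNormalized Q
  mor : Mor F (normalizerIn S Q) f
  img : f '' (Q : Set Ω) = Q'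
  fn : F.IsFullyNormalized Q'
  model : LocalModel F p Q' M ι
  recv : ∀ A, (prodSys F E p hR).IsConj Q A → Recv (prodSys F E p hR) A Q

/-- The local group read on `N_R(Q)`. -/
noncomputable def jF (ι : normalizerIn S Q' →* M) (f : Ω → Ω) (x : Ω) : M := jMap ι (f x)

variable {hR : R ≤ S}

namespace TCSetup

variable (h : TCSetup F E p hR Q Q' f ι)

include h

theorem le_Q : Q ≤ normalizerIn R Q := le_normalizerIn h.fnR.1

theorem NR_le : normalizerIn R Q ≤ normalizerIn S Q := fun _ hx => ⟨hR hx.1, hx.2⟩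

theorem f_mem {x : Ω} (hx : x ∈ normalizerIn R Q) : f x ∈ normalizerIn S Q' :=
  h.mor.map_normalizer ((h.le_Q).trans h.NR_le) h.img (h.NR_le hx) hx.2

theorem f_inj {x y : Ω} (hx : x ∈ normalizerIn R Q) (hy : y ∈ normalizerIn R Q)
    (e : jF ι f x = jF ι f y) : x = y :=
  h.mor.injOn (h.NR_le hx) (h.NR_le hy) (jMap_inj h.model (h.f_mem hx) (h.f_mem hy) e)

/-- `ι ∘ f` on `N_R(Q)`. -/
noncomputable def jHom : normalizerIn R Q →* M :=
  MonoidHom.mk' (fun x => jF ι f x) fun x y => by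
    show jMap ι (f ((x : Ω) * y)) = jMap ι (f x) * jMap ι (f y)
    rw [h.mor.map_mul (h.NR_le x.2) (h.NR_le y.2), jMap_mul (h.f_mem x.2) (h.f_mem y.2)]

theorem jF_mul {x y : Ω} (hx : x ∈ normalizerIn R Q) (hy : y ∈ normalizerIn R Q) :
    jF ι f (x * y) = jF ι f x * jF ι f y := map_mul h.jHom ⟨x, hx⟩ ⟨y, hy⟩

theorem jF_inv {x : Ω} (hx : x ∈ normalizerIn R Q) : jF ι f x⁻¹ = (jF ι f x)⁻¹ :=
  map_inv h.jHom ⟨x, hx⟩

theorem jHom_range_le : h.jHom.range ≤ ι.range := by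
  rintro _ ⟨x, rfl⟩
  exact jMap_mem_range (h.f_mem x.2)

theorem tc' [Finite S] (hE : E.IsNormalIn F p) : TCentric F T Q' :=
  tcentric_image hE h.tc (h.mor.restrict ((h.le_Q).trans h.NR_le)) h.img

/-- The group `L · j(N_R(Q))`. -/
noncomputable def hGrp (E' : Cfsg.FusionSystem T) : Subgroup M :=
  lGrp E' p h.model h.fn.1 ⊔ h.jHom.range

theorem l_mem {l : M} (hl : l ∈ lGrp E p h.model h.fn.1) : l ∈ h.hGrp E :=
  Subgroup.mem_sup_left hl

theorem j_mem {x : Ω} (hx : x ∈ normalizerIn R Q) : jF ι f x ∈ h.hGrp E :=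
  Subgroup.mem_sup_right ⟨⟨x, hx⟩, rfl⟩

/-- `g` is conjugation by an element of the local group on `W`. -/
def RealOn (E' : Cfsg.FusionSystem T) (W : Subgroup Ω) (g : Ω → Ω) : Prop :=
  ∃ m ∈ h.hGrp E', ∀ x ∈ W, g x ∈ normalizerIn R Q ∧ m * jF ι f x * m⁻¹ = jF ι f (g x)

theorem qMap_jF {x : Ω} (hx : x ∈ Q) : jF ι f x ∈ (qMap ι h.fn.1).range := by
  have hy : f x ∈ Q' := h.img.subset ⟨x, hx, rfl⟩
  exact ⟨⟨f x, hy⟩, qMap_eq_jMap _ _⟩

theorem mem_Q_of_qMap {x : Ω} (hx : x ∈ normalizerIn R Q)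
    (hy : jF ι f x ∈ (qMap ι h.fn.1).range) : x ∈ Q := by
  obtain ⟨⟨y, hy'⟩, e⟩ := hy
  rw [qMap_eq_jMap] at e
  have e' := jMap_inj h.model (le_normalizerIn h.fn.1 hy') (h.f_mem hx) e
  exact (h.mor.injOn.mem_image_iff (fun _ hq => h.NR_le (h.le_Q hq)) (h.NR_le hx)).1
    (h.img.symm.subset (e' ▸ hy'))

variable [Finite S] [Fact p.Prime] (hS : IsPGroup p S) (hE : E.IsNormalIn F p) (hTR : T ≤ R)

include hS hE hTR

theorem normal_L : (lGrp E p h.model h.fn.1).Normal :=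
  normal_lGrp h.model h.fn.1 hS hE (h.tc' hE).1

/-- An element of `L` in the image of `N_R(Q)` comes from `T`. -/
theorem mem_T {x : Ω} (hx : x ∈ normalizerIn R Q) (hL : jF ι f x ∈ lGrp E p h.model h.fn.1) :
    x ∈ T := by
  have h1 := mem_T_of_mem_lGrp h.model h.fn.1 hS hE (h.tc' hE) h.fn (n := ⟨f x, h.f_mem hx⟩)
    (by rwa [← jMap_apply (h.f_mem hx)])
  exact (NormalChar.mor_mem_iff (closedT hE) h.mor (h.NR_le hx)).1 h1

/-- `f` carries `N_T(Q)` onto `N_T(Q')`. -/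
theorem map_normalizerT {n : Ω} (hn : n ∈ normalizerIn T Q') :
    ∃ x ∈ normalizerIn T Q, f x = n := by
  have hF := hE.1.2.1
  have hTS := le_S hE
  set G := prodSys F E p hR
  have hQT := h.tc.1
  have hQN : Q ≤ normalizerIn S Q := (h.le_Q).trans h.NR_le
  obtain ⟨φ, hφ, hφe⟩ := h.mor.restrict hQN
  obtain ⟨a, ha, φ₀, hφ₀, he⟩ := hE.1.2.2.2.2.2 Q hQT φ hφ
  have hφ₀T : ∀ x : Q, φ₀ x ∈ T := hom_mem E hφ₀
  have hconj : G.IsConj Q φ₀.range := ⟨φ₀, sub_prodSys hE hS hTR hR Q hφ₀, rfl⟩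
  obtain ⟨r, hr, hri⟩ := h.recv _ hconj
  obtain ⟨fa, hfa, hfae, hfai⟩ := exists_mor_of_aut hTS ⟨a, ha⟩
  obtain ⟨ai, hai, hal, har, haii⟩ := hfa.exists_inv hfai
  have hAT : φ₀.range ≤ T := by rintro _ ⟨x, rfl⟩; exact hφ₀T x
  have himg : fa '' (φ₀.range : Set Ω) = Q' := by
    rw [← h.img]
    ext y
    constructor
    · rintro ⟨_, ⟨x, rfl⟩, rfl⟩
      exact ⟨x, x.2, ((hφe x).symm.trans ((he x (hφ₀T x)).trans (hfae ⟨φ₀ x, hφ₀T x⟩).symm))⟩
    · rintro ⟨x, hx, rfl⟩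
      exact ⟨_, ⟨⟨x, hx⟩, rfl⟩,
        ((hfae ⟨φ₀ ⟨x, hx⟩, hφ₀T _⟩).trans ((he ⟨x, hx⟩ (hφ₀T _)).symm.trans (hφe ⟨x, hx⟩)))⟩
  have hQ'T : Q' ≤ T := (h.tc' hE).1
  have haiQ : ai '' (Q' : Set Ω) = φ₀.range := by
    rw [← himg]; exact image_image_eq fun x hx => hal x (hAT hx)
  have : Finite (normalizerIn T Q) := finite_of_le ((normalizerIn_le Q).trans hTS)
  have : Finite (normalizerIn T φ₀.range) := finite_of_le ((normalizerIn_le _).trans hTS)
  have h1 : Nat.card (normalizerIn T Q') ≤ Nat.card (normalizerIn T φ₀.range) :=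
    hai.card_le (normalizerIn_le _) fun x hx =>
      ⟨mor_mem_T hE hai hx.1 hx.1, (hai.map_normalizer hQ'T haiQ hx.1 hx.2).2⟩
  have hsub : normalizerIn T φ₀.range ≤ normalizerIn R φ₀.range := fun x hx => ⟨hTR hx.1, hx.2⟩
  have h2 : Nat.card (normalizerIn T φ₀.range) ≤ Nat.card (normalizerIn T Q) :=
    hr.card_le hsub fun x hx =>
      ⟨mor_mem_T hE (mor_of_prodSys hE hR hr) (hsub hx) hx.1,
        (hr.map_normalizer (le_normalizerIn (isConj_le_right hconj)) hri (hsub hx) hx.2).2⟩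
  have hsub' : normalizerIn T Q ≤ normalizerIn S Q := fun x hx => ⟨hTS hx.1, hx.2⟩
  obtain ⟨N', hN', -⟩ := h.mor.exists_img hsub'
  have : Finite (normalizerIn T Q') := finite_of_le ((normalizerIn_le _).trans hTS)
  have hle : N' ≤ normalizerIn T Q' := fun y hy => by
    obtain ⟨x, hx, rfl⟩ := hN'.symm.subset hy
    exact ⟨mor_mem_T hE h.mor (hsub' hx) hx.1, (h.mor.map_normalizer hQN h.img (hsub' hx) hx.2).2⟩
  have e := Subgroup.eq_of_le_of_card_ge hle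
    (by rw [h.mor.card_img hsub' hN']; exact h1.trans h2)
  exact hN'.symm.subset (show n ∈ (N' : Set Ω) by rw [e]; exact hn)

theorem exists_jF_of_L {n : normalizerIn S Q'} (hn : ι n ∈ lGrp E p h.model h.fn.1) :
    ι n ∈ h.jHom.range := by
  obtain ⟨x, hx, hxn⟩ := h.map_normalizerT hS hE hTR (n := (n : Ω))
    ⟨mem_T_of_mem_lGrp h.model h.fn.1 hS hE (h.tc' hE) h.fn hn, n.2.2⟩
  refine ⟨⟨x, hTR hx.1, hx.2⟩, ?_⟩
  show jMap ι (f x) = ι n
  rw [hxn, jMap_coe]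

/-- The image of `N_R(Q)` is a Sylow subgroup of the local group. -/
theorem sylow_hGrp : ∃ U : Sylow p (h.hGrp E),
    (U : Subgroup (h.hGrp E)) = h.jHom.range.subgroupOf (h.hGrp E) := by
  have := h.model.fin
  obtain ⟨U₀, hU₀⟩ := h.model.syl
  have hLn := h.normal_L hS hE hTR
  set L := lGrp E p h.model h.fn.1
  have hjp : IsPGroup p h.jHom.range := (hU₀ ▸ U₀.isPGroup' : IsPGroup p ι.range).to_le h.jHom_range_le
  refine Meet.exists_sylow_of_le (hjp.comap_of_injective _ (Subgroup.subtype_injective _))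
    fun V hV hle v hv => ?_
  obtain ⟨W, hW⟩ := sylow_inf_normal U₀ L
  set V' := V.map (h.hGrp E).subtype
  have hV' : IsPGroup p (V' ⊓ L : Subgroup M) :=
    (hV.map _).to_le inf_le_left
  have hLj : (U₀ : Subgroup M) ⊓ L ≤ h.jHom.range := by
    rintro y ⟨hy, hyL⟩
    rw [SetLike.mem_coe, hU₀] at hy
    obtain ⟨n, rfl⟩ := hy
    exact h.exists_jF_of_L hS hE hTR hyL
  have hUV : (U₀ : Subgroup M) ⊓ L ≤ V' ⊓ L := fun y hy => by
    refine ⟨⟨⟨y, h.l_mem hy.2⟩, hle ?_, rfl⟩, hy.2⟩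
    exact hLj hy
  have hWV : (W : Subgroup L) ≤ (V' ⊓ L).subgroupOf L := fun y hy =>
    hUV (hW ▸ (⟨y, hy, rfl⟩ : (y : M) ∈ (W : Subgroup L).map L.subtype))
  have heq := W.is_maximal' (hV'.comap_of_injective _ (Subgroup.subtype_injective _)) hWV
  obtain ⟨l, hl, r, hr, hlr⟩ := (Subgroup.mem_sup_of_normal_left (s := L)).1 v.2
  have hlV : l ∈ V' ⊓ L := by
    refine ⟨?_, hl⟩
    have hrV : r ∈ V' := ⟨⟨r, Subgroup.mem_sup_right hr⟩, hle hr, rfl⟩
    have hvV : (v : M) ∈ V' := ⟨v, hv, rfl⟩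
    rw [← hlr] at hvV
    simpa using mul_mem hvV (inv_mem hrV)
  have hlW : (⟨l, hl⟩ : L) ∈ (W : Subgroup L) := heq ▸ hlV
  have hlj : l ∈ h.jHom.range :=
    hLj (hW ▸ (⟨⟨l, hl⟩, hlW, rfl⟩ : l ∈ (W : Subgroup L).map L.subtype))
  show (v : M) ∈ h.jHom.range
  rw [← hlr]
  exact mul_mem hlj hr

/-- A `p'`-automorphism of the product stabilizing `Q` is realized. -/
theorem real_of_pprime {W : Subgroup Ω} (hQW : Q ≤ W) (hW : W ≤ normalizerIn R Q) {γ : MulAut W}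
    (hγ : γ ∈ (prodSys F E p hR).autGroup W) (hco : (orderOf γ).Coprime p)
    (hγQ : ∀ x : W, (x : Ω) ∈ Q → ((γ x : W) : Ω) ∈ Q) :
    ∃ l ∈ lGrp E p h.model h.fn.1, ∀ x : W,
      l * jF ι f x * l⁻¹ = jF ι f ((γ x : W) : Ω) := by
  have hWR : W ≤ R := hW.trans (normalizerIn_le Q)
  obtain ⟨hd, b, hb, hbe⟩ := aut_of_prodSys hE hS hR hWR hγ hco
  have hQT := h.tc.1
  have : Finite W := finite_of_le (hWR.trans hR)
  have : Finite Q := finite_of_le (hQT.trans (le_S hE))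
  have hγF : γ ∈ F.autGroup W := autGroup_mono (prodSys_sub F E p hR) W hγ
  have hfW := h.mor.restrict (hW.trans h.NR_le)
  obtain ⟨W', hW', -⟩ := hfW.exists_img le_rfl
  obtain ⟨θ, -, hθ⟩ := Generated.exists_transport hfW hW'
  obtain ⟨a, haE, ha⟩ : ∃ a ∈ E.autGroup Q, ∀ x : Q,
      ((a x : Q) : Ω) = ((γ (Subgroup.inclusion hQW x) : W) : Ω) := by
    have hQW' : Q ≤ W ⊓ T := le_inf hQW hQT
    obtain ⟨g, hg, hge⟩ := exists_mor ((mem_autGroup_iff E inf_le_right).1 hb)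
    have hgv : ∀ x : Q, g x = ((γ (Subgroup.inclusion hQW x) : W) : Ω) := fun x =>
      (hge (Subgroup.inclusion hQW' x)).trans (hbe _)
    have hgi : g '' (Q : Set Ω) = Q := image_eq (hg.restrict hQW') fun x hx => by
      rw [hgv ⟨x, hx⟩]; exact hγQ _ hx
    obtain ⟨⟨a, ha⟩, hae⟩ := exists_aut_of_mor (hg.restrict hQW') hgi
    exact ⟨a, ha, fun x => (hae x).trans (hgv x)⟩
  obtain ⟨φ, hφ, hφe⟩ := h.mor.restrict ((h.le_Q).trans h.NR_le)
  have hr : φ.range = Q' := SetLike.coe_injective (by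
    rw [← h.img]
    ext y
    constructor
    · rintro ⟨x, rfl⟩; exact ⟨x, x.2, (hφe x).symm⟩
    · rintro ⟨x, hx, rfl⟩; exact ⟨⟨x, hx⟩, hφe _⟩)
  have ha' := congr_mem_E hE hφ hr hQT haE
  have hQ'W' : Q' ≤ W' := fun y hy => by
    obtain ⟨x, hx, rfl⟩ := h.img.symm.subset hy
    exact hW'.subset ⟨x, hQW hx, rfl⟩
  have hW'N : W' ≤ normalizerIn S Q' := fun y hy => by
    obtain ⟨x, hx, rfl⟩ := hW'.symm.subset hy
    exact h.f_mem (hW hx)
  obtain ⟨l, hl, hle⟩ := exists_realized hS hE h.model (h.tc' hE) h.fn hQ'W' hW'N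
    (γ := (θ ⟨γ, hγF⟩ : MulAut W')) (θ _).2 (hco.coprime_dvd_left (by
      rw [Subgroup.orderOf_coe]
      exact (orderOf_map_dvd θ _).trans (by rw [Subgroup.orderOf_mk])))
    (fun y => by
      obtain ⟨x, hx, hxy⟩ := hW'.symm.subset y.2
      rw [show y = (⟨f x, hW'.subset ⟨x, hx, rfl⟩⟩ : W') from Subtype.ext hxy.symm]
      rw [hθ ⟨γ, hγF⟩ ⟨x, hx⟩ (hW'.subset ⟨x, hx, rfl⟩)]
      show (f x)⁻¹ * f ((γ ⟨x, hx⟩ : W) : Ω) ∈ T
      rw [← hfW.map_inv hx, ← hfW.map_mul (W.inv_mem hx) (γ ⟨x, hx⟩).2]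
      exact mor_mem_T hE hfW (W.mul_mem (W.inv_mem hx) (γ ⟨x, hx⟩).2) (hd ⟨x, hx⟩))
    ha' (fun y => by
      obtain ⟨x, rfl⟩ := (isoOf hφ hr).surjective y
      have e : ((isoOf hφ hr x : Q') : Ω) = f x := by rw [isoOf_apply, hφe]
      rw [show Subgroup.inclusion hQ'W' (isoOf hφ hr x) =
          (⟨f x, hW'.subset ⟨x, hQW x.2, rfl⟩⟩ : W') from Subtype.ext e]
      refine (hθ ⟨γ, hγF⟩ (Subgroup.inclusion hQW x) _).trans ?_
      show f ((γ (Subgroup.inclusion hQW x) : W) : Ω) =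
        ((isoOf hφ hr (a ((isoOf hφ hr).symm (isoOf hφ hr x))) : Q') : Ω)
      rw [MulEquiv.symm_apply_apply, isoOf_apply, hφe, ha])
  refine ⟨l, hl, fun x => ?_⟩
  have h1 := hle ⟨f x, hW'.subset ⟨x, x.2, rfl⟩⟩
  rw [hθ ⟨γ, hγF⟩ x] at h1
  exact h1.symm

/-- The system of the realized maps. -/
noncomputable def hSys : Cfsg.FusionSystem (normalizerIn R Q) where
  Hom P := {φ | P ≤ normalizerIn R Q ∧ (∀ x, φ x ∈ normalizerIn R Q) ∧
    ∃ m ∈ h.hGrp E, ∀ x : P, m * jF ι f x * m⁻¹ = jF ι f (φ x)}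
  le_of_mem hφ := ⟨hφ.1, hφ.2.1⟩
  injective_of_mem := fun {P φ} hφ x y e => by
    obtain ⟨hP, -, m, -, hm⟩ := hφ
    have h1 := hm x
    rw [e, ← hm y, mul_left_inj, mul_right_inj] at h1
    exact Subtype.ext (h.f_inj (hP x.2) (hP y.2) h1)
  conj_mem := fun {P g} hP hg => ⟨hP, fun x => mul_mem (mul_mem hg (hP x.2)) (inv_mem hg),
    _, h.j_mem hg, fun x => by
      show jF ι f g * jF ι f x * (jF ι f g)⁻¹ = jF ι f (g * (x : Ω) * g⁻¹)
      rw [h.jF_mul (mul_mem hg (hP x.2)) (inv_mem hg), h.jF_mul hg (hP x.2), h.jF_inv hg]⟩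
  comp_mem := fun {P P' φ ψ} ⟨hP, _, m, hm, hme⟩ ⟨_, hψ, n, hn, hne⟩ hmem =>
    ⟨hP, fun x => hψ _, n * m, mul_mem hn hm, fun x => by
      show _ = jF ι f (ψ ⟨φ x, hmem x⟩)
      rw [← hne ⟨φ x, hmem x⟩]
      show _ = n * jF ι f (φ x) * n⁻¹
      rw [← hme x]
      group⟩
  inv_mem := fun {P φ} ⟨hP, hφ, m, hm, hme⟩ => by
    have hφi : Function.Injective φ := fun x y e => by
      have h1 := hme x
      rw [e, ← hme y, mul_left_inj, mul_right_inj] at h1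
      exact Subtype.ext (h.f_inj (hP x.2) (hP y.2) h1)
    refine ⟨P.subtype.comp (MonoidHom.ofInjective hφi).symm.toMonoidHom,
      ⟨?_, fun y => hP ((MonoidHom.ofInjective hφi).symm y).2, m⁻¹, inv_mem hm, fun y => ?_⟩,
      fun x => congrArg Subtype.val ((MonoidHom.ofInjective hφi).symm_apply_apply x)⟩
    · rintro _ ⟨x, rfl⟩; exact hφ x
    · obtain ⟨x, rfl⟩ := (MonoidHom.ofInjective hφi).surjective y
      show m⁻¹ * jF ι f (φ x) * m⁻¹⁻¹ =
        jF ι f ((MonoidHom.ofInjective hφi).symm (MonoidHom.ofInjective hφi x) : Ω)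
      rw [MulEquiv.symm_apply_apply, ← hme x]
      group

theorem isSaturated_hSys : h.hSys.IsSaturated p := by
  have := h.model.fin
  have : Finite (normalizerIn R Q) := finite_of_le ((normalizerIn_le Q).trans hR)
  let ι' : normalizerIn R Q →* h.hGrp E := h.jHom.codRestrict _ fun x => h.j_mem x.2
  have hr : ι'.range = h.jHom.range.subgroupOf (h.hGrp E) := by
    ext y
    constructor
    · rintro ⟨x, rfl⟩; exact ⟨x, rfl⟩
    · rintro ⟨x, hx⟩; exact ⟨x, Subtype.ext hx⟩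
  obtain ⟨U, hU⟩ := h.sylow_hGrp hS hE hTR
  refine isSaturated_of_realized (ι := ι') ⟨fun x y e => Subtype.ext
    (h.f_inj x.2 y.2 (congrArg Subtype.val e)), fun P hP φ hφ => ⟨?_, ?_⟩⟩ ⟨U, hU.trans hr.symm⟩
  · rintro ⟨-, -, m, hm, hme⟩
    exact ⟨⟨m, hm⟩, fun x => Subtype.ext (hme x).symm⟩
  · rintro ⟨m, hm⟩
    exact ⟨hP, hφ, m, m.2, fun x => (congrArg Subtype.val (hm x)).symm⟩

/-- The realized maps lie in the product. -/
theorem hSys_le : h.hSys.IsSubsystemOf (prodSys F E p hR) := by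
  have := h.model.fin
  set G := prodSys F E p hR
  set D := h.hSys
  have hTS := le_S hE
  have hNR : normalizerIn R Q ≤ S := (normalizerIn_le Q).trans hR
  have : Finite (normalizerIn R Q) := finite_of_le hNR
  have hLn := h.normal_L hS hE hTR
  have hQ'tc := h.tc' hE
  intro P
  refine FusAut.hom_subset_of_pResidual (hS.to_le hNR) (h.isSaturated_hSys hS hE hTR) G
    (normalizerIn_le Q) (fun X hX => ?_) P
  refine Subgroup.map_le_iff_le_comap.2 ((Subgroup.closure_le _).2 fun α hα => ?_)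
  show ((α : MulAut X)) ∈ G.autGroup X
  have hαco : (orderOf (α : MulAut X)).Coprime p := by rwa [Subgroup.orderOf_coe]
  obtain ⟨-, -, m₀, hm₀, hm₀e⟩ := (mem_autGroup_iff D hX).1 α.2
  obtain ⟨k, n, -, hn, hmn, hk⟩ := exists_coprime_exponent (p := p) m₀ hαco
  have hco : (orderOf (m₀ ^ k)).Coprime p := hn.coprime_dvd_left (orderOf_dvd_of_pow_eq_one hmn)
  set m := m₀ ^ k with hm
  have hmL : m ∈ lGrp E p h.model h.fn.1 :=
    mem_lGrp_of_coprime h.model h.fn.1 hS hE hLn h.jHom_range_le (pow_mem hm₀ k) hco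
  have hmX : ∀ x : X, m * jF ι f x * m⁻¹ = jF ι f (((α : MulAut X) x : X) : Ω) := fun x => by
    have hpow : ∀ (i : ℕ) (x : X), m₀ ^ i * jF ι f x * (m₀ ^ i)⁻¹ =
        jF ι f ((((α : MulAut X) ^ i) x : X) : Ω) := by
      intro i
      induction i with
      | zero => intro x; simp
      | succ i ih =>
        intro x
        have h0 := hm₀e ((((α : MulAut X)) ^ i) x)
        change _ = jF ι f (((α : MulAut X) (((α : MulAut X) ^ i) x) : X) : Ω) at h0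
        rw [pow_succ' (α : MulAut X), MulAut.mul_apply, ← h0, ← ih, pow_succ']
        group
    have h1 := hpow k x
    rwa [hk (α : MulAut X) rfl] at h1
  -- the extension to `X Q`
  set W := X ⊔ Q with hWd
  have hW : W ≤ normalizerIn R Q := sup_le hX h.le_Q
  have hQW : Q ≤ W := le_sup_right
  have hWR : W ≤ R := hW.trans (normalizerIn_le Q)
  have : Finite W := finite_of_le (hWR.trans hR)
  let V : Subgroup Ω :=
    { carrier := {x | x ∈ normalizerIn R Q ∧ ∃ y ∈ W, m * jF ι f x * m⁻¹ = jF ι f y}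
      one_mem' := ⟨one_mem _, 1, one_mem _, by
        rw [show jF ι f (1 : Ω) = 1 from map_one h.jHom]; group⟩
      mul_mem' := fun {a b} ⟨ha, y, hy, hye⟩ ⟨hb, z, hz, hze⟩ => ⟨mul_mem ha hb, y * z,
        mul_mem hy hz, by
          rw [h.jF_mul ha hb, h.jF_mul (hW hy) (hW hz), ← hye, ← hze]
          group⟩
      inv_mem' := fun {a} ⟨ha, y, hy, hye⟩ => ⟨inv_mem ha, y⁻¹, inv_mem hy, by
          rw [h.jF_inv ha, h.jF_inv (hW hy), ← hye]
          group⟩ }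
  have hWV : W ≤ V := sup_le
    (fun x hx => ⟨hX hx, _, Subgroup.mem_sup_left ((α : MulAut X) ⟨x, hx⟩).2, hmX ⟨x, hx⟩⟩)
    fun x hx => by
      obtain ⟨q, hq⟩ := (normal_range_qMap h.model h.fn.1).conj_mem _ (h.qMap_jF hx) m
      obtain ⟨y, hy, hyq⟩ := h.img.symm.subset q.2
      refine ⟨h.le_Q hx, y, hQW hy, ?_⟩
      rw [← hq, qMap_eq_jMap]
      show jMap ι (q : Ω) = jMap ι (f y)
      rw [hyq]
  have hfW := h.mor.restrict (hW.trans h.NR_le)
  obtain ⟨W', hW', -⟩ := hfW.exists_img le_rfl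
  have hW'N : W' ≤ normalizerIn S Q' := fun y hy => by
    obtain ⟨x, hx, rfl⟩ := hW'.symm.subset hy
    exact h.f_mem (hW hx)
  have hval : ∀ y ∈ W', ∃ z ∈ W', m * jMap ι y * m⁻¹ = jMap ι z := fun y hy => by
    obtain ⟨x, hx, rfl⟩ := hW'.symm.subset hy
    obtain ⟨-, z, hz, hze⟩ := hWV hx
    exact ⟨f z, hW'.subset ⟨z, hz, rfl⟩, hze⟩
  obtain ⟨c, hc, hce⟩ := h.model.conj m hW'N fun y => by
    obtain ⟨z, hz, hze⟩ := hval y y.2
    rw [← jMap_coe]
    show m * jMap ι (y : Ω) * m⁻¹ ∈ ι.range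
    rw [hze]
    exact jMap_mem_range (hW'N hz)
  have hcv : ∀ y ∈ W', c y ∈ W' ∧ jMap ι (c y) = m * jMap ι y * m⁻¹ := fun y hy => by
    obtain ⟨hcy, e⟩ := hce ⟨y, hy⟩
    rw [← jMap_coe, ← jMap_coe] at e
    change jMap ι (c y) = m * jMap ι y * m⁻¹ at e
    obtain ⟨z, hz, hze⟩ := hval y hy
    rw [jMap_inj h.model hcy (hW'N hz) (e.trans hze)]
    exact ⟨hz, hze.symm⟩
  have : Finite W' := finite_of_le (hW'N.trans (normalizerIn_le Q'))
  obtain ⟨⟨γ', hγ'⟩, hγ'e⟩ := exists_aut hc le_rfl fun y hy => (hcv y hy).1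
  obtain ⟨i, hi, hil, hir, hii⟩ := hfW.exists_inv hW'
  obtain ⟨θ, -, hθ⟩ := Generated.exists_transport hi hii
  set γ : MulAut W := (θ ⟨γ', hγ'⟩ : MulAut W) with hγdef
  have hγv : ∀ x : W, f ((γ x : W) : Ω) = c (f x) ∧
      m * jF ι f x * m⁻¹ = jF ι f ((γ x : W) : Ω) := fun x => by
    have hfx : f x ∈ W' := hW'.subset ⟨x, x.2, rfl⟩
    have hm' : i (f x) ∈ W := by rw [hil x x.2]; exact x.2
    have h1 := hθ ⟨γ', hγ'⟩ ⟨f x, hfx⟩ hm'
    rw [show (⟨i (f x), hm'⟩ : W) = x from Subtype.ext (hil x x.2), hγ'e] at h1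
    have e : f ((γ x : W) : Ω) = c (f x) := by
      rw [hγdef, h1]
      exact hir _ (hcv _ hfx).1
    exact ⟨e, by show m * jMap ι (f x) * m⁻¹ = jMap ι (f _); rw [e, (hcv _ hfx).2]⟩
  have hγco : (orderOf γ).Coprime p := by
    refine hco.coprime_dvd_left (orderOf_dvd_of_pow_eq_one (MulEquiv.ext fun x => Subtype.ext ?_))
    have hpow : ∀ (j : ℕ) (x : W), m ^ j * jF ι f x * (m ^ j)⁻¹ =
        jF ι f (((γ ^ j) x : W) : Ω) := by
      intro j
      induction j with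
      | zero => intro x; simp
      | succ j ih =>
        intro x
        rw [pow_succ' γ, MulAut.mul_apply, ← (hγv _).2, ← ih, pow_succ']
        group
    have h1 := hpow (orderOf m) x
    rw [pow_orderOf_eq_one, one_mul, inv_one, mul_one] at h1
    exact (h.f_inj (hW x.2) (hW ((γ ^ orderOf m) x).2) h1).symm
  have hγd : ∀ x : W, (x : Ω)⁻¹ * ((γ x : W) : Ω) ∈ T := fun x => by
    have hx := hW x.2
    have hy := hW (γ x).2
    have h1 : jF ι f (((γ x : W) : Ω) * (x : Ω)⁻¹) ∈ lGrp E p h.model h.fn.1 := by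
      rw [h.jF_mul hy (inv_mem hx), h.jF_inv hx, ← (hγv x).2]
      have h2 := mul_mem hmL (hLn.conj_mem _ (inv_mem hmL) (jF ι f x))
      convert h2 using 1
      group
    have h3 := conj_mem_T hE (inv_mem (hR (hWR x.2)))
      (h.mem_T hS hE hTR (mul_mem hy (inv_mem hx)) h1)
    convert h3 using 1
    group
  obtain ⟨⟨a, ha, hae⟩, -⟩ := lGrp_le h.model h.fn.1 hmL
  set K := W' ⊓ T with hK
  have hQ'K : Q' ≤ K := le_inf (fun y hy => by
    obtain ⟨x, hx, rfl⟩ := h.img.symm.subset hy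
    exact hW'.subset ⟨x, hQW hx, rfl⟩) hQ'tc.1
  have hcK : ∀ y ∈ K, c y ∈ K := fun y hy => ⟨(hcv y hy.1).1, mor_mem_T hE hc hy.1 hy.2⟩
  obtain ⟨⟨b', hb'⟩, hb'e⟩ := exists_aut hc (inf_le_left : K ≤ W') hcK
  have hb'co : (orderOf b').Coprime p := by
    refine hco.coprime_dvd_left (orderOf_dvd_of_pow_eq_one (MulEquiv.ext fun y => Subtype.ext ?_))
    have hpow : ∀ (j : ℕ) (y : K), m ^ j * jMap ι (y : Ω) * (m ^ j)⁻¹ =
        jMap ι (((b' ^ j) y : K) : Ω) := by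
      intro j
      induction j with
      | zero => intro y; simp
      | succ j ih =>
        intro y
        rw [pow_succ' b', MulAut.mul_apply, hb'e, (hcv _ ((b' ^ j) y).2.1).2, ← ih, pow_succ']
        group
    have h1 := hpow (orderOf m) y
    rw [pow_orderOf_eq_one, one_mul, inv_one, mul_one] at h1
    exact (jMap_inj h.model (hW'N y.2.1) (hW'N ((b' ^ orderOf m) y).2.1) h1).symm
  have hb'E : b' ∈ E.autGroup K := Meet.mem_autGroup_of_restrict hS hE.1 (closedT hE) le_rfl hQ'tc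
    h.fn hQ'K (fun y hy => ⟨hy.2, (hW'N hy.1).2⟩) ha hb' hb'co
    (fun q => by
      refine jMap_inj h.model (hW'N (b' _).2.1) (le_normalizerIn h.fn.1 (a q).2) ?_
      rw [hb'e, ← qMap_eq_jMap h.fn.1 (a q), ← hae q]
      exact ((hcv _ (hQ'K q.2).1).2).trans (by rw [qMap_eq_jMap]))
    fun g hg => ⟨c g, hcK g hg, fun q hgq => by
      have hv : ∀ q : Q', c q = ((a q : Q') : Ω) := fun q =>
        jMap_inj h.model (hW'N (hcv _ (hQ'K q.2).1).1) (le_normalizerIn h.fn.1 (a q).2)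
          (by rw [(hcv _ (hQ'K q.2).1).2, ← qMap_eq_jMap h.fn.1 (a q), ← hae q, qMap_eq_jMap])
      rw [← hv ⟨_, hgq⟩, ← hv q]
      exact hc.map_conj hg.1 (hQ'K q.2).1⟩
  have hWT : Q ≤ W ⊓ T := le_inf hQW h.tc.1
  have hres : ∃ b ∈ E.autGroup (W ⊓ T), ∀ x : (W ⊓ T : Subgroup Ω),
      ((b x : (W ⊓ T : Subgroup Ω)) : Ω) =
        ((γ (Subgroup.inclusion inf_le_left x) : W) : Ω) := by
    obtain ⟨φ, hφ, hφe⟩ := hi.restrict (inf_le_left : K ≤ W')
    have hr : φ.range = W ⊓ T := SetLike.coe_injective (by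
      rw [← NormalChar.image_inf (closedT hE) hi hii]
      ext y
      constructor
      · rintro ⟨x, rfl⟩; exact ⟨x, x.2, (hφe x).symm⟩
      · rintro ⟨x, hx, rfl⟩; exact ⟨⟨x, hx⟩, hφe _⟩)
    refine ⟨_, congr_mem_E hE hφ hr inf_le_right hb'E, fun x => ?_⟩
    obtain ⟨y, rfl⟩ := (isoOf hφ hr).surjective x
    have e : ((isoOf hφ hr y : (W ⊓ T : Subgroup Ω)) : Ω) = i y := by rw [isoOf_apply, hφe]
    have hiy : i y ∈ W := hii.subset ⟨y, y.2.1, rfl⟩
    show ((isoOf hφ hr (b' ((isoOf hφ hr).symm (isoOf hφ hr y))) : (W ⊓ T : Subgroup Ω)) : Ω) = _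
    rw [MulEquiv.symm_apply_apply, isoOf_apply, hφe, hb'e,
      show Subgroup.inclusion inf_le_left (isoOf hφ hr y) = (⟨i y, hiy⟩ : W) from Subtype.ext e,
      hγdef]
    refine Eq.trans ?_ (hθ ⟨γ', hγ'⟩ ⟨y, y.2.1⟩ hiy).symm
    exact congrArg i (hγ'e ⟨(y : Ω), y.2.1⟩).symm
  have hgen : GenElt F E p R W γ :=
    ⟨hWR, (θ ⟨γ', hγ'⟩).2, hγco, Meet.tcentric_mono h.tc hWT inf_le_right, hγd, hres⟩
  obtain ⟨g, hg, hge⟩ := exists_mor ((mem_autGroup_iff G hWR).1 (genElt_mem hR hgen))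
  obtain ⟨φ, hφ, hφe⟩ := hg.restrict (le_sup_left : X ≤ W)
  refine mem_autGroup_of_apply G hφ fun x => ?_
  rw [hφe, show g x = _ from hge (Subgroup.inclusion le_sup_left x)]
  refine (h.f_inj (hW (γ _).2) (hX ((α : MulAut X) x).2) ?_).symm
  exact ((hγv _).2).symm.trans (hmX x)

/-- A realized map is a map of the product. -/
theorem mor_of_real {W : Subgroup Ω} {g : Ω → Ω} (hW : W ≤ normalizerIn R Q) {φ : W →* Ω}
    (hφ : ∀ x : W, φ x = g x) (hg : h.RealOn E W g) : φ ∈ (prodSys F E p hR).Hom W := by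
  obtain ⟨m, hm, hme⟩ := hg
  refine h.hSys_le hS hE hTR W ⟨hW, fun x => hφ x ▸ (hme x x.2).1, m, hm, fun x => ?_⟩
  rw [hφ]
  exact (hme x x.2).2

end TCSetup

end CfsgLib.Product89
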