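import Cfsg.Agent.Fus.Product89.TCClass
import Cfsg.Agent.Fus.Product89.Model

/-!
Subgroups of `R` whose intersection with `T` is `T`-centric have fully automized receptive
conjugates in the product.
-/

set_option autoImplicit false

namespace CfsgLib.Product89

open Cfsg Cfsg.FusionSystem CfsgLib.Fus CfsgLib.NormalCent
open CfsgLib.Fus.Generated (Recv Sat image_image_eq)

universe u

variable {Ω : Type u} [Group Ω] {S T R Q Q' : Subgroup Ω} {F : Cfsg.FusionSystem S}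
  {E : Cfsg.FusionSystem T} {p : ℕ} {f : Ω → Ω}
  {hR : R ≤ S}

theorem sylow_congr {X : Type*} [Group X] {A B C D : Subgroup X} (h₁ : A = B) (h₂ : C = D)
    (h : ∃ U : Sylow p A, (U : Subgroup A) = C.subgroupOf A) :
    ∃ U : Sylow p B, (U : Subgroup B) = D.subgroupOf B := by
  subst h₁; subst h₂; exact h

namespace TCSetup

variable {M : Type*} [Group M] {ι : normalizerIn S Q' →* M} (h : TCSetup F E p hR Q Q' f ι)
  [Finite S] [Fact p.Prime] (hS : IsPGroup p S) (hE : E.IsNormalIn F p) (hTR : T ≤ R)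
  (hbig : ∀ N, N ≤ R → Nat.card Q < Nat.card (N ⊓ T : Subgroup Ω) → Q ≤ N →
    Sat (prodSys F E p hR) p N)

include h hS hE hTR hbig

omit hbig in
theorem mor_le {W : Subgroup Ω} {g : Ω → Ω} (hg : Mor h.hSys W g) :
    Mor (prodSys F E p hR) W g := by
  obtain ⟨φ, hφ, hφe⟩ := hg
  exact ⟨φ, h.hSys_le hS hE hTR W hφ, hφe⟩

theorem mor_hSys {W : Subgroup Ω} {g : Ω → Ω} (hQW : Q ≤ W) (hW : W ≤ normalizerIn R Q)
    (hg : Mor (prodSys F E p hR) W g) (hgi : g '' (Q : Set Ω) = Q) : Mor h.hSys W g := by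
  obtain ⟨m, hm, hme⟩ := h.real_all hS hE hTR hbig hQW hW hg hgi
  obtain ⟨φ, hφ, hφe⟩ := hg
  exact ⟨φ, ⟨hW, fun x => by rw [hφe]; exact (hme x x.2).1,
    m, hm, fun x => by rw [hφe]; exact (hme x x.2).2⟩, hφe⟩

omit hS [Fact p.Prime] hbig [Finite S] in
theorem normalizes {P : Subgroup Ω} (hPT : P ⊓ T = Q) {r : Ω} (hr : r ∈ R)
    (hrP : r ∈ Subgroup.normalizer (P : Set Ω)) : r ∈ normalizerIn R Q :=
  ⟨hr, Subgroup.mem_normalizer_iff.2 fun y => by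
    rw [← hPT]
    exact ⟨fun hy => ⟨(Subgroup.mem_normalizer_iff.1 hrP y).1 hy.1,
        conj_mem_T hE (hR hr) hy.2⟩,
      fun hy => ⟨(Subgroup.mem_normalizer_iff.1 hrP y).2 hy.1, by
        have h1 := conj_mem_T hE (S.inv_mem (hR hr)) hy.2
        simpa [mul_assoc] using h1⟩⟩⟩

omit hS [Fact p.Prime] hbig [Finite S] in
theorem le_normalizer {P : Subgroup Ω} (hP : P ≤ R) (hPT : P ⊓ T = Q) :
    P ≤ normalizerIn R Q :=
  fun _ hx => h.normalizes hE hTR hPT (hP hx) (Subgroup.le_normalizer hx)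

omit hbig in
theorem mapsQ {P : Subgroup Ω} {g : Ω → Ω} (hQP : Q ≤ P) (hg : Mor h.hSys P g) :
    g '' (Q : Set Ω) = Q := by
  have : Finite Q := finite_of_le (h.tc.1.trans (le_S hE))
  refine image_eq (hg.restrict hQP) fun x hx => ?_
  obtain ⟨φ, ⟨hP, hφ, m, hm, hme⟩, hφe⟩ := hg
  have h1 := hme ⟨x, hQP hx⟩
  rw [hφe] at h1
  have h2 := hφ ⟨x, hQP hx⟩
  rw [hφe] at h2
  refine h.mem_Q_of_qMap h2 ?_
  rw [← h1]
  exact (normal_range_qMap h.model h.fn.1).conj_mem _ (h.qMap_jF hx) m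

/-- A good conjugate in the system of realized maps is good in the product. -/
theorem good_of_hSys {P : Subgroup Ω} (hPT : P ⊓ T = Q) (hfa : h.hSys.IsFullyAutomized p P)
    (hrc : h.hSys.IsReceptive P) :
    (prodSys F E p hR).IsFullyAutomized p P ∧ (prodSys F E p hR).IsReceptive P := by
  set G := prodSys F E p hR
  have hT : G.StronglyClosed T := closed_prodSys hE hTR hR
  have hPN : P ≤ normalizerIn R Q := hfa.1
  have hPR : P ≤ R := hPN.trans (normalizerIn_le Q)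
  have hQP : Q ≤ P := hPT ▸ inf_le_left
  have : Finite R := finite_of_le hR
  refine ⟨⟨hPR, sylow_congr ?_ ?_ hfa.2⟩, ⟨hPR, fun A φ hφ hr => ?_⟩⟩
  · refine le_antisymm (autGroup_mono (h.hSys_le hS hE hTR) P) fun α hα => ?_
    obtain ⟨g, hg, hge, hgi⟩ := exists_mor_of_aut hPR ⟨α, hα⟩
    have h1 := NormalChar.image_inf hT hg hgi
    rw [hPT] at h1
    obtain ⟨φ, hφ, hφe⟩ := h.mor_hSys hS hE hTR hbig hQP hPN hg h1
    exact mem_autGroup_of_apply _ hφ fun x => ((hφe x).trans (hge x)).symm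
  · ext α
    constructor
    · intro hα
      obtain ⟨t, ht, hte⟩ := mem_autInducedBy_iff.1 hα
      exact mem_autInducedBy_iff.2 ⟨t, ht.1, hte⟩
    · intro hα
      obtain ⟨t, ht, hte⟩ := mem_autInducedBy_iff.1 hα
      exact mem_autInducedBy_iff.2 ⟨t, h.normalizes hE hTR hPT ht (mem_normalizer_of_aut hte), hte⟩
  obtain ⟨u, hu, hue⟩ := exists_mor hφ
  have hui : u '' (A : Set Ω) = P := by
    rw [← hr]
    ext y
    constructor
    · rintro ⟨x, hx, rfl⟩; exact ⟨⟨x, hx⟩, (hue ⟨x, hx⟩).symm⟩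
    · rintro ⟨x, rfl⟩; exact ⟨x, x.2, hue x⟩
  have hAR : A ≤ R := hu.le
  have huT := NormalChar.image_inf hT hu hui
  rw [hPT] at huT
  obtain ⟨ρ, hρ, hρi⟩ := h.recv _ (isConj_symm ((hu.restrict inf_le_left).isConj huT))
  have hAN : normalizerIn R A ≤ normalizerIn R (A ⊓ T) := fun r hr => ⟨hr.1,
    Subgroup.mem_normalizer_iff.2 fun y =>
      ⟨fun hy => ⟨(Subgroup.mem_normalizer_iff.1 hr.2 y).1 hy.1, conj_mem_T hE (hR hr.1) hy.2⟩,
        fun hy => ⟨(Subgroup.mem_normalizer_iff.1 hr.2 y).2 hy.1, by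
          have h1 := conj_mem_T hE (S.inv_mem (hR hr.1)) hy.2
          simpa [mul_assoc] using h1⟩⟩⟩
  set L := Cfsg.FusionSystem.extender R A φ
  have hLA : L ≤ normalizerIn R A := extender_le_normalizerIn
  have hAL : A ≤ L := le_extender G hφ
  have hρL := hρ.restrict (hLA.trans hAN)
  obtain ⟨A₁, hA₁, -⟩ := hρL.exists_img hAL
  obtain ⟨L₁, hL₁, -⟩ := hρL.exists_img le_rfl
  have hρA := hρL.restrict hAL
  obtain ⟨i, hi, hil, -, hii⟩ := hρA.exists_inv hA₁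
  have hρN : ∀ x ∈ L, ρ x ∈ normalizerIn R Q := fun x hx =>
    hρ.map_normalizer (le_normalizerIn (inf_le_left.trans hAR)) hρi (hAN (hLA hx))
      (hAN (hLA hx)).2
  have hA₁N : A₁ ≤ normalizerIn R Q := fun y hy => by
    obtain ⟨x, hx, rfl⟩ := hA₁.symm.subset hy
    exact hρN x (hAL hx)
  have hQA₁ : Q ≤ A₁ := fun y hy => by
    obtain ⟨x, hx, rfl⟩ := hρi.symm.subset hy
    exact hA₁.subset ⟨x, hx.1, rfl⟩
  have hiA : ∀ y ∈ A₁, i y ∈ A := fun y hy => hii.subset ⟨y, hy, rfl⟩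
  have hu₁ : Mor h.hSys A₁ (u ∘ i) := h.mor_hSys hS hE hTR hbig hQA₁ hA₁N (hi.comp hu hiA) (by
    conv_lhs => rw [← hρi]
    rw [Set.image_comp u, image_image_eq fun x hx => hil x hx.1, huT])
  have hu₁i : (u ∘ i) '' (A₁ : Set Ω) = P := by rw [Set.image_comp, hii, hui]
  have hA₁L₁ : A₁ ≤ L₁ := fun y hy => by
    obtain ⟨x, hx, rfl⟩ := hA₁.symm.subset hy
    exact hL₁.subset ⟨x, hAL hx, rfl⟩
  have hL₁N : L₁ ≤ normalizerIn (normalizerIn R Q) A₁ := fun y hy => by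
    obtain ⟨x, hx, rfl⟩ := hL₁.symm.subset hy
    exact ⟨hρN x hx, (hρL.map_normalizer hAL hA₁ hx (hLA hx).2).2⟩
  obtain ⟨τ, hτ, hτe⟩ := hu₁.exists_ext hu₁i hrc hA₁L₁ hL₁N fun l hl => by
    obtain ⟨x, hx, rfl⟩ := hL₁.symm.subset hl
    obtain ⟨-, hxA, t, ht, htx⟩ := mem_extender_iff.1 hx
    have htu : ∀ a ∈ A, u (x * a * x⁻¹) = t * u a * t⁻¹ := fun a ha => by
      have hxa := conj_mem_of_normalizer hxA ha
      rw [show u a = _ from hue ⟨a, ha⟩, show u (x * a * x⁻¹) = _ from hue ⟨_, hxa⟩]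
      exact htx ⟨a, ha⟩ hxa
    have htP : t ∈ Subgroup.normalizer (P : Set Ω) := by
      have : Finite P := finite_of_le (hPR.trans hR)
      refine Subgroup.mem_normalizer_fintype fun y hy => ?_
      obtain ⟨a, ha, rfl⟩ := hui.symm.subset hy
      rw [← htu a ha]
      exact hui.subset ⟨_, conj_mem_of_normalizer hxA ha, rfl⟩
    refine ⟨t, h.normalizes hE hTR hPT ht htP, fun y hy => ?_⟩
    obtain ⟨a, ha, rfl⟩ := hA₁.symm.subset hy
    show u (i (ρ x * ρ a * (ρ x)⁻¹)) = t * u (i (ρ a)) * t⁻¹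
    rw [← hρL.map_conj hx (hAL ha), hil a ha, hil _ (conj_mem_of_normalizer hxA ha)]
    exact htu a ha
  obtain ⟨ψ, hψ, hψe⟩ := hρL.comp (h.mor_le hS hE hTR hτ) fun x hx => hL₁.subset ⟨x, hx, rfl⟩
  refine ⟨ψ, hψ, fun x hxA hxL => ?_⟩
  rw [hψe ⟨x, hxL⟩]
  show τ (ρ x) = φ ⟨x, hxA⟩
  rw [hτe _ (hA₁.subset ⟨x, hxA, rfl⟩)]
  show u (i (ρ x)) = φ ⟨x, hxA⟩
  rw [hil x hxA]
  exact hue ⟨x, hxA⟩

theorem sat_of_setup {P : Subgroup Ω} (hP : P ≤ R) (hPT : P ⊓ T = Q) :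
    Sat (prodSys F E p hR) p P := by
  have hPN : P ≤ normalizerIn R Q := h.le_normalizer hE hTR hP hPT
  obtain ⟨P', hPP', hfa, hrc⟩ := h.isSaturated_hSys hS hE hTR P hPN
  obtain ⟨g, hg, hgi⟩ := exists_mor_of_isConj hPP'
  have hQP : Q ≤ P := hPT ▸ inf_le_left
  have hgG := h.mor_le hS hE hTR hg
  have h1 := NormalChar.image_inf (closed_prodSys hE hTR hR) hgG hgi
  rw [hPT, h.mapsQ hS hE hTR hQP hg] at h1
  exact ⟨P', hgG.isConj hgi, h.good_of_hSys hS hE hTR hbig (SetLike.coe_injective h1.symm) hfa hrc⟩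

end TCSetup

variable [Finite S] [Fact p.Prime] (hS : IsPGroup p S) (hF : F.IsSaturated p)
  (hE : E.IsNormalIn F p) (hTR : T ≤ R)

include hS hF hE hTR

/-- The `T`-centric half of the saturation of the product. -/
theorem sat_tc {P : Subgroup Ω} (hP : P ≤ R) (htc : TCentric F T (P ⊓ T)) :
    Sat (prodSys F E p hR) p P := by
  induction hk : Nat.card T - Nat.card (P ⊓ T : Subgroup Ω) using Nat.strong_induction_on
    generalizing P with
  | _ k ih =>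
  set G := prodSys F E p hR
  have hT : G.StronglyClosed T := closed_prodSys hE hTR hR
  have hTS := le_S hE
  have : Finite T := finite_of_le hTS
  have : Finite R := finite_of_le hR
  obtain ⟨Q₀, hQ₀c, hQ₀⟩ := exists_fullyNormalized G (inf_le_left.trans hP : P ⊓ T ≤ R)
  have hQ₀tc : TCentric F T Q₀ := tcentric_conj hE hR htc hQ₀c
  have hcard : Nat.card (P ⊓ T : Subgroup Ω) = Nat.card Q₀ := isConj_card hQ₀c
  have hbig : ∀ N, N ≤ R → Nat.card Q₀ < Nat.card (N ⊓ T : Subgroup Ω) →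
      (∃ A, G.IsConj Q₀ A ∧ A ≤ N) → Sat G p N := by
    intro N hN hlt ⟨A, hA, hAN⟩
    have : Nat.card (N ⊓ T : Subgroup Ω) ≤ Nat.card T := Subgroup.card_le_of_le inf_le_right
    exact ih (Nat.card T - Nat.card (N ⊓ T : Subgroup Ω)) (by omega) hN
      (Meet.tcentric_mono (tcentric_conj hE hR hQ₀tc hA)
        (le_inf hAN (le_T_of_conj hT hQ₀tc.1 hA)) inf_le_right) rfl
  have hrecv : ∀ A, G.IsConj Q₀ A → Recv G A Q₀ := fun A hA => by
    by_cases hne : Q₀ = T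
    · have : A = T := Subgroup.eq_of_le_of_card_ge (le_T_of_conj hT hQ₀tc.1 hA)
        (by rw [← isConj_card hA, hne])
      subst this
      exact ⟨id, mor_id (normalizerIn_le A), by rw [Set.image_id, hne]⟩
    · exact recvT_all hS hE hTR hR hQ₀tc.1 hne hQ₀ hbig hA
  obtain ⟨ρ, hρ, hρi⟩ := hrecv _ (isConj_symm hQ₀c)
  have hPN : P ≤ normalizerIn R (P ⊓ T) := fun x hx => ⟨hP hx,
    Subgroup.mem_normalizer_iff.2 fun y =>
      ⟨fun hy => ⟨mul_mem (mul_mem hx hy.1) (P.inv_mem hx), conj_mem_T hE (hR (hP hx)) hy.2⟩,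
        fun hy => by
          have h1 := conj_mem_T hE (S.inv_mem (hR (hP hx))) hy.2
          have h2 := mul_mem (mul_mem (P.inv_mem hx) hy.1) hx
          exact ⟨by simpa [mul_assoc] using h2, by simpa [mul_assoc] using h1⟩⟩⟩
  obtain ⟨P₁, hP₁, hP₁R⟩ := hρ.exists_img hPN
  have hρP := hρ.restrict hPN
  have h1 := NormalChar.image_inf hT hρP hP₁
  rw [hρi] at h1
  have hP₁T : P₁ ⊓ T = Q₀ := SetLike.coe_injective h1.symm
  obtain ⟨Q', hQ'c, hQ'⟩ := exists_fullyNormalized F (hQ₀tc.1.trans hTS)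
  obtain ⟨φ, hφ, hφr, ψ, hψ, hψe⟩ := exists_normalizer_map_fn hS hF hQ' hQ'c
  obtain ⟨f, hf, hfe⟩ := exists_mor hψ
  have hfi : f '' (Q₀ : Set Ω) = Q' := by
    rw [← hφr]
    have hle : Q₀ ≤ normalizerIn S Q₀ := le_normalizerIn (hQ₀tc.1.trans hTS)
    ext y
    constructor
    · rintro ⟨x, hx, rfl⟩
      exact ⟨⟨x, hx⟩, ((hfe ⟨x, hle hx⟩).trans (hψe ⟨x, hx⟩ (hle hx))).symm⟩
    · rintro ⟨x, rfl⟩
      exact ⟨x, x.2, (hfe ⟨x, hle x.2⟩).trans (hψe x (hle x.2))⟩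
  obtain ⟨M, _, ι, hM⟩ := exists_localModel hS hF hQ'
  have h : TCSetup F E p hR Q₀ Q' f ι := ⟨hQ₀tc, hQ₀, hf, hfi, hQ', hM, hrecv⟩
  obtain ⟨P', hP', hgood⟩ := h.sat_of_setup hS hE hTR
    (fun N hN hlt hQN => hbig N hN hlt ⟨Q₀, isConj_refl G hQ₀.1, hQN⟩) hP₁R hP₁T
  exact ⟨P', isConj_trans (hρP.isConj hP₁) hP', hgood⟩

end CfsgLib.Product89
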