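import Cfsg.Agent.Fus.Product89.Link

/-!
Every map of the product stabilizing a fully normalized `T`-centric `Q` is realized in the local
group at `Q`.
-/

set_option autoImplicit false

namespace CfsgLib.Product89

open Cfsg Cfsg.FusionSystem CfsgLib.Fus CfsgLib.NormalCent
open CfsgLib.Fus.Generated (Recv Sat image_image_eq exists_transport)

variable {Ω : Type*} [Group Ω] {S T R Q Q' : Subgroup Ω} {F : Cfsg.FusionSystem S}
  {E : Cfsg.FusionSystem T} {p : ℕ} {f : Ω → Ω} {M : Type*} [Group M]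
  {ι : normalizerIn S Q' →* M} {hR : R ≤ S}

/-- An admissible receiver of a conjugate `A` of `Q`. -/
structure Ok (F : Cfsg.FusionSystem S) (E : Cfsg.FusionSystem T) (p : ℕ) (hR : R ≤ S)
    (Q A : Subgroup Ω) (ψ : Ω → Ω) : Prop where
  mor : Mor (prodSys F E p hR) (normalizerIn R A) ψ
  img : ψ '' (A : Set Ω) = Q
  top : Q = T → ∀ x, ψ x = x

theorem Ok.mapsTo {A : Subgroup Ω} {ψ : Ω → Ω} (h : Ok F E p hR Q A ψ) (hA : A ≤ R) {x : Ω}
    (hx : x ∈ normalizerIn R A) : ψ x ∈ normalizerIn R Q :=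
  h.mor.map_normalizer (le_normalizerIn hA) h.img hx hx.2

namespace TCSetup

variable (h : TCSetup F E p hR Q Q' f ι) [Finite S] [Fact p.Prime] (hS : IsPGroup p S)
  (hE : E.IsNormalIn F p) (hTR : T ≤ R)
  (hbig : ∀ N, N ≤ R → Nat.card Q < Nat.card (N ⊓ T : Subgroup Ω) → Q ≤ N →
    Sat (prodSys F E p hR) p N)

include h hS hE hTR hbig

omit hS [Fact p.Prime] hbig in
theorem eq_top_of_conj {A : Subgroup Ω} (hA : (prodSys F E p hR).IsConj Q A) (hQ : Q = T) :
    A = T := by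
  have : Finite T := finite_of_le (le_S hE)
  have hG : (prodSys F E p hR).StronglyClosed T := closed_prodSys hE hTR hR
  exact Subgroup.eq_of_le_of_card_ge (le_T_of_conj hG h.tc.1 hA) (by rw [← isConj_card hA, hQ])

omit hS [Fact p.Prime] hbig in
theorem exists_ok {A : Subgroup Ω} (hA : (prodSys F E p hR).IsConj Q A) :
    ∃ ψ, Ok F E p hR Q A ψ := by
  by_cases hQ : Q = T
  · refine ⟨id, mor_id (normalizerIn_le A), ?_, fun _ _ => rfl⟩
    rw [h.eq_top_of_conj hE hTR hA hQ, hQ, Set.image_id]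
  · obtain ⟨ψ, hψ, hψi⟩ := h.recv A hA
    exact ⟨ψ, hψ, hψi, fun e => absurd e hQ⟩

/-- Receivers differ by a realized map on a subgroup growing inside `T`. -/
theorem real_between {A B N : Subgroup Ω} {ψA ψB g : Ω → Ω}
    (hA : (prodSys F E p hR).IsConj Q A) (hψA : Ok F E p hR Q A ψA) (hψB : Ok F E p hR Q B ψB)
    (hAN : A ≤ N) (hN : N ≤ normalizerIn R A) (hlt : Nat.card A < Nat.card (N ⊓ T : Subgroup Ω))
    (hg : Mor (prodSys F E p hR) N g) (hgi : g '' (A : Set Ω) = B) :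
    ∃ m ∈ h.hGrp E, ∀ x ∈ N, m * jF ι f (ψA x) * m⁻¹ = jF ι f (ψB (g x)) := by
  have hAR := isConj_le_right hA
  have hψN := hψA.mor.restrict hN
  obtain ⟨W, hW, -⟩ := hψN.exists_img le_rfl
  obtain ⟨i, hi, hil, -, hii⟩ := hψN.exists_inv hW
  have hQW : Q ≤ W := fun y hy => by
    obtain ⟨x, hx, rfl⟩ := hψA.img.symm.subset hy
    exact hW.subset ⟨x, hAN hx, rfl⟩
  have hWN : W ≤ normalizerIn R Q := fun y hy => by
    obtain ⟨x, hx, rfl⟩ := hW.symm.subset hy
    exact hψA.mapsTo hAR (hN hx)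
  have hgN : ∀ x ∈ N, g x ∈ normalizerIn R B := fun x hx =>
    hg.map_normalizer hAN hgi hx (hN hx).2
  have hiN : ∀ y ∈ W, i y ∈ N := fun y hy => hii.subset ⟨y, hy, rfl⟩
  have hu : Mor (prodSys F E p hR) W (ψB ∘ (g ∘ i)) :=
    (hi.comp hg hiN).comp hψB.mor fun y hy => hgN _ (hiN y hy)
  have hui : (ψB ∘ (g ∘ i)) '' (Q : Set Ω) = Q := by
    conv_lhs => rw [← hψA.img]
    rw [Set.image_comp ψB, Set.image_comp g, image_image_eq fun x hx => hil x (hAN hx), hgi,
      hψB.img]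
  have : Finite N := finite_of_le (hg.le.trans hR)
  have hltW : Nat.card Q < Nat.card (W ⊓ T : Subgroup Ω) := by
    rw [hψN.card_img inf_le_left (NormalChar.image_inf (closed_prodSys hE hTR hR) hψN hW),
      isConj_card hA]
    exact hlt
  obtain ⟨m, hm, hme⟩ := h.link_real hS hE hTR hbig hQW hWN hltW hu hui
  refine ⟨m, hm, fun x hx => ?_⟩
  have h1 := (hme (ψA x) (hW.subset ⟨x, hx, rfl⟩)).2
  change _ = jF ι f (ψB (g (i (ψA x)))) at h1
  rwa [hil x hx] at h1

omit hS [Fact p.Prime] hbig in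
/-- A normalizer inside a subgroup meeting `T` in more than `A` grows inside `T`. -/
theorem card_lt_normalizer {A X : Subgroup Ω} (hS : IsPGroup p S) [Fact p.Prime] (hX : X ≤ R)
    (hAX : A ≤ X ⊓ T) (hne : A ≠ X ⊓ T) :
    Nat.card A < Nat.card (normalizerIn X A ⊓ T : Subgroup Ω) := by
  have hXT : X ⊓ T ≤ S := inf_le_left.trans (hX.trans hR)
  have : Finite (X ⊓ T : Subgroup Ω) := finite_of_le hXT
  obtain ⟨s, hs, hsA⟩ := Fusion.Alperin.exists_normalizing_not_mem (hS.to_le hXT) hAX hne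
  exact Fusion.Alperin.card_lt_of_le_of_mem (inf_le_right.trans (le_S hE))
    (le_inf (le_normalizerIn (hAX.trans inf_le_left)) (hAX.trans inf_le_right))
    (g := s) ⟨⟨hs.1.1, hs.2⟩, hs.1.2⟩ hsA

/-- Every map of the product stabilizing `Q` is realized. -/
theorem real_all {W : Subgroup Ω} {g : Ω → Ω} (hQW : Q ≤ W) (hW : W ≤ normalizerIn R Q)
    (hg : Mor (prodSys F E p hR) W g) (hgi : g '' (Q : Set Ω) = Q) : h.RealOn E W g := by
  set G := prodSys F E p hR
  have hT : G.StronglyClosed T := closed_prodSys hE hTR hR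
  have hQR : Q ≤ R := h.fnR.1
  have : Finite R := finite_of_le hR
  let D : Cfsg.FusionSystem R :=
    { Hom := fun X => {φ | φ ∈ G.Hom X ∧ ∀ (A B : Subgroup Ω) (u ψA ψB : Ω → Ω),
        G.IsConj Q A → A ≤ X → (∀ x : X, u x = φ x) → u '' (A : Set Ω) = B →
        Ok F E p hR Q A ψA → Ok F E p hR Q B ψB →
        ∃ m ∈ h.hGrp E, ∀ x ∈ X, x ∈ normalizerIn R A →
          m * jF ι f (ψA x) * m⁻¹ = jF ι f (ψB (u x))}
      le_of_mem := fun hφ => G.le_of_mem hφ.1
      injective_of_mem := fun hφ => G.injective_of_mem hφ.1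
      conj_mem := fun {X r} hX hr => ⟨G.conj_mem hX hr, fun A B u ψA ψB hA hAX hue hui hψA hψB => by
        have hAR := isConj_le_right hA
        have hue' : ∀ x ∈ X, u x = r * x * r⁻¹ := fun x hx => hue ⟨x, hx⟩
        by_cases hQ : Q = T
        · have hAT := h.eq_top_of_conj hE hTR hA hQ
          have hrN : r ∈ normalizerIn R Q := ⟨hr, Subgroup.mem_normalizer_iff.2 fun y => by
            rw [hQ]
            exact ⟨fun hy => conj_mem_T hE (hR hr) hy, fun hy => by
              have h1 := conj_mem_T hE (inv_mem (hR hr)) hy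
              convert h1 using 1
              group⟩⟩
          refine ⟨_, h.j_mem hrN, fun x hx hxA => ?_⟩
          have hxN : x ∈ normalizerIn R Q := by rwa [hQ, ← hAT]
          rw [hψA.top hQ, hψB.top hQ, hue' x hx, h.jF_mul (mul_mem hrN hxN) (inv_mem hrN),
            h.jF_mul hrN hxN, h.jF_inv hrN]
        · obtain ⟨m, hm, hme⟩ := h.real_between hS hE hTR hbig (g := fun x => r * x * r⁻¹) hA hψA
            hψB (le_normalizerIn hAR) le_rfl
            (h.card_lt_normalizer hE hTR hS le_rfl (le_inf hAR (le_T_of_conj hT h.tc.1 hA))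
              (by rw [inf_eq_right.2 hTR]; exact ne_T_of_conj hT h.tc.1 hQ hA))
            (mor_conj (normalizerIn_le A) hr) (by
              rw [← hui]; exact Set.image_congr fun x hx => (hue' x (hAX hx)).symm)
          exact ⟨m, hm, fun x hx hxA => by rw [hme x hxA, hue' x hx]⟩⟩
      comp_mem := fun {X Y φ ψ} hφ hψ hmem => ⟨G.comp_mem hφ.1 hψ.1 hmem,
        fun A B u ψA ψB hA hAX hue hui hψA hψB => by
          obtain ⟨u₁, hu₁, hu₁e⟩ := exists_mor hφ.1
          obtain ⟨u₂, -, hu₂e⟩ := exists_mor hψ.1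
          obtain ⟨A₁, hA₁, -⟩ := hu₁.exists_img hAX
          have hu₁X : ∀ x ∈ X, u₁ x ∈ Y := fun x hx => by
            rw [show u₁ x = _ from hu₁e ⟨x, hx⟩]; exact hmem _
          have hA₁Y : A₁ ≤ Y := fun y hy => by
            obtain ⟨x, hx, rfl⟩ := hA₁.symm.subset hy
            exact hu₁X x (hAX hx)
          have hA₁c : G.IsConj Q A₁ := isConj_trans hA ((hu₁.restrict hAX).isConj hA₁)
          obtain ⟨ψ₁, hψ₁⟩ := h.exists_ok hE hTR hA₁c
          have huu : ∀ x ∈ X, u x = u₂ (u₁ x) := fun x hx => by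
            rw [show u x = _ from hue ⟨x, hx⟩, show u₁ x = _ from hu₁e ⟨x, hx⟩]
            exact (hu₂e ⟨φ ⟨x, hx⟩, hmem _⟩).symm
          have hu₂i : u₂ '' (A₁ : Set Ω) = B := by
            rw [← hA₁, ← hui, Set.image_image]
            exact Set.image_congr fun x hx => (huu x (hAX hx)).symm
          obtain ⟨m₁, hm₁, h₁⟩ := hφ.2 A A₁ u₁ ψA ψ₁ hA hAX hu₁e hA₁ hψA hψ₁
          obtain ⟨m₂, hm₂, h₂⟩ := hψ.2 A₁ B u₂ ψ₁ ψB hA₁c hA₁Y hu₂e hu₂i hψ₁ hψB
          refine ⟨m₂ * m₁, mul_mem hm₂ hm₁, fun x hx hxA => ?_⟩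
          rw [huu x hx, ← h₂ (u₁ x) (hu₁X x hx) (hu₁.map_normalizer hAX hA₁ hx hxA.2),
            ← h₁ x hx hxA]
          group⟩
      inv_mem := fun {X φ} hφ => by
        obtain ⟨ψ, hψ, hψe⟩ := G.inv_mem hφ.1
        refine ⟨ψ, ⟨hψ, fun A B u ψA ψB hA hAX hue hui hψA hψB => ?_⟩, hψe⟩
        obtain ⟨u₁, hu₁, hu₁e⟩ := exists_mor hφ.1
        have hu : Mor G φ.range u := ⟨ψ, hψ, fun x => (hue x).symm⟩
        have hback : ∀ y ∈ φ.range, u y ∈ X ∧ u₁ (u y) = y := fun y hy => by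
          obtain ⟨z, rfl⟩ := hy
          rw [show u (φ z) = z from (hue ⟨φ z, z, rfl⟩).trans (hψe z)]
          exact ⟨z.2, hu₁e z⟩
        have hBX : B ≤ X := fun y hy => by
          obtain ⟨x, hx, rfl⟩ := hui.symm.subset hy
          exact (hback x (hAX hx)).1
        have hu₁i : u₁ '' (B : Set Ω) = A := by
          rw [← hui]; exact image_image_eq fun x hx => (hback x (hAX hx)).2
        have hBc : G.IsConj Q B := isConj_trans hA ((hu.restrict hAX).isConj hui)
        obtain ⟨m, hm, hme⟩ := hφ.2 B A u₁ ψB ψA hBc hBX hu₁e hu₁i hψB hψA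
        refine ⟨m⁻¹, inv_mem hm, fun y hy hyA => ?_⟩
        have h1 := hme (u y) (hback y hy).1 (hu.map_normalizer hAX hui hy hyA.2)
        rw [(hback y hy).2] at h1
        rw [← h1]
        group }
  have hGD : G.IsSubsystemOf D := prodSys_le hR fun X γ hγ => by
    have hγG := genElt_mem (F := F) (E := E) hR hγ
    refine (mem_autGroup_iff D hγ.le).2 ⟨(mem_autGroup_iff G hγ.le).1 hγG, ?_⟩
    intro A B u ψA ψB hA hAX hue hui hψA hψB
    have hXR := hγ.le
    have hAT := le_T_of_conj hT h.tc.1 hA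
    have hAR := isConj_le_right hA
    have hu : Mor G X u := ⟨_, (mem_autGroup_iff G hXR).1 hγG, fun x => (hue x).symm⟩
    have huX : ∀ x ∈ X, u x ∈ X := fun x hx => by
      rw [show u x = _ from hue ⟨x, hx⟩]; exact (γ ⟨x, hx⟩).2
    have : Finite X := finite_of_le (hXR.trans hR)
    by_cases hXT : A = X ⊓ T
    · have hXA : X ≤ normalizerIn R A := fun x hx => ⟨hXR hx, Subgroup.mem_normalizer_iff.2
        fun y => by
          rw [hXT]
          exact ⟨fun hy => ⟨mul_mem (mul_mem hx hy.1) (X.inv_mem hx),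
              conj_mem_T hE (hR (hXR hx)) hy.2⟩,
            fun hy => by
              have h1 := conj_mem_T hE (inv_mem (hR (hXR hx))) hy.2
              have h2 := mul_mem (mul_mem (X.inv_mem hx) hy.1) hx
              constructor
              · simpa [mul_assoc] using h2
              · simpa [mul_assoc] using h1⟩⟩
      have hBA : B = A := by
        have : Finite A := finite_of_le (hAR.trans hR)
        refine Subgroup.eq_of_le_of_card_ge (fun y hy => ?_)
          ((hu.card_img hAX hui).ge)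
        obtain ⟨x, hx, rfl⟩ := hui.symm.subset hy
        rw [hXT]
        exact ⟨huX x (hAX hx), mor_mem_T hE (mor_of_prodSys hE hR hu) (hAX hx) (hAT hx)⟩
      subst B
      have hψX := hψA.mor.restrict hXA
      obtain ⟨V, hV, -⟩ := hψX.exists_img le_rfl
      obtain ⟨θ, -, hθ⟩ := exists_transport hψX hV
      have hQV : Q ≤ V := fun y hy => by
        obtain ⟨x, hx, rfl⟩ := hψA.img.symm.subset hy
        exact hV.subset ⟨x, hAX hx, rfl⟩
      have hVN : V ≤ normalizerIn R Q := fun y hy => by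
        obtain ⟨x, hx, rfl⟩ := hV.symm.subset hy
        exact hψA.mapsTo hAR (hXA hx)
      obtain ⟨l, hl, hle⟩ := h.real_of_pprime hS hE hTR hQV hVN (θ ⟨γ, hγG⟩).2
        (hγ.coprime.coprime_dvd_left (by
          rw [Subgroup.orderOf_coe]
          exact (orderOf_map_dvd θ _).trans (by rw [Subgroup.orderOf_mk])))
        fun y hy => by
          obtain ⟨x, hx, hxy⟩ := hψA.img.symm.subset hy
          rw [show y = (⟨ψA x, hV.subset ⟨x, hAX hx, rfl⟩⟩ : V) from Subtype.ext hxy.symm,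
            hθ ⟨γ, hγG⟩ ⟨x, hAX hx⟩ (hV.subset ⟨x, hAX hx, rfl⟩)]
          refine hψA.img.subset ⟨_, ?_, rfl⟩
          show ((γ ⟨x, hAX hx⟩ : X) : Ω) ∈ A
          have h1 : u x ∈ A := hui.subset ⟨x, hx, rfl⟩
          rwa [show u x = _ from hue ⟨x, hAX hx⟩] at h1
      obtain ⟨m, hm, hme⟩ : ∃ m ∈ h.hGrp E, ∀ z ∈ normalizerIn R A,
          m * jF ι f (ψA z) * m⁻¹ = jF ι f (ψB z) := by
        by_cases hQ : Q = T
        · exact ⟨1, one_mem _, fun z _ => by rw [hψA.top hQ, hψB.top hQ]; group⟩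
        · exact h.real_between hS hE hTR hbig (g := id) hA hψA hψB (le_normalizerIn hAR) le_rfl
            (h.card_lt_normalizer hE hTR hS le_rfl (le_inf hAR hAT)
              (by rw [inf_eq_right.2 hTR]; exact ne_T_of_conj hT h.tc.1 hQ hA))
            (mor_id (normalizerIn_le A)) (Set.image_id _)
      refine ⟨m * l, mul_mem hm (h.l_mem hl), fun x hx _ => ?_⟩
      have h1 := hle ⟨ψA x, hV.subset ⟨x, hx, rfl⟩⟩
      rw [hθ ⟨γ, hγG⟩ ⟨x, hx⟩] at h1
      change l * jF ι f (ψA x) * l⁻¹ = jF ι f (ψA ((γ ⟨x, hx⟩ : X) : Ω)) at h1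
      rw [show ((γ ⟨x, hx⟩ : X) : Ω) = u x from (hue ⟨x, hx⟩).symm] at h1
      rw [← hme (u x) (hXA (huX x hx)), ← h1]
      group
    · obtain ⟨m, hm, hme⟩ := h.real_between hS hE hTR hbig (g := u) (N := normalizerIn X A) hA hψA
        hψB (le_normalizerIn hAX) (fun x hx => ⟨hXR hx.1, hx.2⟩)
        (h.card_lt_normalizer hE hTR hS hXR (le_inf hAX hAT) hXT)
        (hu.restrict (normalizerIn_le A)) hui
      exact ⟨m, hm, fun x hx hxA => hme x ⟨hx, hxA.2⟩⟩
  obtain ⟨φ, hφ, hφe⟩ := hg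
  obtain ⟨m, hm, hme⟩ := (hGD W hφ).2 Q Q g id id (isConj_refl G hQR) hQW (fun x => (hφe x).symm)
    hgi ⟨mor_id (normalizerIn_le Q), Set.image_id _, fun _ _ => rfl⟩
    ⟨mor_id (normalizerIn_le Q), Set.image_id _, fun _ _ => rfl⟩
  exact ⟨m, hm, fun x hx => ⟨(show Mor G W g from ⟨φ, hφ, hφe⟩).map_normalizer hQW hgi hx (hW hx).2,
    hme x hx (hW hx)⟩⟩

end TCSetup

end CfsgLib.Product89
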